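import Cfsg.Agent.Mrg.Omega.IId.CvBig.FourInst
import Cfsg.Agent.Mrg.Omega.IId.CvBig.NormMix


/-!
# CvBig, CASE 2a, `q ≥ 4`: `Big2A4P`, `Big2A4 K` (text: helper796; plug: helper36)
-/

set_option autoImplicit false

namespace Cfsg.Agent.Omega.IId.NV

universe u

theorem big2A4P : Big2A4P.{u} := fun _ _ _ _ _ _ _ _ _ _ _ _ M _ hk hC hD _ _ _ _ _ _ _ p hT h4 =>
  FourI.big2A4 M hC hk hD p hT h4

end Cfsg.Agent.Omega.IId.NV

namespace Cfsg.Agent.Omega.IId.Cv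

open Cfsg.Agent.Omega.Frame (Cls)

universe u

theorem big2A4 (K : Cls.{u}) : Big2A4 K := big2A4_of NV.big2A4P K

end Cfsg.Agent.Omega.IId.Cv
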