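import Cfsg.Agent.Mrg.Omega.IId.CvBig.NormMix
import Cfsg.Agent.Mrg.Omega.IId.CvBig.SylFree
import Cfsg.Agent.Mrg.Omega.IId.BigD.Ccd


/-!
# CvBig: `BigMix K` from helper796's `big2A4`

`D = 1`: helper468's `mix_free`; `q = 2`: `big2A2` and `mixK_end`; `q ≥ 4`: `mixed_false_of`.
-/

set_option autoImplicit false

namespace Cfsg.Agent.Omega.IId.Cv

open Cfsg Cfsg.Agent.Omega.Frame Cfsg.Agent.Omega.IId.NV

universe u

/-- **`BigMix K`** from `big2A4`. -/
theorem bigMix_of (h : Big2A4P.{u}) (K : Cls.{u}) : BigMix K := by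
  intro G _ _ S S' hH P P' _ F F' _ _ _ _ _ _ V V' D D' k k' M M' hk _ hC hC' _ i i' e hu hu'
  have L := lineD_of_ent e
  exfalso
  by_cases h0 : D = ⊥
  · subst h0
    exact mix_free L hC hC' hu hu' (by omega)
  · rcases FrameFF.two_le_card (F := F) with hq | hq
    · obtain ⟨v, hv, w, hw, hne⟩ := e.ne
      obtain ⟨T₁, hT⟩ := big2A2 K G S hH P F V D k M hk hC h0 i ⟨w, e.le_KX' hw, v, hv, Ne.symm hne⟩ hq
      exact mixK_end L hC hC' hu hu' (by omega) hT.two hT.fac hT.line hT.syl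
    · exact mixed_false_of h L hC hC' hu hu' hk h0 hq

end Cfsg.Agent.Omega.IId.Cv
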