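import Cfsg.Agent.Mrg.Omega.IId.BigD.Inst
import Cfsg.Agent.Mrg.Omega.IId.ThmCD.Cor
import Cfsg.Agent.Mrg.Omega.ThmC.FourOf
import Cfsg.Agent.Mrg.Omega.IId.Cv.TwoBTwo


/-!
# CvBig, `q = 2`: the frame over a 2-group `T ≥ stab M i` (helper437; helper932's (1), (3), (4), (5) of bb #20188)

`T` need not be contained in `P` and need not be a Sylow 2-subgroup of `G`.

* `zc_star` : `O₂(P) ≤ B` implies `Ω₁Z(B) ≤ Ω₁Z(O₂(P))`;
* `SitT M i T` : `Sit0 M i`, `V_i` unmixed, `OverT M i T`; `SitT.otT`, `SitT.ztT`;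
* `InsT M i T R o` : the same with the points `R`; `httT`, `otdT`, `decT`, `mem_ZT`, `cen_ofT`, `cen_of_sigT`;
* `InsT.twoT` : `T` not Sylow in `G`, `D ≠ 1`: two elements of `Z₀#`;
* `SitT.exists_swapT` : `n ∈ N(T)`, `n² ∈ T`, `n` moves `v`; `InsT.commonT` : `1 ≠ x ∈ Z₀ ∩ Z₀^n`;
* `SitT.starT` : `n ∈ N(T)` which normalises `C_T(V_i)` centralises the line.
-/

set_option autoImplicit false
set_option linter.unusedSectionVars false

namespace Cfsg.Agent.Omega.IId.NV.BigD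

open Subgroup Pointwise Cfsg Cfsg.Agent.ZN Cfsg.Agent.ZN.ChoiceBase
open Cfsg.Agent.Omega.MinPar Cfsg.Agent.Omega.FFThm
open Cfsg.Agent.MinSimple.VModule (o2_isPGroup)
open Cfsg.Agent.Omega.IId.NV
open Cfsg.Agent.Omega.IId.Big (Fr Vo conj_mem norm_of comm_of_conj conj_of_comm isPGroup_of_sq le_Vo Vo_le
  cent_of_closure KK_le_XX XX_le)
open Triangle (KK KK_conj KK_le_o2 mem_cent mem_KK mem_zpowers_iff_of_sq cent_conj o2_cent_conj)
open Cfsg.Agent.Omega.BTwo (BT BTS WW QQ CenX pt)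
open Cfsg.Agent.Omega.NatPair (NatMod PreMod)

universe u

local notation "cz" v:max => centralizer ({v} : Set _)
local notation "qz" v:max => ZN.o2 (centralizer ({v} : Set _))

section star

variable {G : Type u} [Group G] [Finite G] {S : Sylow 2 G} {P : Subgroup G}

/-- `O₂(P) ≤ B` implies `Ω₁Z(B) ≤ Ω₁Z(O₂(P))` (`B` need not be contained in `P`) -/
theorem zc_star (hc : IsCharacteristicTwoType G) (hP : IsParS (S : Subgroup G) P) {B : Subgroup G}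
    (hB : o2 P ≤ B) : zc B ≤ zc (o2 P) := by
  intro x hx
  obtain ⟨h1, h2, h3⟩ := ZN.mem_zc.1 hx
  have h4 : x ∈ o2 P := Cfsg.Agent.Omega.ThmC.FourOf.cent_o2 hc hP (mem_centralizer_iff.2 fun y hy => h2 y (hB hy))
  exact ZN.mem_zc.2 ⟨h4, fun y hy => h2 y (hB hy), h3⟩

end star

section frame

variable {G : Type u} [Group G] [Finite G] {F : Type} [Field F] [Finite F] [CharP F 2] {S : Sylow 2 G}
  {P V D : Subgroup G} {k : ℕ} {M : NatD F S P V D k}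

/-- CvBig, `q = 2`: `V_i` is unmixed, the 2-group `T ≥ stab M i` normalises `V_i` and is Sylow in `N_G(line M i)`. -/
structure SitT (M : NatD F S P V D k) (i : Fin k) (T : Subgroup G) : Prop extends Sit0 M i where
  unm : Unm M i
  ov : Cv.OverT M i T

namespace SitT

variable {i : Fin k} {T : Subgroup G} (h : SitT M i T)
include h

theorem T_p : IsPGroup 2 T := h.ov.two

theorem st_T : stab M.toNatV i ≤ T := h.ov.le

theorem T_fac : T ≤ normalizer (fac M.toNatV i : Set G) := h.ov.fac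

theorem T_N : T ≤ normalizer (line M.toNatV i : Set G) := h.ov.line

theorem T_commT {v : G} (hv : v ∈ line M.toNatV i) {t : G} (ht : t ∈ T) : t * v = v * t := by
  by_cases hv1 : v = 1
  · rw [hv1, mul_one, one_mul]
  have h1 := h.T_N ht
  rw [h.norm_line hv hv1] at h1
  exact mem_cent.1 h1

theorem T_czT {v : G} (hv : v ∈ line M.toNatV i) : T ≤ cz v := fun _ ht => mem_cent.2 (h.T_commT hv ht)

theorem oddT {v : G} (hv : v ∈ line M.toNatV i) (hv1 : v ≠ 1) : ¬ 2 ∣ T.relIndex (cz v) := by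
  rw [← h.norm_line hv hv1]; exact h.ov.syl

theorem o2_T : o2 P ≤ T := h.o2_le_stab.trans h.st_T

theorem V_TT : V ≤ T := h.V_le_T.trans h.st_T

theorem fac_T : fac M.toNatV i ≤ T := (NV.fac_le _ i).trans h.V_TT

/-- `O₂(C(v)) ≤ T` -/
theorem q_TT {v : G} (hv : v ∈ line M.toNatV i) (hv1 : v ≠ 1) : qz v ≤ T := (h.q_T hv hv1).trans h.st_T

theorem zcT_le : zc T ≤ zc (o2 P) := zc_star h.c2 h.par h.o2_T

theorem line_zcT : line M.toNatV i ≤ zc T := by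
  intro v hv
  exact ZN.mem_zc.2 ⟨h.fac_T (line_le _ i hv), fun t ht => h.T_commT hv ht, by
    rw [pow_two]; exact h.fr.sq i v (line_le _ i hv)⟩

/-- a 2-group `E ≤ C(v)` normalised by `T` lies in `T` -/
theorem le_T {v : G} (hv : v ∈ line M.toNatV i) (hv1 : v ≠ 1) {E : Subgroup G} (hE : IsPGroup 2 E)
    (hEv : E ≤ cz v) (hTE : T ≤ normalizer (E : Set G)) : E ≤ T :=
  HT.LemE.le_of_odd h.T_p (h.T_czT hv) (h.oddT hv hv1) hE hEv hTE

theorem o2_star : o2 P ≤ T ⊓ centralizer (fac M.toNatV i : Set G) := by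
  refine le_inf h.o2_T fun x hx => mem_centralizer_iff.2 fun u hu => ?_
  exact ((ZN.mem_zc.1 (V_le_zz M (NV.fac_le _ i hu))).2.1 x hx).symm

theorem fac_star : fac M.toNatV i ≤ T ⊓ centralizer (fac M.toNatV i : Set G) :=
  le_inf h.fac_T fun x hx => mem_centralizer_iff.2 fun u hu => h.fr.comm i i u hu x hx

/-- `w` normalises `C_T(V_i)`: `V_i^w ≤ Ω₁Z(O₂(P))` -/
theorem star_conj {w : G} (hw : ∀ t ∈ T ⊓ centralizer (fac M.toNatV i : Set G),
      w * t * w⁻¹ ∈ T ⊓ centralizer (fac M.toNatV i : Set G))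
    (hw' : ∀ t ∈ T ⊓ centralizer (fac M.toNatV i : Set G),
      w⁻¹ * t * w ∈ T ⊓ centralizer (fac M.toNatV i : Set G)) {b : G} (hb : b ∈ fac M.toNatV i) :
    w * b * w⁻¹ ∈ zc (o2 P) := by
  refine zc_star h.c2 h.par h.o2_star (ZN.mem_zc.2 ⟨hw b (h.fac_star hb), fun t ht => ?_, ?_⟩)
  · have h1 := mem_centralizer_iff.1 (hw' t ht).2 b hb
    calc t * (w * b * w⁻¹) = w * ((w⁻¹ * t * w) * b) * w⁻¹ := by group
      _ = w * b * w⁻¹ * t := by rw [← h1]; group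
  · rw [pow_two]
    calc w * b * w⁻¹ * (w * b * w⁻¹) = w * (b * b) * w⁻¹ := by group
      _ = 1 := by rw [h.fr.sq i b hb]; group

/-- **(OT) over `T`** (#20188 (1)): `O₂(H)` centralises `V_i` for every `H ≥ ⟨T, X⟩`. -/
theorem otT {H X : Subgroup G} (hTH : T ≤ H) (hDH : X ≤ H) (hDV : X ≤ normalizer (fac M.toNatV i : Set G))
    (hD : ∀ v ∈ fac M.toNatV i, ∀ w ∈ fac M.toNatV i, v ≠ 1 → w ≠ 1 → ∃ d ∈ X, d * v * d⁻¹ = w) :
    ZN.o2 H ≤ centralizer (fac M.toNatV i : Set G) := by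
  have hfact : Fact (Nat.Prime 2) := ⟨Nat.prime_two⟩
  obtain ⟨v, hv, hv1⟩ := exists_line M i
  have hvi := line_le _ i hv
  have hO2 : IsPGroup 2 (ZN.o2 H) := o2_isPGroup H
  have hHO := le_normalizer_o2 H
  -- `O ∩ N(V_i)` centralises `V_i`
  have hVT := h.fac_T
  have hN : ZN.o2 H ⊓ normalizer (fac M.toNatV i : Set G) ≤ centralizer (fac M.toNatV i : Set G) := by
    set N := ZN.o2 H ⊓ normalizer (fac M.toNatV i : Set G) with hNdef
    have hN2 : IsPGroup 2 N := hO2.to_le inf_le_left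
    have hDN : X ≤ normalizer (N : Set G) := by
      refine norm_of fun d hd x hx => ⟨conj_mem hHO (hDH hd) hx.1, ?_⟩
      exact mul_mem (mul_mem (hDV hd) hx.2) ((normalizer (fac M.toNatV i : Set G)).inv_mem (hDV hd))
    have hV2 : IsPGroup 2 (fac M.toNatV i) := isPGroup_of_sq fun x hx => h.fr.sq i x hx
    have hne : fac M.toNatV i ≠ ⊥ := fun h0 => hv1 (by rwa [h0, mem_bot] at hvi)
    obtain ⟨w, hw, hw1, hwN⟩ := Half.exists_fixed hV2 hne hN2 inf_le_right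
    intro x hx
    rw [mem_centralizer_iff]
    intro u hu
    by_cases hu1 : u = 1
    · rw [hu1, one_mul, mul_one]
    obtain ⟨d, hd, hdu⟩ := hD w hw u hu hw1 hu1
    have h1 : d⁻¹ * x * d ∈ N := by
      have := conj_mem hDN (inv_mem hd) hx
      rwa [inv_inv] at this
    have h2 := comm_of_conj (hwN _ h1)
    rw [← hdu]
    calc d * w * d⁻¹ * x = d * (w * (d⁻¹ * x * d)) * d⁻¹ := by group
      _ = x * (d * w * d⁻¹) := by rw [← h2]; group
  -- `O_0 := O ∩ C(v)` is contained in `T` and centralises `V_i`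
  set O₀ := ZN.o2 H ⊓ centralizer (fac M.toNatV i : Set G) with hO₀
  have hTn : T ≤ normalizer (fac M.toNatV i : Set G) := h.T_fac
  have hTO₀ : T ≤ normalizer (O₀ : Set G) := by
    refine norm_of fun t ht x hx => ⟨conj_mem hHO (hTH ht) hx.1, ?_⟩
    exact (mem_normalizer_iff.1 (BTwo.normalizer_le_normalizer_centralizer _ (hTn ht)) x).1 hx.2
  have hT0 : ∀ x ∈ ZN.o2 H, x * v = v * x → x ∈ O₀ ∧ x ∈ T := by
    have hE2 : IsPGroup 2 (ZN.o2 H ⊓ cz v : Subgroup G) := hO2.to_le inf_le_left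
    have hTv : T ≤ cz v := h.T_czT hv
    have hTE : T ≤ normalizer ((ZN.o2 H ⊓ cz v : Subgroup G) : Set G) := by
      refine norm_of fun t ht x hx => ⟨conj_mem hHO (hTH ht) hx.1, ?_⟩
      exact mul_mem (mul_mem (hTv ht) hx.2) ((cz v).inv_mem (hTv ht))
    have hle : ZN.o2 H ⊓ cz v ≤ T := h.le_T hv hv1 hE2 inf_le_right hTE
    intro x hx hxv
    have h1 : x ∈ T := hle ⟨hx, mem_cent.2 hxv⟩
    exact ⟨⟨hx, hN ⟨hx, hTn h1⟩⟩, h1⟩
  have hO₀T : O₀ ≤ T := fun x hx => (hT0 x hx.1 (mem_centralizer_iff.1 hx.2 v hvi).symm).2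
  -- suppose `O > O_0`
  by_contra hcon
  have hlt : O₀ < ZN.o2 H := by
    refine lt_of_le_of_ne inf_le_left fun e => hcon ?_
    rw [← e]
    exact inf_le_right
  have hlt2 := Lib.GoldschmidtFusion.lt_inf_normalizer hO2 hlt
  obtain ⟨w, hw, hwO₀, hwT⟩ := SideOf.exists_fixed_mod (T := T) (not_le_of_gt hlt2) inf_le_right
    (hO2.to_le inf_le_left) h.T_p hTO₀ (norm_of fun t ht x hx =>
      ⟨conj_mem hHO (hTH ht) hx.1, mul_mem (mul_mem (hTO₀ ht) hx.2)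
        ((normalizer (O₀ : Set G)).inv_mem (hTO₀ ht))⟩)
  have hwn : w ∈ normalizer (O₀ : Set G) := hw.2
  have hwn' : ∀ x ∈ O₀, w⁻¹ * x * w ∈ O₀ := fun x hx => by
    have := (mem_normalizer_iff.1 (inv_mem hwn) x).1 hx
    rwa [inv_inv] at this
  -- `T_* := C_T(V_i)`
  set Ts := T ⊓ centralizer (fac M.toNatV i : Set G) with hTs
  have hO₀Ts : O₀ ≤ Ts := le_inf hO₀T inf_le_right
  have hTsw : ∀ t ∈ Ts, w⁻¹ * t * w ∈ Ts := by
    intro t ht
    have h1 : t⁻¹ * w * t * w⁻¹ ∈ O₀ := by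
      have := hwT t⁻¹ (inv_mem ht.1)
      rwa [inv_inv] at this
    have h2 := hwn' _ h1
    have e : w⁻¹ * t * w = t * (w⁻¹ * (t⁻¹ * w * t * w⁻¹) * w)⁻¹ := by group
    rw [e]
    exact mul_mem ht (inv_mem (hO₀Ts h2))
  have hTsw' : ∀ t ∈ Ts, w * t * w⁻¹ ∈ Ts := by
    intro t ht
    have h1 := hwT t ht.1
    have e : w * t * w⁻¹ = (t * w * t⁻¹ * w⁻¹)⁻¹ * t := by group
    rw [e]
    exact mul_mem (inv_mem (hO₀Ts h1)) ht
  -- `V_i^w ≤ ZZ`
  have hwV : ∀ b ∈ fac M.toNatV i, w * b * w⁻¹ ∈ zc (o2 P) := fun b hb => h.star_conj hTsw' hTsw hb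
  obtain ⟨b, hb, hb1, hvb⟩ := h.fr.exists_other (i := i) v
  obtain ⟨a, ha, hab⟩ := h.fr.move hvi hb hv1 hb1 hvb
  have haT : a ∈ T := h.q_TT hv hv1 (h.fr.KK_le_q hvi hv1 ha)
  have ho : w * a * w⁻¹ * a⁻¹ ∈ O₀ := by
    have h1 := inv_mem (hwT a haT)
    have e : (a * w * a⁻¹ * w⁻¹)⁻¹ = w * a * w⁻¹ * a⁻¹ := by group
    rwa [e] at h1
  have hOy : ∀ o ∈ O₀, o * (w * b * w⁻¹) = w * b * w⁻¹ * o := by
    intro o ho
    have h1 := mem_centralizer_iff.1 (hwn' o ho).2 b hb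
    calc o * (w * b * w⁻¹) = w * ((w⁻¹ * o * w) * b) * w⁻¹ := by group
      _ = w * b * w⁻¹ * o := by rw [← h1]; group
  have hOv : ∀ o ∈ O₀, o * v = v * o := fun o ho => (mem_centralizer_iff.1 ho.2 v hvi).symm
  have key : w * v * w⁻¹ = (w * a * w⁻¹ * a⁻¹) * (a * (w * b * w⁻¹) * a⁻¹) * (w * a * w⁻¹ * a⁻¹)⁻¹ *
      (w * b * w⁻¹)⁻¹ := by
    have e : v = a * b * a⁻¹ * b⁻¹ := by rw [hab, mul_inv_cancel_right]
    calc w * v * w⁻¹ = w * (a * b * a⁻¹ * b⁻¹) * w⁻¹ := by rw [← e]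
      _ = _ := by group
  rcases h.fr.KK_act hvi ha (h.zz_q hvi hv1 (hwV b hb)) with h1 | h1
  · rw [h1, hOy _ ho, mul_inv_cancel_right, mul_inv_cancel] at key
    exact hv1 (by
      calc v = w⁻¹ * (w * v * w⁻¹) * w := by group
        _ = 1 := by rw [key]; group)
  · rw [h1] at key
    have h2 : (w * a * w⁻¹ * a⁻¹) * (v * (w * b * w⁻¹)) = v * (w * b * w⁻¹) * (w * a * w⁻¹ * a⁻¹) := by
      calc (w * a * w⁻¹ * a⁻¹) * (v * (w * b * w⁻¹)) = ((w * a * w⁻¹ * a⁻¹) * v) * (w * b * w⁻¹) := by group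
        _ = v * ((w * a * w⁻¹ * a⁻¹) * (w * b * w⁻¹)) := by rw [hOv _ ho]; group
        _ = _ := by rw [hOy _ ho]; group
    rw [h2, mul_inv_cancel_right, mul_inv_cancel_right] at key
    exact hwO₀ (hT0 w hw.1 (comm_of_conj key)).1

/-- **(zt) over `T`** -/
theorem ztT {v : G} (hv : v ∈ line M.toNatV i) (hv1 : v ≠ 1) : ∃ a ∈ T, ∃ b ∈ fac M.toNatV i,
    a * b * a⁻¹ = b * v ∧ ∀ c ∈ T, c * c = 1 →
      (∀ t ∈ T, t ∈ centralizer (fac M.toNatV i : Set G) → t * c = c * t) →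
      a * c * a⁻¹ = c ∨ a * c * a⁻¹ = c * v := by
  have hvi := line_le _ i hv
  obtain ⟨b, hb, hb1, hvb⟩ := h.fr.exists_other (i := i) v
  obtain ⟨a, ha, hab⟩ := h.fr.move hvi hb hv1 hb1 hvb
  refine ⟨a, h.q_TT hv hv1 (h.fr.KK_le_q hvi hv1 ha), b, hb, by rw [hab, h.fr.comm i i v hvi b hb], ?_⟩
  intro c hc hc2 hcc
  have hcV : c ∈ centralizer (fac M.toNatV i : Set G) :=
    mem_centralizer_iff.2 fun u hu => (hcc u (h.fac_star hu).1 (h.fac_star hu).2)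
  have hcz : c ∈ zc (o2 P) := zc_star h.c2 h.par h.o2_star
    (ZN.mem_zc.2 ⟨⟨hc, hcV⟩, fun t ht => hcc t ht.1 ht.2, by rw [pow_two]; exact hc2⟩)
  have hcq := h.zz_q hvi hv1 hcz
  rcases h.fr.KK_act hvi ha hcq with h1 | h1
  · exact Or.inl h1
  · right
    rw [h1]
    exact (mem_cent.1 ((o2_le _) hcq)).symm

/-- `z ∈ Ω₁Z(O₂(P))` centralised by `W_v`, `v ∈ line`: `u * z`, `u ∈ {1, v}`, is centralised by all `W_b`, `b ∈ V_i#`. -/
theorem dec_all {v z : G} (hv : v ∈ line M.toNatV i) (hv1 : v ≠ 1) (hz : z ∈ zc (o2 P))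
    (hvz : ∀ g ∈ qz v, g * z = z * g) :
    ∃ u, (u = 1 ∨ u = v) ∧ ∀ b ∈ fac M.toNatV i, b ≠ 1 → ∀ g ∈ KK b, g * (u * z) = u * z * g := by
  have hvi := line_le _ i hv
  have hfr := h.fr
  obtain ⟨b, hb, hb1, hvb⟩ := hfr.exists_other (i := i) v
  obtain ⟨a, ha, hab⟩ := hfr.move hb hvi hb1 hv1 (Ne.symm hvb)
  obtain ⟨c, hc, hcb⟩ := hfr.move hvi hb hv1 hb1 hvb
  have hvv : v * v = 1 := hfr.sq i v hvi
  have hbb : b * b = 1 := hfr.sq i b hb
  have hcomm : v * b = b * v := hfr.comm i i v hvi b hb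
  have hvg : ∀ g ∈ qz v, g * v = v * g := fun g hg => mem_cent.1 ((o2_le _) hg)
  have hzb := h.zz_q hb hb1 hz
  have hvq : v ∈ zc (o2 P) := V_le_zz M (NV.fac_le _ i hvi)
  -- an element `z' ∈ Ω₁Z(O₂(P))` which commutes with `a` commutes with `W_b`
  have key : ∀ z' ∈ zc (o2 P), a * z' = z' * a → ∀ g ∈ KK b, g * z' = z' * g := by
    intro z' hz' haz g hg
    rcases h.q_dich hb hb1 hvi hv1 (Ne.symm hvb) ha hab (hfr.KK_le_q hb hb1 hg) with h1 | h1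
    · exact h1 z' hz'
    · have h2 := h1 z' hz'
      have h3 : g * z' * a = z' * g * a := by
        calc g * z' * a = g * (a * z') := by rw [haz, mul_assoc]
          _ = g * a * z' := by rw [mul_assoc]
          _ = z' * g * a := by rw [h2, mul_assoc]
      exact mul_right_cancel h3
  have hfin : ∃ u, (u = 1 ∨ u = v) ∧ (∀ g ∈ qz v, g * (u * z) = u * z * g) ∧
      ∀ g ∈ KK b, g * (u * z) = u * z * g := by
    rcases hfr.KK_act hb ha hzb with h1 | h1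
    · refine ⟨1, Or.inl rfl, fun g hg => by rw [one_mul]; exact hvz g hg, fun g hg => ?_⟩
      rw [one_mul]
      exact key z hz (comm_of_conj h1) g hg
    · refine ⟨v, Or.inr rfl, fun g hg => ?_, fun g hg => ?_⟩
      · rw [← mul_assoc, hvg g hg, mul_assoc, hvz g hg, mul_assoc]
      · refine key (v * z) (mul_mem hvq hz) (comm_of_conj ?_) g hg
        calc a * (v * z) * a⁻¹ = (a * v * a⁻¹) * (a * z * a⁻¹) := by group
          _ = b * v * (b * z) := by rw [hab, h1]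
          _ = v * z := by rw [← hcomm, mul_assoc, ← mul_assoc b b z, hbb, one_mul]
  obtain ⟨u, hu, h1, h2⟩ := hfin
  refine ⟨u, hu, fun w hw hw1 g hg => ?_⟩
  rcases hfr.cases4 hvi hb hv1 hb1 hvb hw with rfl | rfl | rfl | rfl
  · exact (hw1 rfl).elim
  · exact h1 g (hfr.KK_le_q hvi hv1 hg)
  · exact h2 g hg
  · -- `v * b = b^c`
    have h3 := KK_conj (h := c⁻¹) hg
    have e1 : c⁻¹ * (v * b) * c⁻¹⁻¹ = b := by rw [← hcb]; group
    rw [e1, inv_inv] at h3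
    have h4 := h2 _ h3
    have h5 := h1 c (hfr.KK_le_q hvi hv1 hc)
    have h6 : c⁻¹ * (u * z) = u * z * c⁻¹ := by
      rw [inv_mul_eq_iff_eq_mul, ← mul_assoc, h5, mul_inv_cancel_right]
    calc g * (u * z) = c * (c⁻¹ * g * c) * (c⁻¹ * (u * z)) := by group
      _ = c * ((c⁻¹ * g * c) * (u * z)) * c⁻¹ := by rw [h6]; group
      _ = (c * (u * z)) * (c⁻¹ * g * c) * c⁻¹ := by rw [h4]; group
      _ = u * z * g := by rw [h5]; group

/-- `n ∈ N(T) ∩ C(v)`, `n² ∈ T`, lies in `T` -/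
theorem mem_of_norm {v n : G} (hv : v ∈ line M.toNatV i) (hv1 : v ≠ 1) (hn : n ∈ normalizer (T : Set G))
    (hn2 : n * n ∈ T) (hnv : n * v = v * n) : n ∈ T := by
  have hfact : Fact (Nat.Prime 2) := ⟨Nat.prime_two⟩
  have hz2 : IsPGroup 2 (zpowers n) := by
    obtain ⟨m, hm⟩ := h.T_p ⟨n * n, hn2⟩
    have hm' : (n * n) ^ 2 ^ m = 1 := congrArg Subtype.val hm
    have hm2 : n ^ 2 ^ (m + 1) = 1 := by rw [pow_succ', pow_mul, pow_two]; exact hm'
    rintro ⟨x, hx⟩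
    obtain ⟨j, rfl⟩ := mem_zpowers_iff.1 hx
    refine ⟨m + 1, Subtype.ext ?_⟩
    change (n ^ j) ^ 2 ^ (m + 1) = 1
    rw [← zpow_natCast, ← zpow_mul, mul_comm, zpow_mul, zpow_natCast, hm2, one_zpow]
  have h1 : zpowers n ≤ normalizer (T : Set G) := zpowers_le.2 hn
  have h2 : IsPGroup 2 (T ⊔ zpowers n : Subgroup G) := IsPGroup.to_sup_of_normal_left' h.T_p hz2 h1
  exact h.le_T hv hv1 h2 (sup_le (h.T_czT hv) (zpowers_le.2 (mem_cent.2 hnv)))
    ((le_sup_left : T ≤ _).trans le_normalizer) (mem_sup_right (mem_zpowers n))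

/-- `T` not Sylow in `G`: some `n ∈ N(T)`, `n² ∈ T`, moves `v`. -/
theorem exists_swapT (hS : ∀ S₁ : Sylow 2 G, (S₁ : Subgroup G) ≠ T) :
    ∃ n ∈ normalizer (T : Set G), n ∉ T ∧ n * n ∈ T ∧
      ∀ v ∈ line M.toNatV i, v ≠ 1 → n * v * n⁻¹ ≠ v := by
  have hfact : Fact (Nat.Prime 2) := ⟨Nat.prime_two⟩
  obtain ⟨S₁, hS₁⟩ := h.T_p.exists_le_sylow
  have hlt : T < (S₁ : Subgroup G) := lt_of_le_of_ne hS₁ fun e => hS S₁ e.symm
  obtain ⟨g, ⟨hg, hgn⟩, hgT⟩ := SetLike.exists_of_lt (Lib.GoldschmidtFusion.lt_inf_normalizer S₁.isPGroup' hlt)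
  obtain ⟨m, hm⟩ := S₁.isPGroup' ⟨g, hg⟩
  have hm' : g ^ 2 ^ m = 1 := congrArg Subtype.val hm
  have hex : ∃ j, g ^ 2 ^ j ∈ T := ⟨m, by rw [hm']; exact one_mem _⟩
  classical
  have hfind := Nat.find_spec hex
  have h0 : Nat.find hex ≠ 0 := by
    intro h0
    rw [h0, pow_zero, pow_one] at hfind
    exact hgT hfind
  obtain ⟨j, hj⟩ := Nat.exists_eq_succ_of_ne_zero h0
  have hjT : g ^ 2 ^ j ∉ T := Nat.find_min hex (by omega)
  have hj2 : g ^ 2 ^ j * g ^ 2 ^ j ∈ T := by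
    rw [hj, Nat.succ_eq_add_one, pow_succ, pow_mul, pow_two] at hfind
    exact hfind
  have hjn : g ^ 2 ^ j ∈ normalizer (T : Set G) := pow_mem hgn _
  exact ⟨g ^ 2 ^ j, hjn, hjT, hj2, fun v hv hv1 e => hjT (h.mem_of_norm hv hv1 hjn hj2 (comm_of_conj e))⟩

/-- (4) of #20188: `n` normalises `T` and `C_T(V_i)`: `n` centralises the line. -/
theorem starT {v n : G} (hv : v ∈ line M.toNatV i) (hv1 : v ≠ 1) (hn : n ∈ normalizer (T : Set G))
    (hs : n ∈ normalizer ((T ⊓ centralizer (fac M.toNatV i : Set G) : Subgroup G) : Set G)) :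
    n * v * n⁻¹ = v := by
  have hvi := line_le _ i hv
  have hfr := h.fr
  obtain ⟨b, hb, hb1, hvb⟩ := hfr.exists_other (i := i) v
  obtain ⟨a, ha, hab⟩ := hfr.move hvi hb hv1 hb1 hvb
  have haT : a ∈ T := h.q_TT hv hv1 (hfr.KK_le_q hvi hv1 ha)
  have hs' : ∀ t ∈ T ⊓ centralizer (fac M.toNatV i : Set G),
      n⁻¹ * t * n ∈ T ⊓ centralizer (fac M.toNatV i : Set G) := fun t ht => by
    have := (mem_normalizer_iff.1 (inv_mem hs) t).1 ht
    rwa [inv_inv] at this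
  have hx : n * b * n⁻¹ ∈ zc (o2 P) := h.star_conj (fun t ht => (mem_normalizer_iff.1 hs t).1 ht) hs' hb
  have haT' : n⁻¹ * a * n ∈ T := by
    have := (mem_normalizer_iff.1 (inv_mem hn) a).1 haT
    rwa [inv_inv] at this
  -- `a^n` moves `b`
  have hna : n⁻¹ * a * n ∉ T ⊓ centralizer (fac M.toNatV i : Set G) := by
    intro h0
    have h1 := (mem_normalizer_iff.1 hs _).1 h0
    have e : n * (n⁻¹ * a * n) * n⁻¹ = a := by group
    rw [e] at h1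
    have h2 := mem_centralizer_iff.1 h1.2 b hb
    rw [← h2, mul_inv_cancel_right] at hab
    exact hv1 (mul_eq_right.1 hab.symm)
  have hav : n⁻¹ * a * n * v = v * (n⁻¹ * a * n) := h.T_commT hv haT'
  have hvv : v * v = 1 := hfr.sq i v hvi
  have hbv : n⁻¹ * a * n * b * (n⁻¹ * a * n)⁻¹ = v * b := by
    have h1 : n⁻¹ * a * n * b * (n⁻¹ * a * n)⁻¹ ∈ fac M.toNatV i :=
      (mem_normalizer_iff.1 (h.T_fac haT') b).1 hb
    rcases hfr.cases4 hvi hb hv1 hb1 hvb h1 with h2 | h2 | h2 | h2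
    · exact (cj_ne_one hb1 h2).elim
    · exfalso
      apply hvb
      have h3 : b = (n⁻¹ * a * n)⁻¹ * v * (n⁻¹ * a * n) := by rw [← h2]; group
      rw [h3, mul_assoc, ← hav]; group
    · exfalso
      apply hna
      refine ⟨haT', mem_centralizer_iff.2 fun x hx => ?_⟩
      have hcb := comm_of_conj h2
      rcases hfr.cases4 hvi hb hv1 hb1 hvb hx with rfl | rfl | rfl | rfl
      · rw [one_mul, mul_one]
      · exact hav.symm
      · exact hcb.symm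
      · calc v * b * (n⁻¹ * a * n) = v * (n⁻¹ * a * n * b) := by rw [mul_assoc, hcb]
          _ = (n⁻¹ * a * n * v) * b := by rw [hav]; group
          _ = n⁻¹ * a * n * (v * b) := by group
    · exact h2
  have hax : a * (n * b * n⁻¹) * a⁻¹ = (n * v * n⁻¹) * (n * b * n⁻¹) := by
    calc a * (n * b * n⁻¹) * a⁻¹ = n * (n⁻¹ * a * n * b * (n⁻¹ * a * n)⁻¹) * n⁻¹ := by group
      _ = _ := by rw [hbv]; group
  rcases hfr.KK_act hvi ha (h.zz_q hvi hv1 hx) with h1 | h1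
  · exfalso
    rw [h1] at hax
    exact cj_ne_one hv1 (mul_eq_right.1 hax.symm)
  · rw [h1] at hax
    exact (mul_right_cancel hax).symm

/-- an element of `V_i` fixed by `T` is in the line -/
theorem eq_of_fixedT {v x : G} (hv : v ∈ line M.toNatV i) (hv1 : v ≠ 1) (hx : x ∈ fac M.toNatV i)
    (hxT : ∀ t ∈ T, t * x = x * t) : x = 1 ∨ x = v :=
  h.eq_of_fixed hv hv1 hx fun t ht => hxT t (h.st_T ht)

/-- (4): `n ∈ N(T)` moves `v`: `V_i ∩ V_i^n = 1` -/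
theorem disjT {v n : G} (hv : v ∈ line M.toNatV i) (hv1 : v ≠ 1) (hn : n ∈ normalizer (T : Set G))
    (hnv : n * v * n⁻¹ ≠ v) {x : G} (hx : x ∈ fac M.toNatV i) (hx' : n⁻¹ * x * n ∈ fac M.toNatV i) : x = 1 := by
  have hfact : Fact (Nat.Prime 2) := ⟨Nat.prime_two⟩
  by_contra hx1
  set E := fac M.toNatV i ⊓ BTwo.cj n (fac M.toNatV i) with hE
  have hE2 : IsPGroup 2 E := h.T_p.to_le (inf_le_left.trans h.fac_T)
  have hEne : E ≠ ⊥ := fun h0 => hx1 (by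
    rw [← mem_bot, ← h0]
    exact ⟨hx, (BTwo.mem_cj).2 hx'⟩)
  have hTE : T ≤ normalizer (E : Set G) := by
    refine norm_of fun t ht y hy => ⟨(mem_normalizer_iff.1 (h.T_fac ht) y).1 hy.1, BTwo.mem_cj.2 ?_⟩
    have ht' : n⁻¹ * t * n ∈ T := by
      have := (mem_normalizer_iff.1 (inv_mem hn) t).1 ht
      rwa [inv_inv] at this
    have h1 := (mem_normalizer_iff.1 (h.T_fac ht') _).1 (BTwo.mem_cj.1 hy.2)
    have e : n⁻¹ * t * n * (n⁻¹ * y * n) * (n⁻¹ * t * n)⁻¹ = n⁻¹ * (t * y * t⁻¹) * n := by group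
    rwa [e] at h1
  obtain ⟨e, he, he1, hec⟩ := Half.exists_fixed hE2 hEne h.T_p hTE
  have h1 := (h.eq_of_fixedT hv hv1 he.1 fun t ht => comm_of_conj (hec t ht)).resolve_left he1
  have h2 : n⁻¹ * e * n ≠ 1 := fun h0 => he1 (by
    calc e = n * (n⁻¹ * e * n) * n⁻¹ := by group
      _ = 1 := by rw [h0]; group)
  have h3 := (h.eq_of_fixedT hv hv1 (BTwo.mem_cj.1 he.2) fun t ht => ?_).resolve_left h2
  · apply hnv
    calc n * v * n⁻¹ = n * (n⁻¹ * e * n) * n⁻¹ := by rw [h3]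
      _ = e := by group
      _ = v := h1
  · have ht' : n * t * n⁻¹ ∈ T := (mem_normalizer_iff.1 hn t).1 ht
    have h4 := comm_of_conj (hec _ ht')
    calc t * (n⁻¹ * e * n) = n⁻¹ * (n * t * n⁻¹ * e) * n := by group
      _ = n⁻¹ * e * n * t := by rw [h4]; group

/-- (4): `n ∈ N(T)` moves `v`: `[V_i, V_i^n] = 1` -/
theorem commT {v n : G} (hv : v ∈ line M.toNatV i) (hv1 : v ≠ 1) (hn : n ∈ normalizer (T : Set G))
    (hnv : n * v * n⁻¹ ≠ v) {x y : G} (hx : x ∈ fac M.toNatV i) (hy : y ∈ fac M.toNatV i) :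
    x * (n * y * n⁻¹) = n * y * n⁻¹ * x := by
  have hyT : n * y * n⁻¹ ∈ T := (mem_normalizer_iff.1 hn y).1 (h.fac_T hy)
  have hxT : n⁻¹ * x * n ∈ T := by
    have := (mem_normalizer_iff.1 (inv_mem hn) x).1 (h.fac_T hx)
    rwa [inv_inv] at this
  have h1 : n * y * n⁻¹ * x * (n * y * n⁻¹)⁻¹ * x⁻¹ = 1 := by
    refine h.disjT hv hv1 hn hnv (mul_mem ((mem_normalizer_iff.1 (h.T_fac hyT) x).1 hx) (inv_mem hx)) ?_
    have e : n⁻¹ * (n * y * n⁻¹ * x * (n * y * n⁻¹)⁻¹ * x⁻¹) * n =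
        y * ((n⁻¹ * x * n) * y * (n⁻¹ * x * n)⁻¹)⁻¹ := by group
    rw [e]
    exact mul_mem hy (inv_mem ((mem_normalizer_iff.1 (h.T_fac hxT) y).1 hy))
  have h2 := mul_inv_eq_one.1 h1
  exact (comm_of_conj h2).symm

end SitT

/-- `SitT` with the points `R` of `V_i`. -/
structure InsT (M : NatD F S P V D k) (i : Fin k) (T : Subgroup G) {κ : Type*} (R : κ → Subgroup G) (o : κ) : Prop
    extends Ins0 M i R o, SitT M i T

namespace InsT

variable {i : Fin k} {T : Subgroup G} {κ : Type*} {R : κ → Subgroup G} {o : κ} (h : InsT M i T R o)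
include h

/-- **(OT)** for `X` over `T` -/
theorem locT {H : Subgroup G} (hT : T ≤ H) (hX : BTwo.XX (fac M.toNatV i) R ≤ H) :
    ZN.o2 H ≤ centralizer (fac M.toNatV i : Set G) :=
  h.otT hT hX h.bts.X_le_NV fun _ hv _ hw hv1 hw1 => h.trans_V hv hw hv1 hw1

/-- the member of `P_Z` over `T` -/
theorem P_ZT {x z : G} (hx : x ∈ T ⊔ BTwo.XX (fac M.toNatV i) R) (hz : z ∈ zc T) :
    x * z * x⁻¹ * z⁻¹ ∈ fac M.toNatV i := by
  have h1 : T ⊔ BTwo.XX (fac M.toNatV i) R ≤ BTwo.cenMod (fac M.toNatV i) (zc T) := by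
    refine sup_le (fun t ht => ⟨h.T_fac ht, fun z hz => ?_⟩) fun x hx =>
      ⟨h.bts.X_le_NV hx, fun z hz => h.comm_zc hx (h.zcT_le hz)⟩
    rw [((ZN.mem_zc.1 hz).2.1 t ht), mul_inv_cancel_right, mul_inv_cancel]
    exact one_mem _
  exact (h1 hx).2 z hz

/-- **The instance over `T`.** -/
theorem httT : HT.HTT T (T ⊔ BTwo.XX (fac M.toNatV i) R) (fac M.toNatV i) R o where
  toBT := h.bts.toBT
  card_R := h.card_R
  char2 := h.c2
  S_p := h.T_p
  S_odd := by rw [h.ro]; exact h.ov.syl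
  S_V := h.T_fac
  S_R := by rw [h.ro]; exact h.T_N
  S_P := le_sup_left
  P_V := sup_le h.T_fac h.bts.X_le_NV
  P_trans j := by
    obtain ⟨x, hx, e⟩ := h.trans_X o j
    exact ⟨x, mem_sup_right hx, e⟩
  P_Z _ hx _ hz := h.P_ZT hx hz
  loc _ hT hX _ _ := h.locT hT hX

/-- `OtD` at `V_i` over `T` -/
theorem otdT {r : G} (hr : ∀ x, x ∈ R o ↔ x = 1 ∨ x = r) (hr1 : r ≠ 1) :
    HT.OtCore.OtD T (fac M.toNatV i) (BTwo.XX (fac M.toNatV i) R) r :=
  HT.EndCore.otD h.httT hr (h.ztT (by rw [← h.ro]; exact (hr r).2 (Or.inr rfl)) hr1)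

/-- `z ∈ Ω₁Z(T)` centralised by the `W_v`, `v ∈ V_i#`, lies in `Z₀` -/
theorem mem_ZT {z : G} (hz : z ∈ zc T) (hc : ∀ v ∈ fac M.toNatV i, v ≠ 1 → ∀ g ∈ KK v, g * z = z * g) :
    z ∈ zc T ⊓ centralizer ((T ⊔ BTwo.XX (fac M.toNatV i) R : Subgroup G) : Set G) := by
  refine ⟨hz, ?_⟩
  have h2 : T ⊔ BTwo.XX (fac M.toNatV i) R ≤ cz z :=
    sup_le (fun t ht => mem_cent.2 ((ZN.mem_zc.1 hz).2.1 t ht)) (h.X_cen hc)
  exact mem_centralizer_iff.2 fun x hx => mem_cent.1 (h2 hx)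

/-- conversely: `c ∈ Z₀` is centralised by all `W_v`, `v ∈ V_i#` -/
theorem cen_ofT {c : G} (hc : c ∈ zc T ⊓ centralizer ((T ⊔ BTwo.XX (fac M.toNatV i) R : Subgroup G) : Set G)) :
    ∀ v ∈ fac M.toNatV i, v ≠ 1 → ∀ g ∈ KK v, g * c = c * g :=
  h.cen_of (fun t ht => (ZN.mem_zc.1 hc.1).2.1 t (h.st_T ht))
    fun x hx => mem_centralizer_iff.1 hc.2 x (mem_sup_right hx)

/-- **`Ω₁Z(T) = ⟨v⟩ × Z₀`** -/
theorem decT {v z : G} (hv : v ∈ line M.toNatV i) (hv1 : v ≠ 1) (hz : z ∈ zc T) :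
    ∃ u, (u = 1 ∨ u = v) ∧ u * z ∈
      zc T ⊓ centralizer ((T ⊔ BTwo.XX (fac M.toNatV i) R : Subgroup G) : Set G) := by
  obtain ⟨u, hu, h1⟩ := h.dec_all hv hv1 (h.zcT_le hz) fun g hg => (ZN.mem_zc.1 hz).2.1 g (h.q_TT hv hv1 hg)
  refine ⟨u, hu, h.mem_ZT (mul_mem ?_ hz) h1⟩
  rcases hu with rfl | rfl
  · exact one_mem _
  · exact h.line_zcT hv

/-- `v ∉ Z₀` -/
theorem not_memT {v : G} (hv : v ∈ line M.toNatV i) (hv1 : v ≠ 1) :
    v ∉ zc T ⊓ centralizer ((T ⊔ BTwo.XX (fac M.toNatV i) R : Subgroup G) : Set G) := fun h0 =>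
  hv1 (h.bts.cen_VX (line_le _ i hv) (mem_centralizer_iff.2 fun x hx =>
    mem_centralizer_iff.1 h0.2 x (mem_sup_right hx)))

/-- **`Sig c` implies `c ∈ D^`** -/
theorem cen_of_sigT {c : G} (hc : c ∈ zc T ⊓
    centralizer ((T ⊔ BTwo.XX (fac M.toNatV i) R : Subgroup G) : Set G))
    (hS : HT.Sig (fac M.toNatV i) R o c) : Cen M c := by
  have hcz := h.zcT_le hc.1
  refine ⟨hcz, fun j v hv hv1 g hg => ?_⟩
  obtain ⟨v₀, hv₀, hv₀1⟩ := exists_line M i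
  by_cases hji : j = i
  · subst hji
    exact h.cen_ofT hc v hv hv1 g hg
  have hgq := h.fr.KK_le_q hv hv1 hg
  have hgV : ∀ x ∈ fac M.toNatV i, g * x = x * g := fun x hx => h.fr.Qc j i (fun e => hji e.symm) v hv hv1 g hgq x hx
  have hRV : R o ≤ fac M.toNatV i := h.bts.R_le o
  have hgN : g ∈ normalizer (R o : Set G) := by
    refine (centralizer_le_normalizer _) ?_
    rw [mem_centralizer_iff]
    exact fun y hy => (hgV y (hRV hy)).symm
  obtain ⟨v₁, hv₁, hv₁1, hvv⟩ := h.fr.exists_other (i := i) v₀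
  have hv₁R : v₁ ∉ R o := by
    rw [h.ro]
    intro h0
    exact hvv ((eq_of_line h.two hv₀ hv₀1 h0).resolve_left hv₁1).symm
  have h1 := hS g hgN (fun x hx => mem_sup_left (by rw [conj_of_comm (hgV x hx)]; exact hx)) v₁ hv₁ hv₁R
  have e1 : (v₁ * c)⁻¹ * g * (v₁ * c) * g⁻¹ = c⁻¹ * (g * c * g⁻¹) := by
    calc (v₁ * c)⁻¹ * g * (v₁ * c) * g⁻¹ = c⁻¹ * v₁⁻¹ * (g * v₁) * c * g⁻¹ := by group
      _ = c⁻¹ * v₁⁻¹ * (v₁ * g) * c * g⁻¹ := by rw [hgV v₁ hv₁]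
      _ = c⁻¹ * (g * c * g⁻¹) := by group
  rw [e1] at h1
  have hcq := h.zz_q hv hv1 hcz
  rcases h.fr.KK_act hv hg hcq with h2 | h2
  · exact comm_of_conj h2
  · exfalso
    have h3 : v * c = c * v := (mem_cent.1 ((o2_le _) hcq)).symm
    rw [h2, h3, inv_mul_cancel_left] at h1
    exact hv1 (h.fr.disj (fun e => hji e) hv (hRV h1))

/-- (3) of #20188: `T` not Sylow in `G`, `D ≠ 1`: two different elements of `Z₀#` -/
theorem twoT (hS : ∀ S₁ : Sylow 2 G, (S₁ : Subgroup G) ≠ T) (hD : D ≠ ⊥) :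
    ∃ x ∈ zc T ⊓ centralizer ((T ⊔ BTwo.XX (fac M.toNatV i) R : Subgroup G) : Set G),
    ∃ y ∈ zc T ⊓ centralizer ((T ⊔ BTwo.XX (fac M.toNatV i) R : Subgroup G) : Set G),
      x ≠ 1 ∧ y ≠ 1 ∧ x ≠ y := by
  have hfact : Fact (Nat.Prime 2) := ⟨Nat.prime_two⟩
  have hk : NeZero k := ⟨by have := h.k2; omega⟩
  obtain ⟨v, hv, hv1⟩ := exists_line M i
  have hvv : v * v = 1 := h.fr.sq i v (line_le _ i hv)
  obtain ⟨S₁, hS₁⟩ := h.T_p.exists_le_sylow
  have hlt : T < (S₁ : Subgroup G) := lt_of_le_of_ne hS₁ fun e => hS S₁ e.symm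
  have hzle : zc (S₁ : Subgroup G) ≤ zc T := by
    intro z hz
    have h1 : z ∈ zc (o2 P) := zc_star h.c2 h.par (h.o2_T.trans hS₁) hz
    exact ZN.mem_zc.2 ⟨h.o2_T (ZN.zc_le _ h1), fun t ht => (ZN.mem_zc.1 hz).2.1 t (hS₁ ht), (ZN.mem_zc.1 hz).2.2⟩
  have hvS : v ∉ zc (S₁ : Subgroup G) := by
    intro h0
    refine hlt.not_ge ?_
    -- `S₁ ≤ C(v)`, `T` is Sylow there
    have hSv : (S₁ : Subgroup G) ≤ cz v := fun s hs => mem_cent.2 ((ZN.mem_zc.1 h0).2.1 s hs)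
    have h2 := Subgroup.relIndex_mul_relIndex _ _ _ hS₁ hSv
    obtain ⟨m, hm⟩ := IsPGroup.iff_card.1 S₁.isPGroup'
    have h4 : T.relIndex (S₁ : Subgroup G) ∣ 2 ^ m := by
      rw [← hm]
      exact relIndex_dvd_card _ _
    obtain ⟨l, -, hl⟩ := (Nat.dvd_prime_pow Nat.prime_two).1 h4
    rcases Nat.eq_zero_or_pos l with h0 | h0
    · rw [h0, pow_zero, relIndex_eq_one] at hl
      exact hl
    · exfalso
      apply h.oddT hv hv1
      rw [← h2, hl]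
      exact Dvd.dvd.mul_right (dvd_pow_self 2 h0.ne') _
  -- two elements of `Ω₁Z(S₁)`
  obtain ⟨d, hd, hd1, -⟩ := exists_third M hD S₁ 1
  obtain ⟨n, hn, hn1, hnd⟩ := exists_third M hD S₁ d
  obtain ⟨u, hu, hud⟩ := h.decT hv hv1 (hzle hd)
  obtain ⟨w, hw, hwn⟩ := h.decT hv hv1 (hzle hn)
  have huu : u * u = 1 := by
    rcases hu with rfl | rfl
    · exact one_mul _
    · exact hvv
  have hww : w * w = 1 := by
    rcases hw with rfl | rfl
    · exact one_mul _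
    · exact hvv
  have key : ∀ {a z : G}, (a = 1 ∨ a = v) → z ∈ zc (S₁ : Subgroup G) → z ≠ 1 → a * z ≠ 1 := by
    rintro a z (rfl | rfl) hz hz1 h0
    · exact hz1 (by rwa [one_mul] at h0)
    · have h1 : z = a := by
        calc z = a * (a * z) := by rw [← mul_assoc, hvv, one_mul]
          _ = a := by rw [h0, mul_one]
      exact hvS (h1 ▸ hz)
  refine ⟨u * d, hud, w * n, hwn, key hu hd hd1, key hw hn hn1, fun h0 => ?_⟩
  have hdd : d * d = 1 := by rw [← pow_two]; exact (ZN.mem_zc.1 hd).2.2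
  have h1 : w * u = n * d := by
    have h2 : n = w * (u * d) := by rw [h0, ← mul_assoc, hww, one_mul]
    calc w * u = w * u * (d * d) := by rw [hdd, mul_one]
      _ = (w * (u * d)) * d := by group
      _ = n * d := by rw [← h2]
  have h2 : n * d ∈ zc (S₁ : Subgroup G) := mul_mem hn hd
  have h3 : n * d ≠ 1 := fun h3 => hnd (by
    calc n = n * d * d := by rw [mul_assoc, hdd, mul_one]
      _ = d := by rw [h3, one_mul])
  rw [← h1] at h2 h3
  rcases hu with rfl | rfl <;> rcases hw with rfl | rfl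
  · exact h3 (one_mul _)
  · rw [mul_one] at h2; exact hvS h2
  · rw [one_mul] at h2; exact hvS h2
  · exact h3 hvv

/-- a common element of `Z₀#` and its conjugate under `n ∈ N(T)` -/
theorem commonT {n x y : G} (hn : n ∈ normalizer (T : Set G))
    (hx : x ∈ zc T ⊓ centralizer ((T ⊔ BTwo.XX (fac M.toNatV i) R : Subgroup G) : Set G))
    (hy : y ∈ zc T ⊓ centralizer ((T ⊔ BTwo.XX (fac M.toNatV i) R : Subgroup G) : Set G))
    (hx1 : x ≠ 1) (hy1 : y ≠ 1) (hxy : x ≠ y) :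
    ∃ z ∈ zc T ⊓ centralizer ((T ⊔ BTwo.XX (fac M.toNatV i) R : Subgroup G) : Set G), z ≠ 1 ∧
      n⁻¹ * z * n ∈ zc T ⊓ centralizer ((T ⊔ BTwo.XX (fac M.toNatV i) R : Subgroup G) : Set G) := by
  obtain ⟨v, hv, hv1⟩ := exists_line M i
  have hvv : v * v = 1 := h.fr.sq i v (line_le _ i hv)
  have hnz : ∀ z ∈ zc T, n * z * n⁻¹ ∈ zc T := fun z hz =>
    (mem_normalizer_iff.1 ((normalizer_le_normalizer_zc T) hn) z).1 hz
  obtain ⟨u, hu, hux⟩ := h.decT hv hv1 (hnz x hx.1)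
  obtain ⟨w, hw, hwy⟩ := h.decT hv hv1 (hnz y hy.1)
  have hfin : ∀ z ∈ zc T ⊓ centralizer ((T ⊔ BTwo.XX (fac M.toNatV i) R : Subgroup G) : Set G), z ≠ 1 →
      n * z * n⁻¹ ∈ zc T ⊓ centralizer ((T ⊔ BTwo.XX (fac M.toNatV i) R : Subgroup G) : Set G) →
      ∃ z ∈ zc T ⊓ centralizer ((T ⊔ BTwo.XX (fac M.toNatV i) R : Subgroup G) : Set G), z ≠ 1 ∧
        n⁻¹ * z * n ∈ zc T ⊓ centralizer ((T ⊔ BTwo.XX (fac M.toNatV i) R : Subgroup G) : Set G) :=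
    fun z hz hz1 hzn => ⟨n * z * n⁻¹, hzn, cj_ne_one hz1, by
      have e : n⁻¹ * (n * z * n⁻¹) * n = z := by group
      rw [e]; exact hz⟩
  rcases hu with hu | hu
  · rw [hu, one_mul] at hux
    exact hfin x hx hx1 hux
  rcases hw with hw | hw
  · rw [hw, one_mul] at hwy
    exact hfin y hy hy1 hwy
  rw [hu] at hux
  rw [hw] at hwy
  have hyy : y * y = 1 := by rw [← pow_two]; exact (ZN.mem_zc.1 hy.1).2.2
  refine hfin (x * y) (mul_mem hx hy) (fun h0 => hxy ?_) ?_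
  · calc x = x * y * y := by rw [mul_assoc, hyy, mul_one]
      _ = y := by rw [h0, one_mul]
  · have h1 := mul_mem hux hwy
    have h2 : v * (n * x * n⁻¹) = n * x * n⁻¹ * v :=
      MinSimple.VModule.zc_comm T v (h.line_zcT hv) _ (hnz x hx.1)
    have e : v * (n * x * n⁻¹) * (v * (n * y * n⁻¹)) = n * (x * y) * n⁻¹ := by
      calc v * (n * x * n⁻¹) * (v * (n * y * n⁻¹)) = (n * x * n⁻¹) * (v * v) * (n * y * n⁻¹) := by rw [h2]; group
        _ = n * (x * y) * n⁻¹ := by rw [hvv]; group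
    rwa [e] at h1

end InsT

end frame

end Cfsg.Agent.Omega.IId.NV.BigD
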