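import Cfsg.Agent.Mrg.Omega.IId.CvBig.U2Par
import Cfsg.Agent.Mrg.Omega.IId.CvBig.Over
import Cfsg.Agent.Mrg.Omega.IId.CvBig.Bts
import Cfsg.Agent.Mrg.Omega.IId.BigD.OtZ
import Cfsg.Agent.Mrg.Omega.IId.BigD.Surv.Plug
import Cfsg.Agent.Mrg.Omega.IId.BigD.Ccd


/-!
# `BigU2` (bb OMEGA 22450): `T₁` is not a Sylow 2-subgroup of `G`, `q = 2`: contradiction

* `SitT.exists_insT₀`, `InsT.parX`, `InsT.exists_Y` : the inputs of `Par.false_of`;
* **`Cv.bigU2 : BigU2 K`**.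
-/

set_option autoImplicit false
set_option linter.unusedSectionVars false

namespace Cfsg.Agent.Omega.IId.NV.BigD

open Subgroup Pointwise Cfsg Cfsg.Agent.ZN Cfsg.Agent.ZN.ChoiceBase
open Cfsg.Agent.Omega.MinPar Cfsg.Agent.Omega.FFThm
open Cfsg.Agent.MinSimple.VModule (o2_isPGroup)
open Cfsg.Agent.Omega.IId.NV
open Cfsg.Agent.Omega.IId.Big (Fr Vo conj_mem norm_of comm_of_conj conj_of_comm isPGroup_of_sq le_Vo Vo_le
  cent_of_closure KK_le_XX XX_le)
open Triangle (KK KK_conj KK_le_o2 mem_cent mem_KK mem_zpowers_iff_of_sq cent_conj o2_cent_conj)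
open Cfsg.Agent.Omega.BTwo (BT BTS WW QQ CenX pt)
open Cfsg.Agent.Omega.NatPair (NatMod PreMod)

universe u

local notation "cz" v:max => centralizer ({v} : Set _)
local notation "qz" v:max => ZN.o2 (centralizer ({v} : Set _))

section frame

variable {G : Type u} [Group G] [Finite G] {F : Type} [Field F] [Finite F] [CharP F 2] {S : Sylow 2 G}
  {P V D : Subgroup G} {k : ℕ} {M : NatD F S P V D k}

theorem SitT.exists_insT₀ {i : Fin k} {T : Subgroup G} (h : SitT M i T) (hC : ∀ l, QL M l ≤ (S : Subgroup G)) :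
    ∃ (N : NatMod F (fac M.toNatV i)) (o : BTwo.Pt N), InsT M i T (pt N) o := by
  obtain ⟨N, b⟩ := bts_big_two M hC h.two h.unm
  exact ⟨N, ⟨N.line ![1, 0], ![1, 0], FourSide.vec_ne, rfl⟩, { h with bts := b.bts, ro := b.line }⟩

namespace InsT

variable {i : Fin k} {T : Subgroup G} {κ : Type*} {R : κ → Subgroup G} {o : κ} (h : InsT M i T R o)
include h

theorem XX_le_XX : BTwo.XX (fac M.toNatV i) R ≤ Big.XX (fac M.toNatV) i := by
  refine iSup_le fun j g hg => ?_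
  obtain ⟨v, hv, hv1⟩ := h.bts.exists_ne j
  exact KK_le_XX (h.bts.R_le j hv) hv1 (h.WW_le hv hv1 hg)

/-- the instance `Par` -/
theorem parX {r : G} (hr : ∀ x, x ∈ R o ↔ x = 1 ∨ x = r) (hr1 : r ≠ 1)
    (hS : ∀ S₁ : Sylow 2 G, (S₁ : Subgroup G) ≠ T) (hD : D ≠ ⊥) :
    HT.OtCore.Par T (fac M.toNatV i) (Big.XX (fac M.toNatV) i) r := by
  have hri : r ∈ line M.toNatV i := by rw [← h.ro]; exact (hr r).2 (Or.inr rfl)
  have hot := h.otdT hr hr1
  have hcen : ∀ {z : G}, (∀ v ∈ fac M.toNatV i, v ≠ 1 → ∀ g ∈ KK v, g * z = z * g) →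
      ∀ x ∈ Big.XX (fac M.toNatV) i, x * z = z * x := fun {z} hz x hx =>
    mem_cent.1 (XX_le (B := cz z) (fun v hv hv1 g hg => mem_cent.2 (hz v hv hv1 g hg)) hx)
  refine
    { hG := h.c2
      ot := { hot with
              X_V := XX_V h.fr i
              trans := fun v hv hv1 => XX_trans h.fr (line_le _ i hri) hv hr1 hv1 }
      WV := h.WV i
      zT := ?_
      dec := ?_
      two := ?_ }
  · intro u hu hu1
    have h1 : ∀ l, ∀ y ∈ fac M.toNatV l, y ∈ qz u := fun l y hy => h.fr.VQ i l u hu hu1 hy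
    have h2 : zc (qz u) ≤ centralizer (V : Set G) := by
      intro z hz
      refine mem_centralizer_iff.2 fun y hy => ?_
      have h3 : (⨆ l, fac M.toNatV l) ≤ cz z := iSup_le fun l y hy =>
        mem_cent.2 ((ZN.mem_zc.1 hz).2.1 y (h1 l y hy))
      exact mem_cent.1 (h3 (V_le_iSup hy))
    have h3 : centralizer (V : Set G) ≤ normalizer (zc (qz u) : Set G) := by
      have h4 : centralizer (V : Set G) ≤ cz u := fun x hx =>
        mem_cent.2 (mem_centralizer_iff.1 hx u (NV.fac_le _ i hu)).symm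
      exact h4.trans ((ZN.le_normalizer_o2 _).trans (MinSimple.VModule.normalizer_le_normalizer_zc _))
    exact (le_o2_of_cent (M := M) ((o2_isPGroup _).to_le (ZN.zc_le _)) h2 h3).trans h.o2_T
  · intro c hc hcc hTc
    obtain ⟨u, hu, hz⟩ := h.decT hri hr1 (ZN.mem_zc.2 ⟨hc, hTc, by rw [pow_two]; exact hcc⟩)
    have h1 := hcen (h.cen_ofT hz)
    rcases hu with rfl | rfl
    · left
      intro x hx
      have := h1 x hx
      rwa [one_mul] at this
    · right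
      intro x hx
      have := h1 x hx
      rwa [← hTc u (hot.V_T hot.r_mem)]
  · obtain ⟨x, hx, y, hy, hx1, hy1, hxy⟩ := h.twoT hS hD
    have hm : ∀ {x : G}, x ∈ zc T ⊓ centralizer ((T ⊔ BTwo.XX (fac M.toNatV i) R : Subgroup G) : Set G) → x ≠ 1 →
        x * x = 1 ∧ x ≠ 1 ∧ (∀ t ∈ T, t * x = x * t) ∧ ∀ g ∈ Big.XX (fac M.toNatV) i, g * x = x * g :=
      fun {x} hx hx1 => ⟨by rw [← pow_two]; exact (ZN.mem_zc.1 hx.1).2.2, hx1, (ZN.mem_zc.1 hx.1).2.1,
        hcen (h.cen_ofT hx)⟩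
    exact ⟨x, ZN.zc_le _ hx.1, y, ZN.zc_le _ hy.1, hm hx hx1, hm hy hy1, hxy⟩

/-- the instance `Wd` -/
theorem exists_Y {r c : G} (hr : ∀ x, x ∈ R o ↔ x = 1 ∨ x = r) (hr1 : r ≠ 1)
    (hp : HT.OtCore.Par T (fac M.toNatV i) (Big.XX (fac M.toNatV) i) r) (hc : c ∈ zc T)
    (hcX : c ∈ CenX (fac M.toNatV i) R) (hs : HT.Sig (fac M.toNatV i) R o c) :
    ∃ Y ≤ cz (c * r), HT.TComp.GSysW (cz (c * r)) Y r := by
  have hri : r ∈ line M.toNatV i := by rw [← h.ro]; exact (hr r).2 (Or.inr rfl)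
  obtain ⟨v, hv, hsd⟩ := h.exists_sd hri hr1
  subst hv
  have hcZ : c ∈ zc T ⊓ centralizer ((T ⊔ BTwo.XX (fac M.toNatV i) R : Subgroup G) : Set G) := by
    refine ⟨hc, ?_⟩
    have h2 : T ⊔ BTwo.XX (fac M.toNatV i) R ≤ cz c :=
      sup_le (fun t ht => mem_cent.2 ((ZN.mem_zc.1 hc).2.1 t ht)) fun x hx => mem_cent.2 (mem_centralizer_iff.1 hcX x hx)
    exact mem_centralizer_iff.2 fun x hx => mem_cent.1 (h2 hx)
  refine CvBig.U2W.Wd.exists_Y (S := S) (Q := ZN.o2 P) (V := fac M.toNatV) (v := v) (i := i) (T := T) (c := c)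
    { sd := hsd
      Tp := h.T_p
      T1T := ?_
      TV := fun t ht x hx => (mem_normalizer_iff.1 (h.T_fac ht) x).1 hx
      Tc := h.T_czT hri
      odd := h.oddT hri hr1
      cQ := h.zcT_le hc
      cN := ?_
      hU := ?_ } h.c2
  · rintro t ⟨ht, htv⟩
    refine h.st_T (mem_inf.2 ⟨ht, mem_normalizer_iff.2 fun x => ⟨fun hx => hsd.fix_line ht (mem_cent.1 htv) hx, fun hx => ?_⟩⟩)
    have h2 := hsd.fix_line (inv_mem ht) ((show Commute t (v i) from mem_cent.1 htv).inv_left).eq hx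
    have e : t⁻¹ * (t * x * t⁻¹) * t⁻¹⁻¹ = x := by group
    rwa [e] at h2
  · intro g hg
    have hgN : g ∈ normalizer (fac M.toNatV i : Set G) := CvBig.U2W.mem_norm hg
    obtain ⟨d, hd, e⟩ := h.trans_V (v := g * v i * g⁻¹) (w := v i) (hg _ (line_le _ i hri)) (line_le _ i hri)
      (cj_ne_one hr1) hr1
    have h1 : d * g ∈ normalizer (fac M.toNatV i : Set G) := mul_mem (h.bts.X_le_NV hd) hgN
    have h2 : d * g ∈ normalizer (R o : Set G) := by
      rw [h.norm_R ((hr _).2 (Or.inr rfl)) hr1]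
      refine mem_cent.2 (comm_of_conj ?_)
      calc d * g * v i * (d * g)⁻¹ = d * (g * v i * g⁻¹) * d⁻¹ := by group
        _ = v i := e
    have h3 := HT.Sig.comm h.httT hr hcZ hs h2 h1
    have h4 : d * c = c * d := mem_centralizer_iff.1 hcX d hd
    apply mul_left_cancel (a := d)
    calc d * (g * c) = d * g * c := by group
      _ = c * d * g := by rw [h3]; group
      _ = d * (c * g) := by rw [← h4]; group
  · intro w hw _ hwv x hx
    exact hp.mem_zc hw (fun e => hwv (mem_cent.2 (comm_of_conj e))) hx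

theorem false_of (hS : ∀ S₁ : Sylow 2 G, (S₁ : Subgroup G) ≠ T) (hD : D ≠ ⊥) : False := by
  obtain ⟨r, hr1, -, hr⟩ := h.httT.exists_gen o
  have hri : r ∈ line M.toNatV i := by rw [← h.ro]; exact (hr r).2 (Or.inr rfl)
  have hp := h.parX hr hr1 hS hD
  obtain ⟨w, hw, -, -, hwv⟩ := h.exists_swapT hS
  exact hp.false_of h.bts hr (h.otdT hr hr1) h.XX_le_XX (h.toIns0.le h.unm) hw (hwv r hri hr1)
    fun c hc hcX _ hs => h.exists_Y hr hr1 hp hc hcX hs

end InsT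

end frame

end Cfsg.Agent.Omega.IId.NV.BigD

namespace Cfsg.Agent.Omega.IId.Cv

open Subgroup Cfsg Cfsg.Agent.Omega.MinPar Cfsg.Agent.Omega.Frame Cfsg.Agent.Omega.FFThm Cfsg.Agent.Omega.FrameMulti
open Cfsg.Agent.Omega.IId.NV.BigD (Sit0 SitT)

universe u

/-- **`BigU2`** -/
theorem bigU2 (K : Cls.{u}) : BigU2 K := by
  intro G _ _ S hH P F _ _ _ V D k M hk hC hD i hu T hT hS hq
  have h0 : SitT M i T := { Sit0.of_unm hq (by omega) (NV.BigD.ccd M hq) hu with unm := hu, ov := hT }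
  obtain ⟨N, o, h⟩ := h0.exists_insT₀ hC
  exact h.false_of hS hD

end Cfsg.Agent.Omega.IId.Cv
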