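import Cfsg.Agent.Mrg.Omega.IId.BigD.Ccd
import Cfsg.Agent.Mrg.Omega.IId.CvBig.Bts
import Cfsg.Agent.Mrg.Omega.IId.ThmCD.Cor
import Cfsg.Agent.Mrg.Omega.IId.Cv.TwoBTwo


/-!
# CvBig, `q = 2`, `V_i` unmixed, `T₁` a Sylow 2-subgroup of `G` (helper540)

* `Sit0 M i` : helper730's `BigD.Sit` without its field `odd` (`stab M i` need not be Sylow in `N_G(R)`): `WV`, `fr`,
  `comm_of_fac`, `q_dich`, `zz_q`;
* `Sit0.dec` : `z ∈ Ω₁Z(O₂(P))` centralised by `W_v`, `1 ≠ v ∈ line M i`, is `u * z'`, `u ∈ {1, v}`, `z'` centralised by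
  `W_v` and `W_b`;
* `Sit0.WW_le_KK`, `Sit0.X_cen`;
* `pos_big` : the exit `Pos`;
* `bigUS2` : `BigUS2 K`.
-/

set_option autoImplicit false
set_option linter.unusedSectionVars false

namespace Cfsg.Agent.Omega.IId.NV.BigUs

open Cfsg.Agent.Omega.IId.NV.BigD hiding Sit0

open Subgroup Pointwise Cfsg Cfsg.Agent.ZN Cfsg.Agent.ZN.ChoiceBase
open Cfsg.Agent.Omega.MinPar Cfsg.Agent.Omega.FFThm
open Cfsg.Agent.MinSimple.VModule (o2_isPGroup)
open Cfsg.Agent.Omega.IId.NV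
open Cfsg.Agent.Omega.IId.Big (Fr Vo conj_mem norm_of comm_of_conj conj_of_comm isPGroup_of_sq le_Vo Vo_le
  cent_of_closure)
open Triangle (KK KK_conj KK_le_o2 mem_cent mem_KK mem_zpowers_iff_of_sq cent_conj o2_cent_conj)

universe u

local notation "cz" v:max => centralizer ({v} : Set _)
local notation "qz" v:max => ZN.o2 (centralizer ({v} : Set _))

/-- `V_i` is unmixed, `q = 2` (`BigD.Sit` without `odd`). -/
structure Sit0 {G : Type u} [Group G] [Finite G] {F : Type} [Field F] [Finite F] [CharP F 2] {S : Sylow 2 G}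
    {P V D : Subgroup G} {k : ℕ} (M : NatD F S P V D k) (i : Fin k) : Prop where
  two : Nat.card F = 2
  cc : CCD M
  unm : ∃ g ∈ normalizer (line M.toNatV i : Set G), ∃ v ∈ fac M.toNatV i, ∃ w ∈ fac M.toNatV i,
    v * (g * w * g⁻¹) ≠ g * w * g⁻¹ * v

namespace Sit0

variable {G : Type u} [Group G] [Finite G] {F : Type} [Field F] [Finite F] [CharP F 2] {S : Sylow 2 G}
  {P V D : Subgroup G} {k : ℕ} {M : NatD F S P V D k} {i : Fin k} (h : Sit0 M i)
include h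

theorem c2 : IsCharacteristicTwoType G := M.hG

theorem par : IsParS (S : Subgroup G) P := M.star

theorem SP : (S : Subgroup G) ≤ P := NV.SP M

theorem T2 : IsPGroup 2 (stab M.toNatV i) := S.isPGroup'.to_le (stab_le _ i)

theorem TP : stab M.toNatV i ≤ P := (stab_le _ i).trans h.SP

theorem sqV {v : G} (hv : v ∈ V) : v * v = 1 := mul_self_zc (V_le_zz M hv)

/-- `W_v` moves `V_l` for all points `v ∈ V_l` -/
theorem WV : ∀ l, ∀ v ∈ fac M.toNatV l, v ≠ 1 → ∃ g ∈ KK v, ∃ x ∈ fac M.toNatV l, g * x ≠ x * g := by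
  intro l v hv hv1
  obtain ⟨v₀, hv₀, hv₀1⟩ := BigD.exists_line M i
  obtain ⟨g, hg, a, ha, b, hb, hne⟩ := h.unm
  rw [BigD.normalizer_line_eq h.two hv₀ hv₀1] at hg
  have h1 : g * b * g⁻¹ ∈ KK v₀ := by
    have h2 := KK_conj (h := g) (V_le_KK_line h.cc h.two hv₀ hv₀1 (NV.fac_le _ i hb))
    rwa [conj_of_comm (mem_cent.1 hg)] at h2
  obtain ⟨y, hy, hyv, hyi, -⟩ := exists_P_conj (line_le _ i hv₀) hv₀1 hv hv1
  refine ⟨y * (g * b * g⁻¹) * y⁻¹, ?_, y * a * y⁻¹, (hyi a).1 ha, fun e => hne ?_⟩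
  · have h2 := KK_conj (h := y) h1
    rwa [hyv] at h2
  · calc a * (g * b * g⁻¹) = y⁻¹ * (y * a * y⁻¹ * (y * (g * b * g⁻¹) * y⁻¹)) * y := by group
      _ = g * b * g⁻¹ * a := by rw [← e]; group

/-- **428's frame** -/
theorem fr : Fr (⨆ l, fac M.toNatV l) (fac M.toNatV) := by
  have hle : (⨆ l, fac M.toNatV l) ≤ V := iSup_le fun l => NV.fac_le _ l
  have hsq : ∀ x ∈ V, x * x = 1 := fun x hx => h.sqV hx
  have hc2 : ∀ l, ∀ v ∈ fac M.toNatV l, v ≠ 1 → cz v ⊓ centralizer (qz v : Set G) ≤ qz v := fun l v hv hv1 =>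
    Big.Supply.cz_char2 h.c2 (hsq v (NV.fac_le _ l hv)) hv1
  refine
    { S2 := isPGroup_of_sq fun x hx => hsq x (hle hx)
      sq := fun l x hx => hsq x (NV.fac_le _ l hx)
      comm := fun l m x hx y hy => NV.comm M.toNatV hx.1 hy.1
      four := fun l => by rw [card_fac, h.two]; norm_num
      Qc := fun l m hlm v hv hv1 q hq x hx => qz_comm h.cc hlm hv hv1 hq hx
      VQ := fun l m v hv hv1 => ?_
      WV := h.WV
      c2 := hc2
      perm := fun s hs l => ⟨l, fun x => ?_⟩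
      zS := ZN.zc_le _ }
  · intro x hx
    exact KK_le_o2 (hsq v (NV.fac_le _ l hv)) (hc2 l v hv hv1)
      (zl_le_KK h.cc h.two hv hv1 (M.V_le (NV.fac_le _ m hx)))
  · have hsV := hle hs
    constructor
    · intro hx
      rw [NV.comm M.toNatV hsV hx.1, mul_inv_cancel_right]
      exact hx
    · intro hx
      have h1 := NV.comm M.toNatV (inv_mem hsV) hx.1
      have e : x = s⁻¹ * (s * x * s⁻¹) * s := by group
      rw [e, h1, inv_mul_cancel_right]
      exact hx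

/-- an element of `P` which commutes with all factors centralises `Ω₁Z(O₂(P))` -/
theorem comm_of_fac {x z : G} (hx : x ∈ P) (hxV : ∀ l, ∀ v ∈ fac M.toNatV l, x * v = v * x)
    (hz : z ∈ zc (o2 P)) : x * z = z * x := by
  refine comm_zz M hx (fun v hv => ?_) hz
  have h1 : (⨆ l, fac M.toNatV l) ≤ centralizer ({x} : Set G) :=
    iSup_le fun l w hw => mem_cent.2 (hxV l w hw).symm
  exact (mem_cent.1 (h1 (V_le_iSup hv))).symm

/-- the action of `Q_v` on `Ω₁Z(O₂(P))`: trivial or that of `a ∈ W_v` -/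
theorem q_dich {l : Fin k} {v b a : G} (hv : v ∈ fac M.toNatV l) (hv1 : v ≠ 1) (hb : b ∈ fac M.toNatV l)
    (hb1 : b ≠ 1) (hvb : v ≠ b) (ha : a ∈ KK v) (hab : a * b * a⁻¹ = v * b) {r : G} (hr : r ∈ qz v) :
    (∀ z ∈ zc (o2 P), r * z = z * r) ∨ ∀ z ∈ zc (o2 P), r * a * z = z * (r * a) := by
  have hfr := h.fr
  have hQP := q_le_P h.cc hv hv1
  have haQ : a ∈ qz v := hfr.KK_le_q hv hv1 ha
  have hbK : b ∈ KK v := zl_le_KK h.cc h.two hv hv1 (M.V_le (NV.fac_le _ l hb))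
  have hact : ∀ r ∈ qz v, r * b * r⁻¹ = b ∨ r * b * r⁻¹ = v * b := by
    intro r hr
    rcases hfr.KK_act hv hbK hr with h1 | h1
    · left
      have h2 := comm_of_conj h1
      rw [← h2]; group
    · right
      have h2 : b * r = v * r * b := by rw [← h1]; group
      have h3 : r * v = v * r := (mem_cent.1 ((o2_le _) hr))
      have h4 : v * v = 1 := hfr.sq l v hv
      have h5 : r * b = v * (b * r) := by
        rw [h2]
        calc r * b = (v * v) * r * b := by rw [h4, one_mul]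
          _ = v * (v * r * b) := by group
      rw [h5]; group
  have hbV : ∀ r ∈ qz v, r * b = b * r → ∀ m, ∀ w ∈ fac M.toNatV m, r * w = w * r := by
    intro r hr hrb m x hx
    by_cases hl : m = l
    · subst hl
      have h3 : r * v = v * r := (mem_cent.1 ((o2_le _) hr))
      rcases hfr.cases4 hv hb hv1 hb1 hvb hx with rfl | rfl | rfl | rfl
      · simp
      · exact h3
      · exact hrb
      · calc r * (v * b) = (r * v) * b := by group
          _ = v * (r * b) := by rw [h3]; group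
          _ = v * b * r := by rw [hrb]; group
    · exact hfr.Qc l m hl v hv hv1 r hr x hx
  rcases hact r hr with h1 | h1
  · left
    intro z hz
    exact h.comm_of_fac (hQP hr) (hbV r hr (comm_of_conj h1)) hz
  · right
    intro z hz
    have hra : r * a ∈ qz v := mul_mem hr haQ
    refine h.comm_of_fac (hQP hra) (hbV _ hra ?_) hz
    apply comm_of_conj
    have h3 : r * v = v * r := (mem_cent.1 ((o2_le _) hr))
    have h4 : v * v = 1 := hfr.sq l v hv
    calc r * a * b * (r * a)⁻¹ = r * (a * b * a⁻¹) * r⁻¹ := by group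
      _ = (r * v) * b * r⁻¹ := by rw [hab]; group
      _ = v * (r * b * r⁻¹) := by rw [h3]; group
      _ = (v * v) * b := by rw [h1]; group
      _ = b := by rw [h4, one_mul]

/-- **`Ω₁Z(O₂(P)) ≤ Q_v`** -/
theorem zz_q {l : Fin k} {v : G} (hv : v ∈ fac M.toNatV l) (hv1 : v ≠ 1) : zc (o2 P) ≤ qz v := by
  have hfr := h.fr
  have hfact : Fact (Nat.Prime 2) := ⟨Nat.prime_two⟩
  have hzn : P ≤ normalizer (zc (o2 P) : Set G) := zz_nor P
  have hVz : V ≤ zc (o2 P) := V_le_zz M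
  have hzab := MinSimple.VModule.zc_comm (o2 P)
  have hzsq : ∀ z ∈ zc (o2 P), z * z = 1 := fun z hz => mul_self_zc hz
  have hQP := q_le_P h.cc hv hv1
  have hzC : zc (o2 P) ≤ cz v := fun z hz => mem_cent.2 (hzab z hz v (hVz (NV.fac_le _ l hv)))
  obtain ⟨b, hb, hb1, hvb⟩ := hfr.exists_other (i := l) v
  obtain ⟨a, ha, hab⟩ := hfr.move hv hb hv1 hb1 hvb
  have haQ : a ∈ qz v := hfr.KK_le_q hv hv1 ha
  have hr2 := fun r (hr : r ∈ qz v) => h.q_dich hv hv1 hb hb1 hvb ha hab hr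
  have haa : ∀ z ∈ zc (o2 P), a * a * z = z * (a * a) := by
    intro z hz
    rcases hr2 a haQ with h1 | h1
    · calc a * a * z = a * (a * z) := by group
        _ = a * (z * a) := by rw [h1 z hz]
        _ = (a * z) * a := by group
        _ = (z * a) * a := by rw [h1 z hz]
        _ = z * (a * a) := by group
    · exact h1 z hz
  have haz : ∀ z ∈ zc (o2 P), a * z * a⁻¹ ∈ zc (o2 P) := fun z hz => conj_mem hzn (hQP haQ) hz
  have hat : ∀ z ∈ zc (o2 P), a * (a * z * a⁻¹ * z⁻¹) = a * z * a⁻¹ * z⁻¹ * a := by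
    intro z hz
    have h1 := haa z hz
    have h2 : a * (a * z * a⁻¹) * a⁻¹ = z := by
      calc a * (a * z * a⁻¹) * a⁻¹ = (a * a * z) * (a * a)⁻¹ := by group
        _ = z := by rw [h1]; group
    have h3 : a * (a * z * a⁻¹ * z⁻¹) * a⁻¹ = a * z * a⁻¹ * z⁻¹ := by
      have h5 : (a * z * a⁻¹)⁻¹ = a * z * a⁻¹ := inv_eq_of_mul_eq_one_left (hzsq _ (haz z hz))
      have h6 : z⁻¹ = z := inv_eq_of_mul_eq_one_left (hzsq _ hz)
      calc a * (a * z * a⁻¹ * z⁻¹) * a⁻¹ = (a * (a * z * a⁻¹) * a⁻¹) * (a * z * a⁻¹)⁻¹ := by group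
        _ = z * (a * z * a⁻¹) := by rw [h2, h5]
        _ = (a * z * a⁻¹) * z := hzab _ hz _ (haz z hz)
        _ = a * z * a⁻¹ * z⁻¹ := by rw [h6]
    exact comm_of_conj h3
  have htZ : ∀ z ∈ zc (o2 P), a * z * a⁻¹ * z⁻¹ ∈ qz v ⊓ centralizer ((qz v : Subgroup G) : Set G) := by
    intro z hz
    have ht : a * z * a⁻¹ * z⁻¹ ∈ zc (o2 P) := mul_mem (haz z hz) (inv_mem hz)
    have hcen : a * z * a⁻¹ * z⁻¹ ∈ centralizer ((qz v : Subgroup G) : Set G) := by
      rw [mem_centralizer_iff]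
      intro r hr
      rcases hr2 r hr with h1 | h1
      · exact h1 _ ht
      · have h2 := h1 _ ht
        have h3 := hat z hz
        have h4 : r * (a * z * a⁻¹ * z⁻¹) * a = a * z * a⁻¹ * z⁻¹ * r * a := by
          calc r * (a * z * a⁻¹ * z⁻¹) * a = r * (a * z * a⁻¹ * z⁻¹ * a) := by group
            _ = r * a * (a * z * a⁻¹ * z⁻¹) := by rw [← h3]; group
            _ = a * z * a⁻¹ * z⁻¹ * r * a := by rw [h2]; group
        exact mul_right_cancel h4
    exact ⟨hfr.c2 l v hv hv1 ⟨hzC ht, hcen⟩, hcen⟩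
  refine Big.Syl.le_o2_of_chain (hfr.c2 l v hv hv1) hzC (fun z hz r hr => ?_) (fun z hz y hy => ?_)
  · rcases hr2 r hr with h1 | h1
    · have e : z * r * z⁻¹ * r⁻¹ = 1 := by rw [← h1 z hz]; group
      rw [e]
      exact one_mem _
    · have h2 := h1 z hz
      have h3 : z * r * z⁻¹ * r⁻¹ = r * (a * z * a⁻¹ * z⁻¹) * r⁻¹ := by
        calc z * r * z⁻¹ * r⁻¹ = (z * (r * a)) * a⁻¹ * z⁻¹ * r⁻¹ := by group
          _ = r * (a * z * a⁻¹ * z⁻¹) * r⁻¹ := by rw [← h2]; group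
      rw [h3]
      have h4 := htZ z hz
      have h5 : r * (a * z * a⁻¹ * z⁻¹) * r⁻¹ = a * z * a⁻¹ * z⁻¹ := by
        rw [mem_centralizer_iff.1 h4.2 r hr, mul_inv_cancel_right]
      rw [h5]
      exact h4
  · have h1 : ∀ m, ∀ w ∈ fac M.toNatV m, y * w = w * y := fun m w hw => by
      have hwQ : w ∈ qz v := hfr.VQ l m v hv hv1 hw
      exact (mem_centralizer_iff.1 hy.2 w hwQ).symm
    exact (h.comm_of_fac (hQP hy.1) h1 hz).symm


theorem o2_le_stab : o2 P ≤ stab M.toNatV i := by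
  refine le_inf (o2_le_S M) (norm_of fun x hx v hv => ?_)
  rw [((ZN.mem_zc.1 (V_le_zz M (NV.fac_le _ i hv))).2.1 x hx), mul_inv_cancel_right]
  exact hv

/-- `z ∈ Ω₁Z(O₂(P))` centralised by `W_v`: `u * z`, `u ∈ {1, v}`, is centralised by `W_v` and `W_b`. -/
theorem dec {v b z : G} (hv : v ∈ fac M.toNatV i) (hv1 : v ≠ 1) (hb : b ∈ fac M.toNatV i) (hb1 : b ≠ 1) (hvb : v ≠ b)
    (hz : z ∈ zc (o2 P)) (hvz : ∀ g ∈ KK v, g * z = z * g) :
    ∃ u, (u = 1 ∨ u = v) ∧ (∀ g ∈ KK v, g * (u * z) = u * z * g) ∧ ∀ g ∈ KK b, g * (u * z) = u * z * g := by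
  have hfr := h.fr
  have hfact : Fact (Nat.Prime 2) := ⟨Nat.prime_two⟩
  obtain ⟨a, ha, hab⟩ := hfr.move hb hv hb1 hv1 (Ne.symm hvb)
  have hvv : v * v = 1 := hfr.sq i v hv
  have hbb : b * b = 1 := hfr.sq i b hb
  have hcomm : v * b = b * v := hfr.comm i i v hv b hb
  have hzv : z * v = v * z :=
    MinSimple.VModule.zc_comm (o2 P) z hz v (V_le_zz M (NV.fac_le _ i hv))
  have hvg : ∀ g ∈ KK v, g * v = v * g := fun g hg => (mem_KK.1 hg).1
  have hzb := h.zz_q hb hb1 hz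
  have hvq : v ∈ zc (o2 P) := V_le_zz M (NV.fac_le _ i hv)
  -- an element `z' ∈ Ω₁Z(O₂(P))` which commutes with `a` commutes with `W_b`
  have key : ∀ z' ∈ zc (o2 P), a * z' = z' * a → ∀ g ∈ KK b, g * z' = z' * g := by
    intro z' hz' haz g hg
    rcases h.q_dich hb hb1 hv hv1 (Ne.symm hvb) ha hab (hfr.KK_le_q hb hb1 hg) with h1 | h1
    · exact h1 z' hz'
    · have h2 := h1 z' hz'
      have h3 : g * z' * a = z' * g * a := by
        calc g * z' * a = g * (a * z') := by rw [haz, mul_assoc]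
          _ = g * a * z' := by rw [mul_assoc]
          _ = z' * g * a := by rw [h2, mul_assoc]
      exact mul_right_cancel h3
  rcases hfr.KK_act hb ha hzb with h1 | h1
  · refine ⟨1, Or.inl rfl, fun g hg => by rw [one_mul]; exact hvz g hg, fun g hg => ?_⟩
    rw [one_mul]
    exact key z hz (comm_of_conj h1) g hg
  · refine ⟨v, Or.inr rfl, fun g hg => ?_, fun g hg => ?_⟩
    · rw [← mul_assoc, hvg g hg, mul_assoc, hvz g hg, mul_assoc]
    · refine key (v * z) (mul_mem hvq hz) (comm_of_conj ?_) g hg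
      calc a * (v * z) * a⁻¹ = (a * v * a⁻¹) * (a * z * a⁻¹) := by group
        _ = b * v * (b * z) := by rw [hab, h1]
        _ = v * z := by rw [← hcomm, mul_assoc, ← mul_assoc b b z, hbb, one_mul]

end Sit0

section ww

variable {G : Type u} [Group G] [Finite G]

theorem normalizer_of_two {R : Subgroup G} (hR : Nat.card R = 2) {v : G} (hv : v ∈ R) (hv1 : v ≠ 1) :
    normalizer (R : Set G) = cz v := by
  apply le_antisymm
  · intro g hg
    have h1 := (mem_normalizer_iff.1 hg v).1 hv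
    exact mem_cent.2 (comm_of_conj ((Two.eq_or_eq_of_card_two hR hv hv1 h1).resolve_left (cj_ne_one hv1)))
  · intro g hg
    refine centralizer_le_normalizer _ (mem_centralizer_iff.2 fun y hy => ?_)
    rcases Two.eq_or_eq_of_card_two hR hv hv1 hy with h1 | h1
    · rw [h1, one_mul, mul_one]
    · rw [h1]; exact (mem_cent.1 hg).symm

/-- `W ≤ KK v`, `R = {1, v}` -/
theorem WW_le_KK {ι : Type*} {V : Subgroup G} {R : ι → Subgroup G} (b : BTwo.BT V R) {o : ι}
    (hR : Nat.card (R o) = 2) {v : G} (hv : v ∈ R o) (hv1 : v ≠ 1) : BTwo.WW V (R o) ≤ KK v := by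
  intro x hx
  refine mem_KK.2 ⟨?_, fun q hq => ?_⟩
  · exact b.QR o x (b.W_le_Q o hx) v hv
  · have hq' : q ∈ BTwo.QQ (R o) := by
      have e := normalizer_of_two hR hv hv1
      change q ∈ ZN.o2 (normalizer (R o : Set G))
      rw [e]; exact hq
    have h1 := inv_mem (b.WQ o hq' hx)
    have e : (q * x * q⁻¹ * x⁻¹)⁻¹ = x * q * x⁻¹ * q⁻¹ := by group
    rw [e] at h1
    rcases Two.eq_or_eq_of_card_two hR hv hv1 h1 with h2 | h2
    · rw [h2]; exact one_mem _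
    · rw [h2]; exact mem_zpowers v

end ww

end Cfsg.Agent.Omega.IId.NV.BigUs

namespace Cfsg.Agent.Omega.IId.NV

open Subgroup Pointwise Cfsg Cfsg.Agent.ZN Cfsg.Agent.ZN.ChoiceBase
open Cfsg.Agent.Omega.MinPar Cfsg.Agent.Omega.FFThm
open Cfsg.Agent.Lib.SL2Mat
open Cfsg.Agent.MinSimple
open Cfsg.Agent.Omega.NatPair (NatMod)
open Cfsg.Agent.Omega.HTwo.Entry (Pos)
open Cfsg.Agent.MinSimple.VModule (zc_le zc_comm zc_sq zc_le_zl le_normalizer_o2 o2_isPGroup o2_le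
  normalizer_le_normalizer_zc le_normalizer_zl)
open Cfsg.Agent.Omega.IId.Triangle (KK mem_cent)

universe u

section main

variable {G : Type u} [Group G] [Finite G] {F : Type} [Field F] [Finite F] [CharP F 2] {S : Sylow 2 G}
  {P V D : Subgroup G} {k : ℕ} (M : NatD F S P V D k) (hF : Nat.card F = 2)
  (hC : ∀ l, QL M l ≤ (S : Subgroup G))

include hF hC in
/-- **`T₁` Sylow in `G`, `q = 2`, any number of factors: the position.** -/
theorem pos_big (hD : D ≠ ⊥) {i : Fin k} (hu : UnMx M i) (T₁ : Sylow 2 G) (hT : stab M.toNatV i ≤ T₁)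
    (hTV : (T₁ : Subgroup G) ≤ normalizer (fac M.toNatV i : Set G))
    (hTR : (T₁ : Subgroup G) ≤ normalizer (line M.toNatV i : Set G)) :
    ∃ (N : NatMod F (fac M.toNatV i)) (P₁ : Subgroup G) (o : BTwo.Pt N) (r z : G),
      Pos T₁ P₁ (fac M.toNatV i) (BTwo.pt N) o r z := by
  have : NeZero k := ⟨by rintro rfl; exact i.elim0⟩
  obtain ⟨N, B⟩ := bts_big_two M hC hF hu
  have h0 : BigUs.Sit0 M i := ⟨hF, BigD.ccd M hF, hu⟩
  have hfr := h0.fr
  have hSP := SP M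
  obtain ⟨a, ha, ha1⟩ := BigD.exists_line M i
  have haV := line_le _ i ha
  have haa : a * a = 1 := hfr.sq i a haV
  have hN := BigD.normalizer_line_eq (M := M) hF ha ha1
  set X := BTwo.XX (fac M.toNatV i) (BTwo.pt N) with hX
  have hXV : X ≤ normalizer (fac M.toNatV i : Set G) := B.bts.toBT.X_le_NV
  set P₁ := (T₁ : Subgroup G) ⊔ X with hP₁
  have hPV : P₁ ≤ normalizer (fac M.toNatV i : Set G) := sup_le hTV hXV
  have hQT : QL M i ≤ T₁ := (QL_le_stab M hC i).trans hT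
  have hPT : o2 P ≤ T₁ := h0.o2_le_stab.trans hT
  have haT : a ∈ zc (T₁ : Subgroup G) := by
    refine VModule.mem_zc.2 ⟨hPT (VModule.zc_le _ (V_le_zz M haV.1)), fun y hy => ?_, by rw [pow_two, haa]⟩
    have h1 := hTR hy
    rw [hN] at h1
    exact mem_centralizer_singleton_iff.1 h1
  -- a second point
  obtain ⟨b, hb, hb1, hab⟩ := hfr.exists_other (i := i) a
  let o : BTwo.Pt N := ⟨line M.toNatV i, ![1, 0], FourSide.vec_ne, B.line.symm⟩
  have hcard : ∀ o' : BTwo.Pt N, Nat.card (BTwo.pt N o') = 2 := by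
    rintro ⟨_, w, hw, rfl⟩
    change Nat.card (N.line w) = 2
    rw [N.card_line hw, hF]
  obtain ⟨o', ho'⟩ := B.bts.toBT.R_cov b hb
  have hoo : o ≠ o' := by
    rintro rfl
    rcases BigD.eq_of_line hF ha ha1 ho' with h1 | h1
    · exact hb1 h1
    · exact hab h1.symm
  have hWa : BTwo.WW (fac M.toNatV i) (BTwo.pt N o) ≤ KK a := BigUs.WW_le_KK B.bts.toBT (hcard o) ha ha1
  have hWb : BTwo.WW (fac M.toNatV i) (BTwo.pt N o') ≤ KK b := BigUs.WW_le_KK B.bts.toBT (hcard o') ho' hb1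
  have hKT : KK a ≤ T₁ := by
    refine (hfr.KK_le_q haV ha1).trans ?_
    change ZN.o2 (centralizer ({a} : Set G)) ≤ _
    rw [← hN]
    exact hQT
  -- the decomposition of `Ω₁(Z(T₁))`
  have hdec : ∀ z ∈ zc (T₁ : Subgroup G), ∃ u, (u = 1 ∨ u = a) ∧
      ∃ z' ∈ zc (T₁ : Subgroup G) ⊓ centralizer (P₁ : Set G), z = u * z' := by
    intro z hz
    obtain ⟨hzT, hzc, hz2⟩ := VModule.mem_zc.1 hz
    have hzQ : z ∈ QL M i :=
      char2_line' M i (mem_inf.2 ⟨hTR hzT, mem_centralizer_iff.2 fun q hq => hzc q (hQT hq)⟩)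
    have hzY : z ∈ zc (o2 P) := by
      have hzS : z ∈ (S : Subgroup G) := hC i hzQ
      have hzP : z ∈ P := hSP hzS
      have h1 : z ∈ o2 P :=
        IsLoc.char2 S h0.c2 h0.par.isLoc ⟨hzP, mem_centralizer_iff.2 fun q hq => hzc q (hPT hq)⟩
      exact VModule.mem_zc.2 ⟨h1, fun q hq => hzc q (hPT hq), hz2⟩
    obtain ⟨u, hu2, h3, h4⟩ := h0.dec haV ha1 hb hb1 hab hzY fun g hg => hzc g (hKT hg)
    have huu : u * u = 1 := by
      rcases hu2 with rfl | rfl
      · exact one_mul _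
      · exact haa
    have hu3 : u ∈ zc (T₁ : Subgroup G) := by
      rcases hu2 with rfl | rfl
      · exact one_mem _
      · exact haT
    refine ⟨u, hu2, u * z, mem_inf.2 ⟨mul_mem hu3 hz, ?_⟩, by rw [← mul_assoc, huu, one_mul]⟩
    refine mem_cen_sup (fun y hy => (VModule.mem_zc.1 (mul_mem hu3 hz)).2.1 y hy) fun y hy => ?_
    rw [hX, B.bts.toBT.X_eq hoo] at hy
    have h5 : BTwo.WW (fac M.toNatV i) (BTwo.pt N o) ⊔ BTwo.WW (fac M.toNatV i) (BTwo.pt N o') ≤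
        centralizer ({u * z} : Set G) :=
      sup_le (fun x hx => mem_cent.2 (h3 x (hWa hx))) fun x hx => mem_cent.2 (h4 x (hWb hx))
    exact mem_cent.1 (h5 hy)
  obtain ⟨z₁, hz₁, hz₁1, hz₁a⟩ := exists_third M hD T₁ a
  obtain ⟨u, hu', z, hz, rfl⟩ := hdec z₁ hz₁
  refine ⟨N, P₁, o, a, z, {
    toBT := B.bts.toBT, card_R := hcard, char2 := M.hG, S_V := hTV, S_R := hTR,
    S_P := le_sup_left, P_V := hPV, P_trans := ?_, P_Z := ?_, r_ne := ha1, r_sq := haa, r_iff := ?_,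
    z_mem := hz, z_ne := ?_ }⟩
  · intro k
    obtain ⟨y, hy, e⟩ := B.bts.toBT.trans_X_one o k
    exact ⟨y, (le_sup_right : X ≤ _) hy, e⟩
  · intro y hy w hw
    obtain ⟨u', hu2, w', hw', rfl⟩ := hdec w hw
    have h1 : y * w' = w' * y := mem_centralizer_iff.1 (mem_inf.1 hw').2 y hy
    have h2 : y * (u' * w') * y⁻¹ * (u' * w')⁻¹ = y * u' * y⁻¹ * u'⁻¹ := by
      calc y * (u' * w') * y⁻¹ * (u' * w')⁻¹ = y * u' * (w' * y⁻¹) * w'⁻¹ * u'⁻¹ := by group
        _ = y * u' * (y⁻¹ * (y * w') * y⁻¹) * w'⁻¹ * u'⁻¹ := by group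
        _ = y * u' * (y⁻¹ * (w' * y) * y⁻¹) * w'⁻¹ * u'⁻¹ := by rw [h1]
        _ = y * u' * y⁻¹ * u'⁻¹ := by group
    rw [h2]
    have h3 : u' ∈ fac M.toNatV i := by
      rcases hu2 with rfl | rfl
      · exact one_mem _
      · exact haV
    exact mul_mem ((mem_normalizer_iff.1 (hPV hy) _).1 h3) (inv_mem h3)
  · intro y
    refine ⟨fun hy => BigD.eq_of_line hF ha ha1 hy, ?_⟩
    rintro (rfl | rfl)
    · exact one_mem _
    · exact ha
  · rintro rfl
    rw [mul_one] at hz₁1 hz₁a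
    rcases hu' with h1 | h1
    · exact hz₁1 h1
    · exact hz₁a h1

end main

end Cfsg.Agent.Omega.IId.NV

namespace Cfsg.Agent.Omega.IId.Cv

open Subgroup Cfsg Cfsg.Agent.ZN
open Cfsg.Agent.Omega.IId.NV
open Cfsg.Agent.Omega.HOne.Cut (TS0 Three0 More0 EndL known_of_pos)

universe u

/-- **`BigUS2`** : `T₁` is a Sylow 2-subgroup of `G`, `q = 2`. -/
theorem bigUS2 {K : Cfsg.Agent.Omega.Frame.Cls.{u}} (hT : TS0.{u, u}) (h3 : Three0.{u, u}) (hm : More0.{u, u})
    (hE : EndL.{u}) : BigUS2 K := by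
  intro G _ _ S hH P F _ _ _ V D k M _ hC hD i hu S₁ hO hF
  obtain ⟨N, P₁, o, r, z, p⟩ := pos_big M hF hC hD hu S₁ hO.le hO.fac hO.line
  exact known_of_pos hT h3 hm hE (hH.conj S₁).ctx (hH.conj S₁).full (hH.conj S₁).allIn p

end Cfsg.Agent.Omega.IId.Cv
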