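import Cfsg.Agent.Mrg.Omega.IId.Cv.TwoFourK
import Cfsg.Agent.Mrg.Omega.HOneTwo.Basic

section


/-!
# CvBig, CASE 2a, all `q`, any number of factors: the frame (helper796)

`Vf l` (`l ∈ κ`) : factors with lines `R l a` and root groups `K l a` (`KT`), `Q = O₂(P)`, `X l = ⟨K l a⟩`.

* `Uc R = Z(O₂(N_G(R)))`, `Dh = C_G(Q) ∩ ⋂ C(X l)`, `Wh = (⨆ Vf l) ⊔ Dh`;
* `Fr.F` : `Uc (R m b) ∩ C(Uc (R l a)) ≤ QQ (R l a)`, `l ≠ m`;
* `Fr.Vm` : `C_G(Q) ∩ Uc (R i a) ≤ Wh`;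
* `Fr.dec` : components;
* `Fr.lemK` : LEMMA K.
-/

set_option autoImplicit false
set_option linter.unusedSectionVars false

namespace Cfsg.Agent.Omega.IId.CvBig.Four

open Subgroup Cfsg.Agent.Omega.BTwo Cfsg.Agent.Omega.IId.Cv.TwoFour

variable {G : Type*} [Group G]

/-! ### Additions to `KT` -/

section kt

variable {ι : Type*} {V L : Subgroup G} {R K : ι → Subgroup G} (b : KT V L R K)
include b

theorem kt_R_of_cen {i : ι} {v : G} (hv : v ∈ V) (hc : v ∈ centralizer (K i : Set G)) : v ∈ R i := by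
  by_contra hR
  obtain ⟨j, hj, -⟩ := b.third i i
  obtain ⟨v₀, hv₀, hU⟩ := b.exists_mover hj
  apply hU
  rw [mem_centralizer_iff]
  intro a ha
  exact (b.reg (b.K_Q i hv₀) hv hR (mem_centralizer_iff.1 hc v₀ hv₀) a ha).symm

/-- `[a, K i] = R i` for `a ∉ R i` -/
theorem kt_full {i : ι} {a r : G} (ha : a ∈ V) (hai : a ∉ R i) (hr : r ∈ R i) :
    ∃ t ∈ K i, t * a * t⁻¹ * a⁻¹ = r := by
  obtain ⟨l, hl⟩ := b.R_cov a ha
  have hli : l ≠ i := by rintro rfl; exact hai hl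
  obtain ⟨m, hm⟩ := b.R_cov (r * a) (mul_mem (b.R_le i hr) ha)
  have hmi : m ≠ i := by
    rintro rfl
    apply hai
    have e : a = r⁻¹ * (r * a) := by group
    rw [e]
    exact mul_mem (inv_mem hr) hm
  obtain ⟨t, ht, e⟩ := b.tr i l m hli hmi
  refine ⟨t, ht, ?_⟩
  have h1 : t * a * t⁻¹ ∈ R m := by
    rw [← e]
    exact conj_mem_cj hl
  have h2 := b.QV i t (b.K_Q i ht) a ha
  have h3 : t * a * t⁻¹ * (r * a)⁻¹ ∈ R m := mul_mem h1 (inv_mem hm)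
  have h4 : t * a * t⁻¹ * (r * a)⁻¹ ∈ R i := by
    have e1 : t * a * t⁻¹ * (r * a)⁻¹ = t * a * t⁻¹ * a⁻¹ * r⁻¹ := by group
    rw [e1]
    exact mul_mem h2 (inv_mem hr)
  have h5 := b.eq_one hmi h3 h4
  have e1 : t * a * t⁻¹ * (r * a)⁻¹ = t * a * t⁻¹ * a⁻¹ * r⁻¹ := by group
  rw [e1, mul_inv_eq_one] at h5
  exact h5

/-- a line avoiding `a ≠ 1` -/
theorem kt_avoid {a : G} (ha1 : a ≠ 1) (i : ι) : ∃ j, a ∉ R j ∧ j ≠ i := by
  obtain ⟨j, hj, -⟩ := b.third i i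
  obtain ⟨k, hk, hkj⟩ := b.third i j
  by_cases h : a ∈ R j
  · exact ⟨k, fun h1 => ha1 (b.eq_one hkj h1 h), hk⟩
  · exact ⟨j, h, hj⟩

/-- the elements of `Q i` are `u⁻¹ c`, `u ∈ K i`, `c ∈ C(V)` -/
theorem kt_Q_dec [Finite G] {i : ι} {q : G} (hq : q ∈ QQ (R i)) : ∃ u ∈ K i, u * q ∈ centralizer (V : Set G) :=
  lemA b (b.Q_L i hq) ((O2_isPGroup _).to_le (by rw [zpowers_le]; exact hq)) fun r hr => b.QR i q hq r hr

/-- `g ∈ L` trivial on `V / R i` and fixing `1 ≠ z ∈ R i` centralises `R i` -/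
theorem kt_lemB {i : ι} {g z : G} (hg : g ∈ L) (hV : ∀ v ∈ V, g * v * g⁻¹ * v⁻¹ ∈ R i)
    (hz : z ∈ R i) (hz1 : z ≠ 1) (hgz : g * z = z * g) : ∀ r ∈ R i, g * r = r * g := by
  obtain ⟨j, hj, -⟩ := b.third i i
  obtain ⟨k, hk⟩ := b.perm g hg j
  have hgV := b.L_V hg
  have hgR : ∀ r ∈ R i, g * r * g⁻¹ ∈ R i := fun r hr => by
    have h1 := hV r (b.R_le i hr)
    have e : g * r * g⁻¹ = g * r * g⁻¹ * r⁻¹ * r := by group
    rw [e]
    exact mul_mem h1 hr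
  have hki : k ≠ i := by
    rintro rfl
    obtain ⟨v, hv, hv1⟩ := b.exists_ne j
    have h1 : g * v * g⁻¹ ∈ R k := by rw [← hk]; exact conj_mem_cj hv
    have h2 := hV v (b.R_le j hv)
    have h3 : v ∈ R k := by
      have e : v = (g * v * g⁻¹ * v⁻¹)⁻¹ * (g * v * g⁻¹) := by group
      rw [e]
      exact mul_mem (inv_mem h2) h1
    exact hv1 (b.eq_one hj hv h3)
  obtain ⟨u, hu, e⟩ := b.tr i k j hki hj
  set g₁ := u * g with hg₁
  have hg₁L : g₁ ∈ L := mul_mem (b.K_le_L i hu) hg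
  have hg₁V : ∀ v ∈ V, g₁ * v * g₁⁻¹ * v⁻¹ ∈ R i := by
    intro v hv
    have h1 := b.QV i u (b.K_Q i hu) _ (conj_mem_of_normalizer hgV hv)
    have e1 : g₁ * v * g₁⁻¹ * v⁻¹ = (u * (g * v * g⁻¹) * u⁻¹ * (g * v * g⁻¹)⁻¹) * (g * v * g⁻¹ * v⁻¹) := by
      rw [hg₁]; group
    rw [e1]
    exact mul_mem h1 (hV v hv)
  have hg₁j : cj g₁ (R j) = R j := by rw [hg₁, cj_mul, hk, e]
  have hg₁R : ∀ r ∈ R i, g₁ * r * g₁⁻¹ = g * r * g⁻¹ := by
    intro r hr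
    have h1 := b.conj_R (b.K_Q i hu) (hgR r hr)
    calc g₁ * r * g₁⁻¹ = u * (g * r * g⁻¹) * u⁻¹ := by rw [hg₁]; group
      _ = _ := h1
  have hcj : ∀ v ∈ R j, g₁ * v * g₁⁻¹ = v := by
    intro v hv
    have h1 : g₁ * v * g₁⁻¹ * v⁻¹ ∈ R j := by
      refine mul_mem ?_ (inv_mem hv)
      have := conj_mem_cj (g := g₁) hv
      rwa [hg₁j] at this
    have h2 := b.eq_one (Ne.symm hj) (hg₁V v (b.R_le j hv)) h1
    exact mul_inv_eq_one.1 h2
  have hgz' : g₁ * z * g₁⁻¹ = z := by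
    rw [hg₁R z hz, hgz, mul_inv_cancel_right]
  obtain ⟨v₀, hv₀, hv₁⟩ := b.exists_ne j
  -- the line through `v₀ z`
  obtain ⟨m, hm⟩ := b.R_cov (v₀ * z) (mul_mem (b.R_le j hv₀) (b.R_le i hz))
  have hmi : m ≠ i := by
    rintro rfl
    apply hv₁
    have h1 : v₀ ∈ R m := by
      have e1 : v₀ = v₀ * z * z⁻¹ := by group
      rw [e1]
      exact mul_mem hm (inv_mem hz)
    exact b.eq_one hj hv₀ h1
  have hmj : m ≠ j := by
    rintro rfl
    apply hz1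
    have h1 : z ∈ R m := by
      have e1 : z = v₀⁻¹ * (v₀ * z) := by group
      rw [e1]
      exact mul_mem (inv_mem hv₀) hm
    exact b.eq_one hj h1 hz
  have hgm : cj g₁ (R m) = R m := by
    obtain ⟨m', hm'⟩ := b.perm g₁ hg₁L m
    have h1 : v₀ * z ∈ R m' := by
      rw [← hm']
      have h2 : g₁ * (v₀ * z) * g₁⁻¹ = v₀ * z := by
        calc g₁ * (v₀ * z) * g₁⁻¹ = (g₁ * v₀ * g₁⁻¹) * (g₁ * z * g₁⁻¹) := by group
          _ = v₀ * z := by rw [hcj v₀ hv₀, hgz']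
      rw [← h2]
      exact conj_mem_cj hm
    have h3 : m = m' := by
      by_contra hne
      have h4 := b.eq_one hne hm h1
      have h5 : v₀ ∈ R i := by
        have e1 : v₀ = v₀ * z * z⁻¹ := by group
        rw [e1, h4, one_mul]
        exact inv_mem hz
      exact hv₁ (b.eq_one hj hv₀ h5)
    rw [h3] at hm' ⊢
    exact hm'
  intro r hr
  -- `r = p q` with `p ∈ R j`, `q ∈ R m`
  obtain ⟨p, hp, q, hq, hr'⟩ := b.exists_mul (Ne.symm hmj) (b.R_le i hr)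
  have h1 : g₁ * r * g₁⁻¹ * r⁻¹ = g₁ * q * g₁⁻¹ * q⁻¹ := by
    have hc : q * p = p * q := b.V_comm q (b.R_le m hq) p (b.R_le j hp)
    calc g₁ * r * g₁⁻¹ * r⁻¹ = (g₁ * p * g₁⁻¹) * (g₁ * q * g₁⁻¹) * (p * q)⁻¹ := by rw [hr']; group
      _ = p * (g₁ * q * g₁⁻¹) * (q * p)⁻¹ := by rw [hcj p hp, hc]
      _ = p * (g₁ * q * g₁⁻¹ * p⁻¹) * q⁻¹ := by group
      _ = p * (p⁻¹ * (g₁ * q * g₁⁻¹)) * q⁻¹ := by
        rw [b.V_comm _ (conj_mem_of_normalizer (b.L_V hg₁L) (b.R_le m hq)) _ (inv_mem (b.R_le j hp))]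
      _ = _ := by group
  have h2 : g₁ * q * g₁⁻¹ * q⁻¹ ∈ R m := by
    refine mul_mem ?_ (inv_mem hq)
    have := conj_mem_cj (g := g₁) hq
    rwa [hgm] at this
  have h3 : g₁ * r * g₁⁻¹ * r⁻¹ ∈ R i := hg₁V r (b.R_le i hr)
  rw [h1] at h3
  have h4 := b.eq_one hmi h2 h3
  rw [← h1, hg₁R r hr, mul_inv_eq_one, mul_inv_eq_iff_eq_mul] at h4
  exact h4

end kt

/-! ### The frame -/

/-- `Z(O₂(N_G(R)))` -/
def Uc (R : Subgroup G) : Subgroup G := QQ R ⊓ centralizer (QQ R : Set G)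

theorem Uc_le (R : Subgroup G) : Uc R ≤ QQ R := inf_le_left

theorem Uc_comm {R : Subgroup G} {u q : G} (hu : u ∈ Uc R) (hq : q ∈ QQ R) : u * q = q * u :=
  (mem_centralizer_iff.1 (mem_inf.1 hu).2 q hq).symm

theorem mem_Uc {R : Subgroup G} {u : G} (h1 : u ∈ QQ R) (h2 : ∀ q ∈ QQ R, u * q = q * u) : u ∈ Uc R :=
  mem_inf.2 ⟨h1, mem_centralizer_iff.2 fun q hq => (h2 q hq).symm⟩

theorem N_Uc (R : Subgroup G) : normalizer (R : Set G) ≤ normalizer (Uc R : Set G) := by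
  intro g hg
  have h1 := le_normalizer_O2 _ hg
  rw [← cj_eq_self_iff, Uc, cj_inf, ← centralizer_cj, cj_eq_self_iff.2 h1]

theorem Uc_two (R : Subgroup G) : IsPGroup 2 (Uc R) := (O2_isPGroup _).to_le (Uc_le R)

variable {κ : Type*} {ι : κ → Type*}

/-- the frame -/
structure Fr (Vf Lf : κ → Subgroup G) (R K : ∀ l, ι l → Subgroup G) (Q : Subgroup G) : Prop where
  kt : ∀ l, KT (Vf l) (Lf l) (R l) (K l)
  comm : ∀ l m, l ≠ m → ∀ v ∈ Vf l, ∀ w ∈ Vf m, v * w = w * v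
  QV' : ∀ l m, m ≠ l → ∀ a, ∀ g ∈ QQ (R l a), ∀ v ∈ Vf m, g * v = v * g
  VQ' : ∀ l m a, Vf m ≤ QQ (R l a)
  ch : ∀ l a, normalizer (R l a : Set G) ⊓ centralizer (QQ (R l a) : Set G) ≤ QQ (R l a)
  cQ : centralizer (Q : Set G) ≤ Q
  QC : ∀ l, ∀ g ∈ Q, ∀ v ∈ Vf l, g * v = v * g
  CQ : ∀ l a, ∀ g ∈ QQ (R l a), (∀ m, ∀ v ∈ Vf m, g * v = v * g) → g ∈ Q
  nQ : ∀ l a, QQ (R l a) ≤ normalizer (Q : Set G)

/-- `C_G(Q) ∩ ⋂ C(X l)` -/
def Dh (K : ∀ l, ι l → Subgroup G) (Q : Subgroup G) : Subgroup G :=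
  centralizer (Q : Set G) ⊓ ⨅ l, centralizer (XK (K l) : Set G)

/-- `⟨Vf l⟩ Dh` -/
def Wh (Vf : κ → Subgroup G) (K : ∀ l, ι l → Subgroup G) (Q : Subgroup G) : Subgroup G :=
  (⨆ l, Vf l) ⊔ Dh K Q

theorem mem_Dh {K : ∀ l, ι l → Subgroup G} {Q : Subgroup G} {d : G} :
    d ∈ Dh K Q ↔ d ∈ centralizer (Q : Set G) ∧ ∀ l, d ∈ centralizer (XK (K l) : Set G) := by
  rw [Dh, mem_inf, mem_iInf]

theorem Vf_le_Wh (Vf : κ → Subgroup G) (K : ∀ l, ι l → Subgroup G) (Q : Subgroup G) (l : κ) :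
    Vf l ≤ Wh Vf K Q := (le_iSup Vf l).trans le_sup_left

theorem Dh_le_Wh (Vf : κ → Subgroup G) (K : ∀ l, ι l → Subgroup G) (Q : Subgroup G) :
    Dh K Q ≤ Wh Vf K Q := le_sup_right

namespace Fr

variable {Vf Lf : κ → Subgroup G} {R K : ∀ l, ι l → Subgroup G} {Q : Subgroup G} (h : Fr Vf Lf R K Q)
include h

theorem comm' {l m : κ} {v w : G} (hv : v ∈ Vf l) (hw : w ∈ Vf m) : v * w = w * v := by
  by_cases hlm : l = m
  · subst hlm
    exact (h.kt l).V_comm v hv w hw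
  · exact h.comm l m hlm v hv w hw

/-- `Vf l ≤ Q` -/
theorem V_le_Q (l : κ) : Vf l ≤ Q := by
  obtain ⟨a, -⟩ := (h.kt l).R_cov 1 (one_mem _)
  exact fun v hv => h.CQ l a v (h.VQ' l l a hv) fun m w hw => h.comm' hv hw

theorem V_cen_Q (l : κ) : Vf l ≤ centralizer (Q : Set G) := fun v hv => by
  rw [mem_centralizer_iff]
  exact fun q hq => h.QC l q hq v hv

theorem K_comm {l m : κ} (hml : m ≠ l) {a : ι l} {t v : G} (ht : t ∈ K l a) (hv : v ∈ Vf m) : t * v = v * t :=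
  h.QV' l m hml a t ((h.kt l).K_Q a ht) v hv

/-- `Vf m ≤ C(X l)` for `m ≠ l` -/
theorem V_cen_X {l m : κ} (hml : m ≠ l) : Vf m ≤ centralizer (XK (K l) : Set G) := by
  have h1 : XK (K l) ≤ centralizer (Vf m : Set G) := iSup_le fun a t ht => by
    rw [mem_centralizer_iff]
    exact fun v hv => (h.K_comm hml ht hv).symm
  exact le_centralizer_iff.1 h1

theorem Uc_le_Q (l : κ) (a : ι l) : Uc (R l a) ≤ Q := fun u hu =>
  h.CQ l a u (Uc_le _ hu) fun m v hv => Uc_comm hu (h.VQ' l m a hv)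

theorem K0_le_Q {l : κ} {a : ι l} {u : G} (hu : u ∈ K l a) (hc : u ∈ centralizer (Vf l : Set G)) : u ∈ Q := by
  refine h.CQ l a u ((h.kt l).K_Q a hu) fun m v hv => ?_
  by_cases hml : m = l
  · subst hml
    exact (mem_centralizer_iff.1 hc v hv).symm
  · exact h.K_comm hml hu hv

theorem V_le_Uc {l m : κ} (hml : m ≠ l) (a : ι l) : Vf m ≤ Uc (R l a) := fun _ hv =>
  mem_Uc (h.VQ' l m a hv) fun q hq => (h.QV' l m hml a q hq _ hv).symm

theorem R_le_Uc (l : κ) (a : ι l) : R l a ≤ Uc (R l a) := fun r hr =>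
  mem_Uc (h.VQ' l l a ((h.kt l).R_le a hr)) fun q hq => ((h.kt l).QR a q hq r hr).symm

theorem cen_Uc_le (l : κ) (a : ι l) : centralizer (Uc (R l a) : Set G) ≤ normalizer (R l a : Set G) :=
  (centralizer_le (h.R_le_Uc l a)).trans (centralizer_le_normalizer _)

/-- a 2-group in `C(Uc (R l a))` normalised by it is in `QQ (R l a)` -/
theorem le_QQ_of {l : κ} {a : ι l} {A : Subgroup G} (hA : A ≤ centralizer (Uc (R l a) : Set G)) (h2 : IsPGroup 2 A)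
    (hn : ∀ c ∈ centralizer (Uc (R l a) : Set G), ∀ x ∈ A, c * x * c⁻¹ ∈ A) : A ≤ QQ (R l a) := by
  refine le_O2_of_chain hA le_rfl (h.cen_Uc_le l a) h2 hn (fun c hc g hg => mul_mem (mul_mem hc hg) (inv_mem hc)) ?_
  intro g hg c hc
  exact conj_mem_of_normalizer (normalizer_le_normalizer_centralizer _ (N_Uc _ hg)) hc

/-- **(F)** -/
theorem F {l m : κ} (hlm : l ≠ m) {a : ι l} {b : ι m} {y : G} (hy : y ∈ Uc (R m b))
    (hc : ∀ u ∈ Uc (R l a), y * u = u * y) : y ∈ QQ (R l a) := by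
  have h1 : Uc (R m b) ⊓ centralizer (Uc (R l a) : Set G) ≤ QQ (R l a) := by
    refine h.le_QQ_of inf_le_right ((Uc_two _).to_le inf_le_left) ?_
    rintro c hc x ⟨hx1, hx2⟩
    have h2 : c ∈ normalizer (R m b : Set G) :=
      (h.kt m).cen_le_N b (centralizer_le (h.V_le_Uc (Ne.symm hlm) a) hc)
    exact mem_inf.2 ⟨conj_mem_of_normalizer (N_Uc _ h2) hx1, mul_mem (mul_mem hc hx2) (inv_mem hc)⟩
  exact h1 (mem_inf.2 ⟨hy, mem_centralizer_iff.2 fun u hu => (hc u hu).symm⟩)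

/-- **(CU)** -/
theorem CU {l : κ} {a b : ι l} (hab : a ≠ b) {y : G} (ha : y ∈ QQ (R l a)) (hb : y ∈ QQ (R l b))
    (hka : ∀ u ∈ K l a, u ∈ centralizer (Vf l : Set G) → y * u = u * y)
    (hkb : ∀ u ∈ K l b, u ∈ centralizer (Vf l : Set G) → y * u = u * y) :
    ∃ v ∈ Vf l, v⁻¹ * y ∈ centralizer (XK (K l) : Set G) := by
  have k := h.kt l
  obtain ⟨v, hv, h2⟩ := k.cenU a y ha hka
  obtain ⟨c, hc, h3⟩ := k.cenU b y hb hkb
  obtain ⟨p, hp, q, hq, e⟩ := k.exists_mul hab (mul_mem (inv_mem hv) hc)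
  refine ⟨v * p, mul_mem hv (k.R_le a hp), k.mem_cen_X hab ?_ ?_⟩
  · have e1 : (v * p)⁻¹ * y = p⁻¹ * (v⁻¹ * y) := by group
    rw [e1]
    exact mul_mem (inv_mem (k.R_cen_K a hp)) h2
  · have e1 : (v * p)⁻¹ * y = q * (c⁻¹ * y) := by
      have e2 : c = v * (p * q) := by rw [← e]; group
      rw [e2]
      group
    rw [e1]
    exact mul_mem (k.R_cen_K b hq) h3

theorem CUQ {l : κ} {y : G} (ha : ∀ a, y ∈ QQ (R l a)) (hQ : y ∈ centralizer (Q : Set G)) :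
    ∃ v ∈ Vf l, v⁻¹ * y ∈ centralizer (XK (K l) : Set G) := by
  obtain ⟨a, b, hab⟩ := (h.kt l).exists_pair
  exact h.CU hab (ha a) (ha b) (fun u hu hc => (mem_centralizer_iff.1 hQ u (h.K0_le_Q hu hc)).symm)
    fun u hu hc => (mem_centralizer_iff.1 hQ u (h.K0_le_Q hu hc)).symm

/-- `C(Q) ∩ C(X l) ≤ Uc (R l a)` -/
theorem mem_Uc_of [Finite G] {l : κ} {c : G} (hQ : c ∈ centralizer (Q : Set G))
    (hX : c ∈ centralizer (XK (K l) : Set G)) (a : ι l) : c ∈ Uc (R l a) := by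
  have h1 : ∀ q ∈ QQ (R l a), c * q = q * c := by
    intro q hq
    obtain ⟨u, hu, hc⟩ := kt_Q_dec (h.kt l) hq
    have h2 : u * q ∈ Q := by
      refine h.CQ l a _ (mul_mem ((h.kt l).K_Q a hu) hq) fun m v hv => ?_
      by_cases hml : m = l
      · subst hml
        exact (mem_centralizer_iff.1 hc v hv).symm
      · exact h.QV' l m hml a _ (mul_mem ((h.kt l).K_Q a hu) hq) v hv
    have h3 := mem_centralizer_iff.1 hQ _ h2
    have h4 := mem_centralizer_iff.1 hX u (K_le_X (K l) a hu)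
    calc c * q = (c * u⁻¹) * (u * q) := by group
      _ = u⁻¹ * (u * c) * u⁻¹ * (u * q) := by group
      _ = u⁻¹ * (c * (u * q)) := by rw [h4]; group
      _ = u⁻¹ * (u * q * c) := by rw [← h3]
      _ = q * c := by group
  refine mem_Uc (h.ch l a (mem_inf.2 ⟨?_, mem_centralizer_iff.2 fun q hq => (h1 q hq).symm⟩)) h1
  apply centralizer_le_normalizer
  rw [mem_centralizer_iff]
  intro r hr
  exact mem_centralizer_iff.1 hQ r (h.V_le_Q l ((h.kt l).R_le a hr))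

theorem Dh_le_Uc [Finite G] (l : κ) (a : ι l) : Dh K Q ≤ Uc (R l a) := fun _ hd =>
  h.mem_Uc_of (mem_Dh.1 hd).1 ((mem_Dh.1 hd).2 l) a

theorem Wh_le_cen : Wh Vf K Q ≤ centralizer (Q : Set G) :=
  sup_le (iSup_le fun l => h.V_cen_Q l) inf_le_left

theorem Wh_le_Q : Wh Vf K Q ≤ Q := h.Wh_le_cen.trans h.cQ

theorem Wh_comm {a b : G} (ha : a ∈ Wh Vf K Q) (hb : b ∈ Wh Vf K Q) : a * b = b * a :=
  (mem_centralizer_iff.1 (h.Wh_le_cen ha) b (h.Wh_le_Q hb)).symm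

theorem Wh_le_QQ [Finite G] (l : κ) (a : ι l) : Wh Vf K Q ≤ QQ (R l a) :=
  sup_le (iSup_le fun m => h.VQ' l m a) ((h.Dh_le_Uc l a).trans (Uc_le _))

/-- components -/
theorem dec {z : G} (hz : z ∈ Wh Vf K Q) (j : κ) : ∃ a ∈ Vf j, a⁻¹ * z ∈ centralizer (XK (K j) : Set G) := by
  let T : Subgroup G :=
    { carrier := {z | z ∈ centralizer (Vf j : Set G) ∧ ∃ a ∈ Vf j, a⁻¹ * z ∈ centralizer (XK (K j) : Set G)}
      one_mem' := ⟨one_mem _, 1, one_mem _, by rw [inv_one, mul_one]; exact one_mem _⟩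
      mul_mem' := by
        rintro z z' ⟨hz, a, ha, h1⟩ ⟨hz', a', ha', h2⟩
        refine ⟨mul_mem hz hz', a * a', mul_mem ha ha', ?_⟩
        have e : (a * a')⁻¹ * (z * z') = a⁻¹ * z * (a'⁻¹ * z') := by
          have h3 := mem_centralizer_iff.1 hz _ (inv_mem ha')
          have h4 := (h.kt j).V_comm _ (inv_mem ha') _ (inv_mem ha)
          calc (a * a')⁻¹ * (z * z') = (a'⁻¹ * a⁻¹) * z * z' := by group
            _ = a⁻¹ * (a'⁻¹ * z) * z' := by rw [h4]; group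
            _ = a⁻¹ * z * (a'⁻¹ * z') := by rw [h3]; group
        rw [e]
        exact mul_mem h1 h2
      inv_mem' := by
        rintro z ⟨hz, a, ha, h1⟩
        refine ⟨inv_mem hz, a⁻¹, inv_mem ha, ?_⟩
        have h3 := mem_centralizer_iff.1 (inv_mem hz) _ ha
        have e : a⁻¹⁻¹ * z⁻¹ = (a⁻¹ * z)⁻¹ := by
          rw [inv_inv, h3]; group
        rw [e]
        exact inv_mem h1 }
  have hT : Wh Vf K Q ≤ T := by
    refine sup_le (iSup_le fun l v hv => ?_) fun d hd => ?_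
    · refine ⟨mem_centralizer_iff.2 fun w hw => h.comm' hw hv, ?_⟩
      by_cases hlj : l = j
      · subst hlj
        exact ⟨v, hv, by rw [inv_mul_cancel]; exact one_mem _⟩
      · exact ⟨1, one_mem _, by rw [inv_one, one_mul]; exact h.V_cen_X hlj hv⟩
    · refine ⟨mem_centralizer_iff.2 fun w hw => ?_, 1, one_mem _, ?_⟩
      · exact mem_centralizer_iff.1 (mem_Dh.1 hd).1 w (h.V_le_Q j hw)
      · rw [inv_one, one_mul]
        exact (mem_Dh.1 hd).2 j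
  exact (hT hz).2

theorem uniq {j : κ} {a : G} (ha : a ∈ Vf j) (hc : a ∈ centralizer (XK (K j) : Set G)) : a = 1 :=
  (h.kt j).cen_VX ha hc

theorem mem_Dh_of {z : G} (hz : z ∈ Wh Vf K Q) (hX : ∀ l, z ∈ centralizer (XK (K l) : Set G)) : z ∈ Dh K Q :=
  mem_Dh.2 ⟨h.Wh_le_cen hz, hX⟩

/-- **(V⁻)** `C_G(Q) ∩ Uc (R i a) ≤ Wh` -/
theorem Vm [Finite G] [Finite κ] {i j : κ} (hj : j ≠ i) {a : ι i} {y : G} (hy : y ∈ Uc (R i a))
    (hQ : y ∈ centralizer (Q : Set G)) : y ∈ Wh Vf K Q := by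
  classical
  have := Fintype.ofFinite κ
  have h1 : ∀ l, l ≠ i → ∀ b : ι l, y ∈ QQ (R l b) := fun l hl b =>
    h.F hl hy fun u hu => (mem_centralizer_iff.1 hQ u (h.Uc_le_Q l b hu)).symm
  have key : ∀ s : Finset κ, i ∉ s → ∃ v ∈ ⨆ l ∈ s, Vf l, ∀ l ∈ s, v⁻¹ * y ∈ centralizer (XK (K l) : Set G) := by
    intro s
    induction s using Finset.induction_on with
    | empty => intro _; exact ⟨1, one_mem _, fun l hl => absurd hl (Finset.notMem_empty l)⟩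
    | insert m s hm ih =>
      intro hi
      rw [Finset.mem_insert, not_or] at hi
      obtain ⟨v, hv, hv'⟩ := ih hi.2
      obtain ⟨e, he, he'⟩ := h.CUQ (fun b => h1 m (Ne.symm hi.1) b) hQ
      have hvX : v ∈ centralizer (XK (K m) : Set G) := by
        have h2 : (⨆ l ∈ s, Vf l) ≤ centralizer (XK (K m) : Set G) :=
          iSup₂_le fun l hl => h.V_cen_X (by rintro rfl; exact hm hl)
        exact h2 hv
      have hve : v * e = e * v := by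
        have h2 : (⨆ l ∈ s, Vf l) ≤ centralizer (Vf m : Set G) :=
          iSup₂_le fun l hl w hw => mem_centralizer_iff.2 fun x hx => h.comm' hx hw
        exact (mem_centralizer_iff.1 (h2 hv) e he).symm
      refine ⟨v * e, mul_mem ?_ ?_, ?_⟩
      · exact (biSup_mono fun l hl => Finset.mem_insert_of_mem hl : (⨆ l ∈ s, Vf l) ≤ ⨆ l ∈ insert m s, Vf l) hv
      · exact (le_iSup₂_of_le m (Finset.mem_insert_self m s) le_rfl : Vf m ≤ ⨆ l ∈ insert m s, Vf l) he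
      · intro l hl
        rcases Finset.mem_insert.1 hl with rfl | hl
        · have e1 : (v * e)⁻¹ * y = v⁻¹ * (e⁻¹ * y) := by
            rw [hve]; group
          rw [e1]
          exact mul_mem (inv_mem hvX) he'
        · have e1 : (v * e)⁻¹ * y = e⁻¹ * (v⁻¹ * y) := by group
          rw [e1]
          exact mul_mem (inv_mem (h.V_cen_X (by rintro rfl; exact hm hl) he)) (hv' l hl)
  obtain ⟨v, hv, hv'⟩ := key (Finset.univ.erase i) (by simp)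
  have hvV : v ∈ ⨆ l, Vf l := (iSup₂_le fun l _ => le_iSup Vf l : (⨆ l ∈ Finset.univ.erase i, Vf l) ≤ _) hv
  have hvW : v ∈ Wh Vf K Q := (le_sup_left : (⨆ l, Vf l) ≤ _) hvV
  have hv'' : ∀ l, l ≠ i → v⁻¹ * y ∈ centralizer (XK (K l) : Set G) := fun l hl => hv' l (by simp [hl])
  have hcQ : v⁻¹ * y ∈ centralizer (Q : Set G) := mul_mem (inv_mem (h.Wh_le_cen hvW)) hQ
  obtain ⟨b, -⟩ := (h.kt j).R_cov 1 (one_mem _)
  have hcU := h.mem_Uc_of hcQ (hv'' j hj) b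
  obtain ⟨e, he, he'⟩ := h.CUQ (l := i) (y := v⁻¹ * y)
    (fun a' => h.F (Ne.symm hj) hcU fun u hu => (mem_centralizer_iff.1 hcQ u (h.Uc_le_Q i a' hu)).symm) hcQ
  have hd : e⁻¹ * (v⁻¹ * y) ∈ Dh K Q := by
    refine mem_Dh.2 ⟨mul_mem (inv_mem (h.V_cen_Q i he)) hcQ, fun l => ?_⟩
    by_cases hl : l = i
    · subst hl
      exact he'
    · exact mul_mem (inv_mem (h.V_cen_X (Ne.symm hl) he)) (hv'' l hl)
  have e1 : y = v * (e * (e⁻¹ * (v⁻¹ * y))) := by group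
  rw [e1]
  exact mul_mem hvW (mul_mem (Vf_le_Wh Vf K Q i he) (Dh_le_Wh Vf K Q hd))

/-- **LEMMA K** -/
theorem lemK [Finite G] {i j : κ} (hji : j ≠ i) {ai : ι i} {Y A : Subgroup G} (hYU : Y ≤ Uc (R i ai))
    (hAW : A ≤ Wh Vf K Q) (hA : ∀ y ∈ Y, ∀ u ∈ Q, y * u * y⁻¹ * u⁻¹ ∈ A)
    (hfull : ∀ u ∈ Q, (∃ y ∈ Y, y * u ≠ u * y) → ∀ z ∈ A, ∃ y ∈ Y, y * u * y⁻¹ * u⁻¹ = z)
    (hmv : ∃ u ∈ Q, ∃ y ∈ Y, y * u ≠ u * y) (hcard : ∀ b : ι j, Nat.card A ≤ Nat.card (R j b)) :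
    A ≤ centralizer (XK (K j) : Set G) := by
  have k := h.kt j
  intro z hz
  obtain ⟨a, ha, haz⟩ := h.dec (hAW hz) j
  by_contra hzX
  have ha1 : a ≠ 1 := by
    rintro rfl
    rw [inv_one, one_mul] at haz
    exact hzX haz
  obtain ⟨b₀, -⟩ := k.R_cov 1 (one_mem _)
  obtain ⟨b, hb, -⟩ := kt_avoid k ha1 b₀
  have hYQ : Y ≤ Q := hYU.trans (h.Uc_le_Q i ai)
  have hQN : Q ≤ normalizer (R j b : Set G) := fun q hq => k.cen_le_N b
    (mem_centralizer_iff.2 fun v hv => (h.QC j q hq v hv).symm)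
  by_cases hcase : ∃ u ∈ Uc (R j b), ∃ y ∈ Y, y * u ≠ u * y
  · obtain ⟨u, hu, hy⟩ := hcase
    obtain ⟨y, hy, rfl⟩ := hfull u (h.Uc_le_Q j b hu) hy z hz
    have h1 : y * u * y⁻¹ * u⁻¹ ∈ Uc (R j b) :=
      mul_mem (conj_mem_of_normalizer (N_Uc _ (hQN (hYQ hy))) hu) (inv_mem hu)
    apply hb
    refine kt_R_of_cen k ha ?_
    have e : a = y * u * y⁻¹ * u⁻¹ * (a⁻¹ * (y * u * y⁻¹ * u⁻¹))⁻¹ := by group
    rw [e]
    refine mul_mem ?_ (inv_mem (cen_XK_le (K j) b haz))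
    rw [mem_centralizer_iff]
    exact fun t ht => (Uc_comm h1 (k.K_Q b ht)).symm
  · push Not at hcase
    have hYQ' : ∀ y ∈ Y, y ∈ QQ (R j b) := fun y hy => h.F hji (hYU hy) fun u hu => hcase u hu y hy
    obtain ⟨u₀, hu₀, hm₀⟩ := hmv
    -- `K j b` normalises `A`
    have hKA : ∀ t ∈ K j b, t * z * t⁻¹ ∈ A := by
      intro t ht
      obtain ⟨y, hy, rfl⟩ := hfull u₀ hu₀ hm₀ z hz
      have h1 := k.KQ b y (hYQ' y hy) t ht
      set ρ := y * t * y⁻¹ * t⁻¹ with hρ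
      have hρW : ρ ∈ Wh Vf K Q := Vf_le_Wh Vf K Q j (k.R_le b h1)
      have htQ : t * u₀ * t⁻¹ ∈ Q := conj_mem_of_normalizer (h.nQ j b (k.K_Q b ht)) hu₀
      have h2 : t * y * t⁻¹ = ρ⁻¹ * y := by rw [hρ]; group
      have h3 := hA y hy _ htQ
      have h4 := mem_centralizer_iff.1 (inv_mem (h.Wh_le_cen hρW)) _ htQ
      have h5 := h.Wh_comm (inv_mem hρW) (hAW h3)
      have e : t * (y * u₀ * y⁻¹ * u₀⁻¹) * t⁻¹ = y * (t * u₀ * t⁻¹) * y⁻¹ * (t * u₀ * t⁻¹)⁻¹ := by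
        calc t * (y * u₀ * y⁻¹ * u₀⁻¹) * t⁻¹
            = (t * y * t⁻¹) * (t * u₀ * t⁻¹) * (t * y * t⁻¹)⁻¹ * (t * u₀ * t⁻¹)⁻¹ := by group
          _ = ρ⁻¹ * (y * (t * u₀ * t⁻¹) * y⁻¹ * (t * u₀ * t⁻¹)⁻¹) * ((t * u₀ * t⁻¹) * ρ⁻¹⁻¹ * (t * u₀ * t⁻¹)⁻¹) := by
            rw [h2]; group
          _ = ρ⁻¹ * (y * (t * u₀ * t⁻¹) * y⁻¹ * (t * u₀ * t⁻¹)⁻¹) * ρ⁻¹⁻¹ := by
            have h6 := mem_centralizer_iff.1 (inv_mem (inv_mem (h.Wh_le_cen hρW))) _ htQ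
            rw [h6, mul_inv_cancel_right]
          _ = _ := by rw [h5, mul_inv_cancel_right]
      rw [e]
      exact h3
    have hRA : R j b ≤ A := by
      intro r hr
      obtain ⟨t, ht, rfl⟩ := kt_full k ha hb hr
      have h1 := mul_mem (hKA t ht) (inv_mem hz)
      have h2 := mem_centralizer_iff.1 haz t (K_le_X (K j) b ht)
      have e : t * z * t⁻¹ * z⁻¹ = t * a * t⁻¹ * a⁻¹ := by
        calc t * z * t⁻¹ * z⁻¹ = t * a * t⁻¹ * ((t * (a⁻¹ * z)) * t⁻¹) * z⁻¹ := by group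
          _ = t * a * t⁻¹ * a⁻¹ := by rw [h2]; group
      rwa [e] at h1
    have hAR : A = R j b := (eq_of_le_of_card_ge hRA (hcard b)).symm
    have hzR : z ∈ R j b := hAR ▸ hz
    have h1 : a⁻¹ * z = 1 := h.uniq (mul_mem (inv_mem ha) (k.R_le b hzR)) haz
    have h2 : a = z := by
      rw [inv_mul_eq_one] at h1
      exact h1
    exact hb (h2 ▸ hzR)

end Fr

end Cfsg.Agent.Omega.IId.CvBig.Four

end

section


/-!
# CvBig, CASE 2a, all `q`, `k ≥ 3`: the kill of (SURV) (helper796)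

`FT` : the frame over `T = N_S(Vf i)`.  `Sv` : (SURV), `Rc ≠ R i` a `T`-invariant conjugate of `R i`, `Kc` its root group.

* `FT.Zlem` : LEMMA 3;
* `FT.kill` : (SURV) is impossible.
-/

set_option autoImplicit false
set_option linter.unusedSectionVars false

namespace Cfsg.Agent.Omega.IId.CvBig.Four

open Subgroup Cfsg.Agent.Omega.BTwo Cfsg.Agent.Omega.IId.Cv.TwoFour
open Cfsg.Agent.Omega.F4Leaf.Syl.LocP (exists_step)

variable {G : Type*} [Group G] {κ : Type*} {ι : κ → Type*}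

/-- a 2-element outside `T` has a power outside `T` with square in `T` -/
theorem exists_pow_sq {T : Subgroup G} {w : G} (h2 : IsPGroup 2 (zpowers w)) (hw : w ∉ T) :
    ∃ n : ℕ, w ^ n ∉ T ∧ w ^ n * w ^ n ∈ T := by
  classical
  obtain ⟨n, hn⟩ := h2 ⟨w, mem_zpowers w⟩
  have hn' : w ^ 2 ^ n = 1 := congrArg Subtype.val hn
  have hex : ∃ n, w ^ 2 ^ n ∈ T := ⟨n, by rw [hn']; exact one_mem _⟩
  have h1 := Nat.find_spec hex
  have h0 : Nat.find hex ≠ 0 := by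
    intro h0
    rw [h0, pow_zero, pow_one] at h1
    exact hw h1
  obtain ⟨m, hm⟩ := Nat.exists_eq_succ_of_ne_zero h0
  refine ⟨2 ^ m, fun h => ?_, ?_⟩
  · exact Nat.find_min hex (by omega) h
  · rw [← pow_add, ← two_mul, ← pow_succ']
    rw [hm] at h1
    exact h1

/-- the frame over `T` -/
structure FT (Vf Lf : κ → Subgroup G) (R K : ∀ l, ι l → Subgroup G) (Q : Subgroup G) (o : ∀ l, ι l)
    (T : Subgroup G) (i : κ) : Prop extends Fr Vf Lf R K Q where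
  card : ∀ l m (a : ι l) (b : ι m), Nat.card (R l a) = Nat.card (R m b)
  T2 : IsPGroup 2 T
  QT : Q ≤ T
  QQT : ∀ l, QQ (R l (o l)) ≤ T
  TV : T ≤ normalizer (Vf i : Set G)
  TQ : T ≤ normalizer (Q : Set G)
  perm : ∀ g ∈ T, ∀ l, ∃ m, cj g (Vf l) = Vf m
  lin : ∀ g ∈ T, ∀ l m, cj g (Vf l) = Vf m → cj g (R l (o l)) = R m (o m)
  TL : ∀ g ∈ T, ∀ l, g ∈ normalizer (Vf l : Set G) → g ∈ Lf l
  TCQ : ∀ g ∈ T, (∀ l, ∀ v ∈ Vf l, g * v = v * g) → g ∈ Q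

/-- (SURV) -/
structure Sv (R K : ∀ l, ι l → Subgroup G) (Q : Subgroup G) (o : ∀ l, ι l) (T : Subgroup G) (i : κ)
    (Rc Kc : Subgroup G) : Prop where
  RcU : Rc ≤ Uc (R i (o i))
  RcQ : Rc ≤ centralizer (Q : Set G)
  Rcd : ∀ c ∈ Rc, ∃ r ∈ R i (o i), r⁻¹ * c ∈ centralizer (XK (K i) : Set G)
  RcX : ∀ c ∈ Rc, c ∈ centralizer (XK (K i) : Set G) → c = 1
  card : Nat.card Rc = Nat.card (R i (o i))
  Kc2 : IsPGroup 2 Kc
  TKc : T ≤ normalizer (Kc : Set G)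
  Kcn : ¬ Kc ≤ T
  Kcc : ∀ a ∈ Kc, ∀ b ∈ Kc, a * b * a⁻¹ * b⁻¹ ∈ Rc
  KcR : ∀ a ∈ Kc, ∀ r ∈ R i (o i), a * r = r * a

/-- `[ρ⁻¹ y, u] = [y, u]` for `ρ ∈ Wh`, `u ∈ Q` -/
theorem Fr.shift {Vf Lf : κ → Subgroup G} {R K : ∀ l, ι l → Subgroup G} {Q : Subgroup G} (h : Fr Vf Lf R K Q)
    {ρ y u : G} (hρ : ρ ∈ Wh Vf K Q) (hu : u ∈ Q) (hyu : y * u * y⁻¹ * u⁻¹ ∈ Wh Vf K Q) :
    (ρ⁻¹ * y) * u * (ρ⁻¹ * y)⁻¹ * u⁻¹ = y * u * y⁻¹ * u⁻¹ := by
  have h5 := h.Wh_comm (inv_mem hρ) hyu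
  have h6 := mem_centralizer_iff.1 (inv_mem (inv_mem (h.Wh_le_cen hρ))) _ hu
  calc (ρ⁻¹ * y) * u * (ρ⁻¹ * y)⁻¹ * u⁻¹ = ρ⁻¹ * (y * u * y⁻¹ * u⁻¹) * (u * ρ⁻¹⁻¹ * u⁻¹) := by group
    _ = ρ⁻¹ * (y * u * y⁻¹ * u⁻¹) * ρ⁻¹⁻¹ := by rw [h6, mul_inv_cancel_right]
    _ = _ := by rw [h5, mul_inv_cancel_right]

namespace Fr

variable {Vf Lf : κ → Subgroup G} {R K : ∀ l, ι l → Subgroup G} {Q : Subgroup G} (h : Fr Vf Lf R K Q)
include h

theorem Vf_inf {l m : κ} (hlm : l ≠ m) {v : G} (h1 : v ∈ Vf l) (h2 : v ∈ Vf m) : v = 1 :=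
  h.uniq h1 (h.V_cen_X hlm.symm h2)

theorem Vf_ne (l : κ) (a : ι l) : ∃ v ∈ Vf l, v ≠ 1 ∧ v ∉ R l a := by
  obtain ⟨b, hb, -⟩ := (h.kt l).third a a
  obtain ⟨v, hv, hv1⟩ := (h.kt l).exists_ne b
  exact ⟨v, (h.kt l).R_le b hv, hv1, (h.kt l).not_mem hb hv hv1⟩

theorem Vf_inj {l m : κ} (hlm : Vf l = Vf m) : l = m := by
  by_contra hne
  obtain ⟨a, -⟩ := (h.kt l).R_cov 1 (one_mem _)
  obtain ⟨v, hv, hv1, -⟩ := h.Vf_ne l a
  exact hv1 (h.Vf_inf hne hv (hlm ▸ hv))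

/-- uniqueness of components -/
theorem comp_eq {l : κ} {a a' z : G} (ha : a ∈ Vf l) (ha' : a' ∈ Vf l)
    (h1 : a⁻¹ * z ∈ centralizer (XK (K l) : Set G)) (h2 : a'⁻¹ * z ∈ centralizer (XK (K l) : Set G)) : a = a' := by
  have h3 : a'⁻¹ * a ∈ centralizer (XK (K l) : Set G) := by
    have e : a'⁻¹ * a = a'⁻¹ * z * (a⁻¹ * z)⁻¹ := by group
    rw [e]
    exact mul_mem h2 (inv_mem h1)
  exact (inv_mul_eq_one.1 (h.uniq (mul_mem (inv_mem ha') ha) h3)).symm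

/-- `g` commutes with `z ∈ Wh` if it commutes with the components of `z` and with `Dh` -/
theorem cent_of_comp [Finite κ] {g z : G} (hz : z ∈ Wh Vf K Q)
    (hg : ∀ l, ∀ a ∈ Vf l, a⁻¹ * z ∈ centralizer (XK (K l) : Set G) → g * a = a * g)
    (hD : ∀ d ∈ Dh K Q, g * d = d * g) : g * z = z * g := by
  classical
  have := Fintype.ofFinite κ
  have key : ∀ s : Finset κ, ∃ v ∈ Wh Vf K Q, g * v = v * g ∧
      (∀ l ∈ s, v⁻¹ * z ∈ centralizer (XK (K l) : Set G)) ∧ ∀ l, l ∉ s → v ∈ centralizer (XK (K l) : Set G) := by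
    intro s
    induction s using Finset.induction_on with
    | empty => exact ⟨1, one_mem _, by simp, fun l hl => absurd hl (Finset.notMem_empty l), fun l _ => one_mem _⟩
    | insert m s hm ih =>
      obtain ⟨v, hv, hgv, h1, h2⟩ := ih
      obtain ⟨a, ha, haz⟩ := h.dec hz m
      have haW := Vf_le_Wh Vf K Q m ha
      refine ⟨v * a, mul_mem hv haW, ?_, fun l hl => ?_, fun l hl => ?_⟩
      · rw [← mul_assoc, hgv, mul_assoc, hg m a ha haz, mul_assoc]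
      · rcases Finset.mem_insert.1 hl with rfl | hl
        · have e1 : (v * a)⁻¹ * z = v⁻¹ * (a⁻¹ * z) := by
            rw [h.Wh_comm hv haW]; group
          rw [e1]
          exact mul_mem (inv_mem (h2 l hm)) haz
        · have e1 : (v * a)⁻¹ * z = a⁻¹ * (v⁻¹ * z) := by group
          rw [e1]
          exact mul_mem (inv_mem (h.V_cen_X (by rintro rfl; exact hm hl) ha)) (h1 l hl)
      · rw [Finset.mem_insert, not_or] at hl
        exact mul_mem (h2 l hl.2) (h.V_cen_X (Ne.symm hl.1) ha)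
  obtain ⟨v, hv, hgv, h1, -⟩ := key Finset.univ
  have hd : v⁻¹ * z ∈ Dh K Q := h.mem_Dh_of (mul_mem (inv_mem hv) hz) fun l => h1 l (Finset.mem_univ l)
  have h2 := hD _ hd
  calc g * z = g * v * (v⁻¹ * z) := by group
    _ = v * (g * (v⁻¹ * z)) := by rw [hgv]; group
    _ = z * g := by rw [h2]; group

end Fr

namespace FT

variable {Vf Lf : κ → Subgroup G} {R K : ∀ l, ι l → Subgroup G} {Q : Subgroup G} {o : ∀ l, ι l} {T : Subgroup G}
  {i : κ} (h : FT Vf Lf R K Q o T i)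
include h

theorem cj_i {g : G} (hg : g ∈ T) : cj g (Vf i) = Vf i := cj_eq_self_iff.2 (h.TV hg)

theorem TR : T ≤ normalizer (R i (o i) : Set G) := fun g hg =>
  cj_eq_self_iff.1 (h.lin g hg i i (h.cj_i hg))

theorem T_zp {g : G} (hg : g ∈ T) : IsPGroup 2 (zpowers g) := h.T2.to_le (by rw [zpowers_le]; exact hg)

theorem KT' (l : κ) : K l (o l) ≤ T := ((h.kt l).K_Q (o l)).trans (h.QQT l)

/-- an element of `T` normalising `Vf l` and centralising the line acts as a root element -/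
theorem root [Finite G] {g : G} (hg : g ∈ T) {l : κ} (hV : g ∈ normalizer (Vf l : Set G))
    (hR : ∀ r ∈ R l (o l), g * r = r * g) : ∃ u ∈ K l (o l), u * g ∈ centralizer (Vf l : Set G) :=
  lemA (h.kt l) (h.TL g hg l hV) (h.T_zp hg) hR

/-- `[g, v] = [u⁻¹, v]` -/
theorem comm_root {g u v : G} {V : Subgroup G} (hu : u * g ∈ centralizer (V : Set G)) (hv : v ∈ V) :
    g * v * g⁻¹ * v⁻¹ = u⁻¹ * v * u⁻¹⁻¹ * v⁻¹ := by
  have _ := h
  have h3 := mem_centralizer_iff.1 hu v hv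
  calc g * v * g⁻¹ * v⁻¹ = u⁻¹ * (u * g * v) * g⁻¹ * v⁻¹ := by group
    _ = u⁻¹ * (v * (u * g)) * g⁻¹ * v⁻¹ := by rw [← h3]
    _ = _ := by group

theorem comm_root_mem {g u : G} {l : κ} (hu : u ∈ K l (o l)) (hug : u * g ∈ centralizer (Vf l : Set G))
    {v : G} (hv : v ∈ Vf l) : g * v * g⁻¹ * v⁻¹ ∈ R l (o l) := by
  rw [h.comm_root hug hv]
  exact (h.kt l).QV (o l) _ (inv_mem ((h.kt l).K_Q (o l) hu)) v hv

/-- an element of `T` which acts as a root element on every factor centralises `Dh` -/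
theorem comm_Dh [Finite G] [Finite κ] {g : G} (hg : g ∈ T)
    (hr : ∀ l, ∃ u ∈ K l (o l), u * g ∈ centralizer (Vf l : Set G)) {d : G} (hd : d ∈ Dh K Q) : g * d = d * g := by
  classical
  have := Fintype.ofFinite κ
  have hgV : ∀ l, ∀ v ∈ Vf l, g * v * g⁻¹ ∈ Vf l := by
    intro l v hv
    obtain ⟨u, hu, hug⟩ := hr l
    have h1 := h.comm_root_mem hu hug hv
    have e : g * v * g⁻¹ = g * v * g⁻¹ * v⁻¹ * v := by group
    rw [e]
    exact mul_mem ((h.kt l).R_le _ h1) hv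
  have key : ∀ s : Finset κ, ∃ x ∈ T, x * d = d * x ∧ (∀ l ∈ s, x * g ∈ centralizer (Vf l : Set G)) ∧
      ∀ l, l ∉ s → x ∈ centralizer (Vf l : Set G) := by
    intro s
    induction s using Finset.induction_on with
    | empty => exact ⟨1, one_mem _, by simp, fun l hl => absurd hl (Finset.notMem_empty l), fun l _ => one_mem _⟩
    | insert m s hm ih =>
      obtain ⟨x, hx, hxd, h1, h2⟩ := ih
      obtain ⟨u, hu, hug⟩ := hr m
      have huV : ∀ l, l ≠ m → u ∈ centralizer (Vf l : Set G) := fun l hl => by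
        rw [mem_centralizer_iff]
        exact fun v hv => (h.K_comm hl hu hv).symm
      have hud : u * d = d * u := mem_centralizer_iff.1 ((mem_Dh.1 hd).2 m) u (K_le_X (K m) (o m) hu)
      refine ⟨u * x, mul_mem (h.KT' m hu) hx, ?_, fun l hl => ?_, fun l hl => ?_⟩
      · rw [mul_assoc, hxd, ← mul_assoc, hud, mul_assoc]
      · rcases Finset.mem_insert.1 hl with rfl | hl'
        · rw [mem_centralizer_iff]
          intro v hv
          have h3 := hgV l v hv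
          have h4 := mem_centralizer_iff.1 (h2 l hm) _ h3
          have h5 := mem_centralizer_iff.1 hug v hv
          calc v * (u * x * g) = (v * (u * g)) * g⁻¹ * x * g := by
                have h6 : g⁻¹ * x * g = g⁻¹ * x * g := rfl
                group
            _ = u * (g * v * g⁻¹) * x * g := by rw [h5]; group
            _ = u * (g * v * g⁻¹ * x) * g := by group
            _ = u * x * g * v := by rw [h4]; group
        · have e1 : u * x * g = u * (x * g) := by group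
          rw [e1]
          exact mul_mem (huV l (by rintro rfl; exact hm hl')) (h1 l hl')
      · rw [Finset.mem_insert, not_or] at hl
        exact mul_mem (huV l hl.1) (h2 l hl.2)
  obtain ⟨x, hx, hxd, h1, -⟩ := key Finset.univ
  have h3 : x * g ∈ Q := h.TCQ _ (mul_mem hx hg) fun l v hv =>
    (mem_centralizer_iff.1 (h1 l (Finset.mem_univ l)) v hv).symm
  have h4 := mem_centralizer_iff.1 (mem_Dh.1 hd).1 _ h3
  calc g * d = x⁻¹ * (x * g * d) := by group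
    _ = x⁻¹ * (d * (x * g)) := by rw [h4]
    _ = x⁻¹ * (x * d) * g := by rw [hxd]; group
    _ = d * g := by group

/-- **LEMMA 3** -/
theorem Zlem [Finite G] [Finite κ] {U₀ : Subgroup G} {J₀ : Set κ} {t : G} (hUW : U₀ ≤ Wh Vf K Q)
    (hUt : cj t U₀ = U₀) (hJ : ∀ m ∈ J₀, Vf m ≤ U₀)
    (hn1 : ∀ m, m ∉ J₀ → R m (o m) ≤ U₀)
    (hn2 : ∀ m, m ∉ J₀ → ∀ z ∈ U₀, ∀ a ∈ Vf m, a⁻¹ * z ∈ centralizer (XK (K m) : Set G) → a ∈ R m (o m))
    (hn3 : ∀ m, m ∉ J₀ → ∀ g ∈ T, cj g (Vf m) = Vf m)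
    (htT : t ∈ normalizer (T : Set G)) {l : κ} (hl : l ∈ J₀) : ∃ m ∈ J₀, cj t (R l (o l)) = R m (o m) := by
  have hfr := h.toFr
  have kl := h.kt l
  set A : Subgroup G := cj t (K l (o l)) with hA
  set Z : Subgroup G := cj t (R l (o l)) with hZ
  have hcardZ : Nat.card Z = Nat.card (R l (o l)) := card_cj _ _
  have hAT : A ≤ T := by
    rw [hA, ← cj_eq_self_iff.2 htT]
    exact cj_mono (h.KT' l)
  -- (g1)
  have hUt' : ∀ v ∈ U₀, t⁻¹ * v * t ∈ U₀ := fun v hv => by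
    rw [← hUt] at hv
    exact mem_cj.1 hv
  have g1 : ∀ v ∈ U₀, (∀ a ∈ A, a * v * a⁻¹ * v⁻¹ ∈ Z) ∧
      ((∀ a ∈ A, a * v = v * a) ∨ ∀ z ∈ Z, ∃ a ∈ A, a * v * a⁻¹ * v⁻¹ = z) := by
    intro v hv
    set v' := t⁻¹ * v * t with hv'
    have hv'U := hUt' v hv
    obtain ⟨x, hx, hxv⟩ := hfr.dec (hUW hv'U) l
    have hk : ∀ u ∈ K l (o l), u * v' * u⁻¹ * v'⁻¹ = u * x * u⁻¹ * x⁻¹ := by
      intro u hu
      have h1 := mem_centralizer_iff.1 hxv u (K_le_X (K l) (o l) hu)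
      calc u * v' * u⁻¹ * v'⁻¹ = u * x * (u⁻¹ * (u * (x⁻¹ * v')) * u⁻¹) * v'⁻¹ := by group
        _ = u * x * (u⁻¹ * ((x⁻¹ * v') * u) * u⁻¹) * v'⁻¹ := by rw [h1]
        _ = u * x * u⁻¹ * x⁻¹ := by group
    have hconj : ∀ a : G, t⁻¹ * (a * v * a⁻¹ * v⁻¹) * t = (t⁻¹ * a * t) * v' * (t⁻¹ * a * t)⁻¹ * v'⁻¹ := by
      intro a
      rw [hv']; group
    refine ⟨fun a ha => ?_, ?_⟩
    · rw [hZ, mem_cj, hconj, hk _ (mem_cj.1 ha)]
      exact kl.QV (o l) _ (kl.K_Q (o l) (mem_cj.1 ha)) x hx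
    · by_cases hxR : x ∈ R l (o l)
      · left
        intro a ha
        have h1 : t⁻¹ * (a * v * a⁻¹ * v⁻¹) * t = 1 := by
          rw [hconj, hk _ (mem_cj.1 ha), kl.QR (o l) _ (kl.K_Q (o l) (mem_cj.1 ha)) x hxR]
          group
        have h2 : a * v * a⁻¹ * v⁻¹ = 1 := by
          calc a * v * a⁻¹ * v⁻¹ = t * (t⁻¹ * (a * v * a⁻¹ * v⁻¹) * t) * t⁻¹ := by group
            _ = 1 := by rw [h1]; group
        rw [mul_inv_eq_one, mul_inv_eq_iff_eq_mul] at h2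
        exact h2
      · right
        intro z hz
        rw [hZ, mem_cj] at hz
        obtain ⟨u, hu, hur⟩ := kt_full kl hx hxR hz
        refine ⟨t * u * t⁻¹, conj_mem_cj hu, ?_⟩
        have h1 := hconj (t * u * t⁻¹)
        have e : t⁻¹ * (t * u * t⁻¹) * t = u := by group
        rw [e, hk u hu, hur] at h1
        calc t * u * t⁻¹ * v * (t * u * t⁻¹)⁻¹ * v⁻¹
            = t * (t⁻¹ * (t * u * t⁻¹ * v * (t * u * t⁻¹)⁻¹ * v⁻¹) * t) * t⁻¹ := by group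
          _ = z := by rw [h1]; group
  -- (g2)
  have g2 : ∀ a ∈ A, ∀ z ∈ Z, a * z = z * a := by
    intro a ha z hz
    have h1 := kl.QR (o l) _ (kl.K_Q (o l) (mem_cj.1 ha)) _ (mem_cj.1 hz)
    calc a * z = t * ((t⁻¹ * a * t) * (t⁻¹ * z * t)) * t⁻¹ := by group
      _ = t * ((t⁻¹ * z * t) * (t⁻¹ * a * t)) * t⁻¹ := by rw [h1]
      _ = z * a := by group
  -- (g3)
  have g3 : ∀ a ∈ A, ∀ m, cj a (Vf m) = Vf m := by
    intro a ha m
    by_cases hm : m ∈ J₀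
    · obtain ⟨m', hm'⟩ := h.perm a (hAT ha) m
      by_cases hmm : m' = m
      · rw [hm', hmm]
      exfalso
      let f : Vf m → Z := fun v => ⟨a * v * a⁻¹ * (v : G)⁻¹, (g1 v (hJ m hm v.2)).1 a ha⟩
      have hf : Function.Injective f := by
        intro v w hvw
        have h3 : a * (v : G) * a⁻¹ * (v : G)⁻¹ = a * w * a⁻¹ * (w : G)⁻¹ := congrArg Subtype.val hvw
        have h4 : (v : G)⁻¹ * w ∈ Vf m := mul_mem (inv_mem v.2) w.2
        have h5 : (v : G)⁻¹ * w = (a * (v : G)⁻¹ * a⁻¹) * (a * w * a⁻¹) := by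
          have hw : a * (w : G) * a⁻¹ = a * v * a⁻¹ * (v : G)⁻¹ * w := by rw [h3]; group
          rw [hw]; group
        have hca : ∀ x ∈ Vf m, a * x * a⁻¹ ∈ Vf m' := fun x hx => by rw [← hm']; exact conj_mem_cj hx
        have h6 : (v : G)⁻¹ * w ∈ Vf m' := by
          rw [h5]
          exact mul_mem (hca _ (inv_mem v.2)) (hca _ w.2)
        exact Subtype.ext (inv_mul_eq_one.1 (hfr.Vf_inf hmm h6 h4))
      have h8 := Nat.card_le_card_of_injective f hf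
      rw [hcardZ, h.card l m (o l) (o m)] at h8
      have h9 := eq_of_le_of_card_ge ((h.kt m).R_le (o m)) h8
      obtain ⟨v, hv, -, hvR⟩ := hfr.Vf_ne m (o m)
      exact hvR (h9 ▸ hv)
    · exact hn3 m hm a (hAT ha)
  have hlineU : ∀ m, R m (o m) ≤ U₀ := fun m => by
    by_cases hm : m ∈ J₀
    · exact ((h.kt m).R_le (o m)).trans (hJ m hm)
    · exact hn1 m hm
  -- `A` centralises all lines
  have g4 : ∀ m, ∀ a ∈ A, ∀ r ∈ R m (o m), a * r = r * a := by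
    intro m a ha r hr
    rcases (g1 r (hlineU m hr)).2 with h1 | h1
    · exact h1 a ha
    · exfalso
      have hle : Z ≤ R m (o m) := by
        intro z hz
        obtain ⟨a', ha', rfl⟩ := h1 z hz
        have h2 := h.lin a' (hAT ha') m m (g3 a' ha' m)
        have h3 : a' * r * a'⁻¹ ∈ R m (o m) := by
          rw [← h2]; exact conj_mem_cj hr
        exact mul_mem h3 (inv_mem hr)
      have heq : Z = R m (o m) := eq_of_le_of_card_ge hle (by rw [hcardZ, h.card l m (o l) (o m)])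
      obtain ⟨z, hz, hz1⟩ := kl.exists_ne (o l)
      obtain ⟨a', ha', ha''⟩ := h1 (t * z * t⁻¹) (conj_mem_cj hz)
      have h2 := g2 a' ha' r (heq ▸ hr)
      rw [h2] at ha''
      have h3 : t * z * t⁻¹ = 1 := by rw [← ha'']; group
      exact hz1 (by
        calc z = t⁻¹ * (t * z * t⁻¹) * t := by group
          _ = 1 := by rw [h3]; group)
  have hroot : ∀ m, ∀ a ∈ A, ∃ u ∈ K m (o m), u * a ∈ centralizer (Vf m : Set G) := fun m a ha =>
    h.root (hAT ha) (cj_eq_self_iff.1 (g3 a ha m)) (g4 m a ha)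
  -- a factor not centralised by `A`
  obtain ⟨m, hm, v₀, hv₀, a₀, ha₀, hne₀⟩ : ∃ m ∈ J₀, ∃ v ∈ Vf m, ∃ a ∈ A, a * v ≠ v * a := by
    by_contra hcon
    push Not at hcon
    have hcen : ∀ a ∈ A, ∀ z ∈ U₀, a * z = z * a := by
      intro a ha z hz
      refine hfr.cent_of_comp (hUW hz) (fun m x hx hxz => ?_) fun d hd => h.comm_Dh (hAT ha) (fun m => hroot m a ha) hd
      by_cases hm : m ∈ J₀
      · exact hcon m hm x hx a ha
      · exact g4 m a ha x (hn2 m hm z hz x hx hxz)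
    obtain ⟨v, hv, hv1, hvR⟩ := hfr.Vf_ne l (o l)
    obtain ⟨z, hz, hz1⟩ := kl.exists_ne (o l)
    obtain ⟨u, hu, hur⟩ := kt_full kl hv hvR hz
    have hvU : t * v * t⁻¹ ∈ U₀ := by
      rw [← hUt]; exact conj_mem_cj (hJ l hl hv)
    have h1 := hcen _ (conj_mem_cj hu : t * u * t⁻¹ ∈ A) _ hvU
    apply hz1
    rw [← hur]
    have h2 : u * v = v * u := by
      calc u * v = t⁻¹ * ((t * u * t⁻¹) * (t * v * t⁻¹)) * t := by group
        _ = t⁻¹ * ((t * v * t⁻¹) * (t * u * t⁻¹)) * t := by rw [h1]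
        _ = v * u := by group
    rw [h2]; group
  refine ⟨m, hm, ?_⟩
  refine eq_of_le_of_card_ge ?_ (by rw [hcardZ, h.card l m (o l) (o m)])
  rcases (g1 v₀ (hJ m hm hv₀)).2 with h1 | h1
  · exact absurd (h1 a₀ ha₀) hne₀
  · intro z hz
    obtain ⟨a, ha, rfl⟩ := h1 z hz
    obtain ⟨u, hu, hua⟩ := hroot m a ha
    exact h.comm_root_mem hu hua hv₀

end FT

end Cfsg.Agent.Omega.IId.CvBig.Four

end

section


/-!
# CvBig, CASE 2a, all `q`, `k ≥ 3`: the group `⟨V, V^w⟩` (helper796)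

`FA V L R K i Th w` : `Th` Sylow in `N(V) ∩ N(R i)`, `w ∈ N(Th) ∩ N(R i)`, `V^w ≠ V`, `V^w ≤ V C(X)`, `[V^w, C_Th(V)] = 1`.

* `FA.A_NV` : the elements of `AA ∩ N(V)` act on `PP` as elements of `K i`;
* `FA.mover`, `FA.delta_mem`.
-/

set_option autoImplicit false
set_option linter.unusedSectionVars false

namespace Cfsg.Agent.Omega.IId.CvBig.Four

open Subgroup Cfsg.Agent.Omega.BTwo Cfsg.Agent.Omega.IId.Cv.TwoFour

variable {G : Type*} [Group G]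

theorem exists_sylow_mul' [Finite G] {T₁ K K₀ M : Subgroup G} (hTM : T₁ ≤ M) (hKM : K ≤ M)
    (hodd' : ¬ 2 ∣ T₁.relIndex M) (hTK : T₁ ≤ normalizer (K : Set G))
    (hK₀ : K₀ ≤ K) (hn : K ≤ normalizer (K₀ : Set G)) (hodd : ∀ c ∈ K, Odd (orderOf c) → c ∈ K₀) {k : G}
    (hk : k ∈ K) : ∃ t ∈ T₁, t ∈ K ∧ t⁻¹ * k ∈ K₀ := by
  have hfact : Fact (Nat.Prime 2) := ⟨Nat.prime_two⟩
  have h1 : T₁.relIndex K ∣ T₁.relIndex M := by
    rw [relIndex_sup_norm hTK, ← Subgroup.relIndex_mul_relIndex T₁ (K ⊔ T₁) M le_sup_right (sup_le hKM hTM)]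
    exact Dvd.intro _ rfl
  have h2 : ¬ 2 ∣ T₁.relIndex K := fun h => hodd' (h.trans h1)
  have hnorm : (K₀.subgroupOf K).Normal := (normal_subgroupOf_iff_le_normalizer hK₀).2 hn
  have hq : IsPGroup 2 (K ⧸ K₀.subgroupOf K) := by
    intro y
    obtain ⟨⟨c, hc⟩, rfl⟩ := QuotientGroup.mk_surjective y
    obtain ⟨n, m, hm, hnm⟩ := Nat.exists_eq_two_pow_mul_odd (orderOf_pos c).ne'
    refine ⟨n, ?_⟩
    rw [← QuotientGroup.mk_pow, QuotientGroup.eq_one_iff, mem_subgroupOf]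
    change c ^ 2 ^ n ∈ K₀
    refine hodd _ (pow_mem hc _) ?_
    have h3 : orderOf (c ^ 2 ^ n) = m := by
      rw [orderOf_pow' _ (by positivity), hnm, Nat.gcd_mul_right_left, Nat.mul_div_cancel_left _ (by positivity)]
    rw [h3]
    exact hm
  obtain ⟨n, hn'⟩ := IsPGroup.iff_card.mp hq
  have h3 : K₀.relIndex K = 2 ^ n := hn'
  set M : Subgroup G := (T₁ ⊓ K) ⊔ K₀ with hM
  have h4 : M.relIndex K ∣ 2 ^ n := by
    rw [← h3]
    exact relIndex_dvd_of_le_left K le_sup_right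
  have h5 : M.relIndex K ∣ T₁.relIndex K := by
    rw [← inf_relIndex_right T₁ K]
    exact relIndex_dvd_of_le_left K le_sup_left
  have h6 : (2 ^ n).Coprime (T₁.relIndex K) :=
    Nat.Coprime.pow_left n ((Nat.Prime.coprime_iff_not_dvd Nat.prime_two).mpr h2)
  have h7 : K ≤ M := by
    rw [← relIndex_eq_one]
    exact Nat.eq_one_of_dvd_coprimes h6 h4 h5
  obtain ⟨t, ht, h8⟩ := mem_sup_norm (inf_le_right.trans hn : T₁ ⊓ K ≤ normalizer (K₀ : Set G)) (h7 hk)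
  exact ⟨t, ht.1, ht.2, h8⟩

variable {ι : Type*}

structure FA (V L : Subgroup G) (R K : ι → Subgroup G) (i : ι) (Th : Subgroup G) (w : G) : Prop where
  bt : KT V L R K
  Th2 : IsPGroup 2 Th
  ThV : Th ≤ normalizer (V : Set G)
  ThL : Th ≤ L
  ThR : Th ≤ normalizer (R i : Set G)
  syl : ¬ 2 ∣ Th.relIndex (normalizer (V : Set G) ⊓ normalizer (R i : Set G))
  KTh : K i ≤ Th
  wT : w ∈ normalizer (Th : Set G)
  wR : w ∈ normalizer (R i : Set G)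
  ww : w * w ∈ Th
  wV : cj w V ≠ V
  VV' : ∀ v ∈ V, ∀ v' ∈ cj w V, v * v' = v' * v
  split : ∀ v ∈ cj w V, ∃ a ∈ V, a⁻¹ * v ∈ centralizer (XK K : Set G)
  cT : ∀ s ∈ Th, s ∈ centralizer (V : Set G) → s ∈ centralizer (cj w V : Set G)

/-- `C_F(X)` -/
def F0 (V : Subgroup G) (K : ι → Subgroup G) (w : G) : Subgroup G := PP V w ⊓ centralizer (XK K : Set G)

theorem F0_le (V : Subgroup G) (K : ι → Subgroup G) (w : G) : F0 V K w ≤ PP V w := inf_le_left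

theorem comm_mul {g v f : G} (hf : g * f = f * g) : g * (v * f) * g⁻¹ * (v * f)⁻¹ = g * v * g⁻¹ * v⁻¹ := by
  have e : f * g⁻¹ = g⁻¹ * f := by
    calc f * g⁻¹ = g⁻¹ * (g * f) * g⁻¹ := by group
      _ = g⁻¹ * f := by rw [hf]; group
  calc g * (v * f) * g⁻¹ * (v * f)⁻¹ = g * v * (f * g⁻¹) * f⁻¹ * v⁻¹ := by group
    _ = g * v * g⁻¹ * v⁻¹ := by rw [e]; group

theorem conj_mul_cen {g v f : G} (hf : g * f = f * g) : g * (v * f) * g⁻¹ = g * v * g⁻¹ * f := by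
  calc g * (v * f) * g⁻¹ = g * v * g⁻¹ * (g * f) * g⁻¹ := by group
    _ = g * v * g⁻¹ * f := by rw [hf]; group

namespace FA

variable {V L : Subgroup G} {R K : ι → Subgroup G} {i : ι} {Th : Subgroup G} {w : G} (h : FA V L R K i Th w)
include h

theorem cj_V' : cj w (cj w V) = V := by
  rw [← cj_mul]
  exact cj_eq_self_iff.2 (h.ThV h.ww)

theorem V'_comm : ∀ a ∈ cj w V, ∀ c ∈ cj w V, a * c = c * a := by
  intro a ha c hc
  have h1 := h.bt.V_comm _ (mem_cj.1 ha) _ (mem_cj.1 hc)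
  calc a * c = w * ((w⁻¹ * a * w) * (w⁻¹ * c * w)) * w⁻¹ := by group
    _ = c * a := by rw [h1]; group

theorem V'_sq : ∀ a ∈ cj w V, a * a = 1 := by
  intro a ha
  have h1 := h.bt.V_sq _ (mem_cj.1 ha)
  calc a * a = w * ((w⁻¹ * a * w) * (w⁻¹ * a * w)) * w⁻¹ := by group
    _ = 1 := by rw [h1]; group

theorem mem_P {y : G} : y ∈ PP V w ↔ ∃ v ∈ V, ∃ v' ∈ cj w V, v * v' = y := by
  constructor
  · intro hy
    have h1 : V ≤ normalizer (cj w V : Set G) := fun v hv =>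
      centralizer_le_normalizer _ (mem_centralizer_iff.2 fun v' hv' => (h.VV' v hv v' hv').symm)
    obtain ⟨a, ha, hc⟩ := mem_sup_norm h1 hy
    exact ⟨a, ha, _, hc, by group⟩
  · rintro ⟨v, hv, v', hv', rfl⟩
    exact mul_mem (V_le_P V w hv) (V'_le_P V w hv')

theorem P_comm : ∀ a ∈ PP V w, ∀ c ∈ PP V w, a * c = c * a := by
  intro a ha c hc
  obtain ⟨v, hv, v', hv', rfl⟩ := h.mem_P.1 ha
  obtain ⟨u, hu, u', hu', rfl⟩ := h.mem_P.1 hc
  have c1 : Commute v u := h.bt.V_comm v hv u hu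
  have c2 : Commute v u' := h.VV' v hv u' hu'
  have c3 : Commute v' u := (h.VV' u hu v' hv').symm
  have c4 : Commute v' u' := h.V'_comm v' hv' u' hu'
  exact ((c1.mul_right c2).mul_left (c3.mul_right c4)).eq

theorem P_sq : ∀ a ∈ PP V w, a * a = 1 := by
  intro a ha
  obtain ⟨v, hv, v', hv', rfl⟩ := h.mem_P.1 ha
  have c2 := h.VV' v hv v' hv'
  calc v * v' * (v * v') = v * (v' * v) * v' := by group
    _ = (v * v) * (v' * v') := by rw [← c2]; group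
    _ = 1 := by rw [h.bt.V_sq v hv, h.V'_sq v' hv', one_mul]

theorem P_two : IsPGroup 2 (PP V w) := by
  rintro ⟨a, ha⟩
  refine ⟨1, Subtype.ext ?_⟩
  change a ^ 2 ^ 1 = 1
  rw [pow_one, pow_two]
  exact h.P_sq a ha

theorem R_le_P : R i ≤ PP V w := (h.bt.R_le i).trans (V_le_P V w)

theorem R_le_C : R i ≤ CP V (K i) w := le_inf h.R_le_P (h.bt.R_cen_K i)

theorem TV' : Th ≤ normalizer (cj w V : Set G) := by
  rw [normalizer_cj, ← cj_eq_self_iff.2 h.wT]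
  exact cj_mono h.ThV

theorem wP : w ∈ normalizer (PP V w : Set G) := by
  rw [← cj_eq_self_iff, PP, cj_sup, h.cj_V', sup_comm]

theorem T_P : Th ≤ normalizer (PP V w : Set G) := by
  intro t ht
  rw [← cj_eq_self_iff, PP, cj_sup, cj_eq_self_iff.2 (h.ThV ht), cj_eq_self_iff.2 (h.TV' ht)]

theorem XV' {g v : G} (hg : g ∈ XK K) (hv : v ∈ cj w V) : g * v * g⁻¹ * v⁻¹ ∈ V := by
  obtain ⟨a, ha, hc⟩ := h.split v hv
  have h1 := mem_centralizer_iff.1 hc g hg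
  have e : g * v * g⁻¹ * v⁻¹ = g * a * g⁻¹ * a⁻¹ := by
    calc g * v * g⁻¹ * v⁻¹ = g * a * g⁻¹ * (g * (a⁻¹ * v) * g⁻¹) * v⁻¹ := by group
      _ = g * a * g⁻¹ * a⁻¹ := by rw [h1]; group
  rw [e]
  exact mul_mem (conj_mem_of_normalizer (h.bt.X_le_NV hg) ha) (inv_mem ha)

theorem bP {g : G} (hg : g ∈ XK K) : g ∈ normalizer (PP V w : Set G) := by
  have key : ∀ g ∈ XK K, ∀ y ∈ PP V w, g * y * g⁻¹ ∈ PP V w := by
    intro g hg y hy
    obtain ⟨v, hv, v', hv', rfl⟩ := h.mem_P.1 hy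
    have e : g * (v * v') * g⁻¹ = (g * v * g⁻¹) * ((g * v' * g⁻¹ * v'⁻¹) * v') := by group
    rw [e]
    exact mul_mem (V_le_P V w (conj_mem_of_normalizer (h.bt.X_le_NV hg) hv))
      (mul_mem (V_le_P V w (h.XV' hg hv')) (V'_le_P V w hv'))
  exact le_normalizer_of key hg

theorem dec {y : G} (hy : y ∈ PP V w) : ∃ v ∈ V, ∃ f ∈ F0 V K w, y = v * f := by
  obtain ⟨v, hv, v', hv', rfl⟩ := h.mem_P.1 hy
  obtain ⟨a, ha, hf⟩ := h.split _ hv'
  exact ⟨v * a, mul_mem hv ha, a⁻¹ * v', mem_inf.2 ⟨mul_mem (inv_mem (V_le_P V w ha)) (V'_le_P V w hv'), hf⟩, by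
    group⟩

theorem V_F0 {v : G} (hv : v ∈ V) (hf : v ∈ F0 V K w) : v = 1 := h.bt.cen_VX hv (mem_inf.1 hf).2

theorem F0_le_C : F0 V K w ≤ CP V (K i) w := fun _ hf =>
  mem_inf.2 ⟨(mem_inf.1 hf).1, cen_XK_le K i (mem_inf.1 hf).2⟩

theorem dec_C {y : G} (hy : y ∈ CP V (K i) w) : ∃ r ∈ R i, ∃ f ∈ F0 V K w, y = r * f := by
  obtain ⟨v, hv, f, hf, rfl⟩ := h.dec (CP_le _ _ _ hy)
  refine ⟨v, kt_R_of_cen h.bt hv ?_, f, hf, rfl⟩
  have e : v = v * f * f⁻¹ := by group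
  rw [e]
  exact mul_mem (mem_inf.1 hy).2 (inv_mem (cen_XK_le K i (mem_inf.1 hf).2))

theorem norm_C {g : G} (hg : g ∈ normalizer (PP V w : Set G)) (hgR : g ∈ normalizer (R i : Set G)) :
    g ∈ normalizer (CP V (K i) w : Set G) := by
  rw [← cj_eq_self_iff, CP, cj_inf, cj_eq_self_iff.2 hg, ← centralizer_cj,
    cj_eq_self_iff.2 (h.bt.N_K i hgR)]

theorem mem_C {e y : G} (he : e ∈ K i) (hn : e ∉ centralizer (V : Set G)) (hy : y ∈ PP V w)
    (hc : e * y = y * e) : y ∈ CP V (K i) w := by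
  have b := h.bt
  obtain ⟨v, hv, f, hf, rfl⟩ := h.dec hy
  have hfW : f ∈ centralizer (K i : Set G) := cen_XK_le K i (mem_inf.1 hf).2
  refine mem_inf.2 ⟨hy, mul_mem (b.R_cen_K i ?_) hfW⟩
  by_contra hR
  apply hn
  have h1 : e * v = v * e := by
    have h2 := mem_centralizer_iff.1 hfW e he
    calc e * v = e * (v * f) * f⁻¹ := by group
      _ = v * (f * e) * f⁻¹ := by rw [hc]; group
      _ = v * (e * f) * f⁻¹ := by rw [h2]
      _ = v * e := by group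
  rw [mem_centralizer_iff]
  exact fun a ha => (b.reg (b.K_Q i he) hv hR h1 a ha).symm

/-! ### The stability group -/

theorem norm_A {g y : G} (hg : g ∈ normalizer (PP V w : Set G)) (hgR : g ∈ normalizer (R i : Set G))
    (hy : y ∈ AA V (R i) (K i) w) : g * y * g⁻¹ ∈ AA V (R i) (K i) w := by
  have h1 := h.norm_C hg hgR
  exact mem_inf.2 ⟨mem_inf.2 ⟨conj_cenMod h1 hg hy.1.1, conj_cenMod hgR h1 hy.1.2⟩,
    conj_mem_of_normalizer (normalizer_le_normalizer_centralizer _ hgR) hy.2⟩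

omit h in
theorem A_P : AA V (R i) (K i) w ≤ normalizer (PP V w : Set G) :=
  (inf_le_left.trans inf_le_left).trans (cenMod_normalizes (CP_le _ _ _))

omit h in
theorem A_R : AA V (R i) (K i) w ≤ normalizer (R i : Set G) := fun _ hg => hg.1.2.1

theorem cen_le_A : centralizer (PP V w : Set G) ≤ AA V (R i) (K i) w := by
  intro c hc
  have h1 : centralizer (PP V w : Set G) ≤ centralizer (CP V (K i) w : Set G) := centralizer_le (CP_le _ _ _)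
  have h2 : centralizer (PP V w : Set G) ≤ centralizer (R i : Set G) := centralizer_le h.R_le_P
  have key : ∀ y ∈ PP V w, c * y * c⁻¹ * y⁻¹ = 1 := by
    intro y hy
    rw [← mem_centralizer_iff.1 hc y hy]
    group
  refine mem_inf.2 ⟨mem_inf.2 ⟨⟨centralizer_le_normalizer _ (h1 hc), fun y hy => ?_⟩,
    ⟨centralizer_le_normalizer _ (h2 hc), fun y hy => ?_⟩⟩, h2 hc⟩
  · rw [key y hy]; exact one_mem _
  · rw [key y (CP_le _ _ _ hy)]; exact one_mem _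

theorem A_odd {c : G} (hc : c ∈ AA V (R i) (K i) w) (ho : Odd (orderOf c)) : c ∈ centralizer (PP V w : Set G) := by
  have hR : ∀ r ∈ R i, c * r = r * c := fun r hr => (mem_centralizer_iff.1 hc.2 r hr).symm
  have hC : ∀ y ∈ CP V (K i) w, c * y = y * c := by
    intro y hy
    have h1 := hc.1.2.2 y hy
    exact comm_of_odd ho (h.P_two.to_le h.R_le_P) h1 (hR _ h1)
  rw [mem_centralizer_iff]
  intro y hy
  have h1 := hc.1.1.2 y hy
  exact (comm_of_odd ho (h.P_two.to_le (CP_le _ _ _)) h1 (hC _ h1)).symm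

/-- **(a)** -/
theorem A_NV [Finite G] {δ : G} (hδ : δ ∈ AA V (R i) (K i) w) (hV : δ ∈ normalizer (V : Set G)) :
    ∃ u ∈ K i, u * δ ∈ centralizer (PP V w : Set G) := by
  obtain ⟨t, ht, htA, hc⟩ := exists_sylow_mul' (T₁ := Th) (K := AA V (R i) (K i) w ⊓ normalizer (V : Set G))
    (K₀ := centralizer (PP V w : Set G)) (le_inf h.ThV h.ThR) (le_inf inf_le_right (inf_le_left.trans A_R)) h.syl
    (le_normalizer_of fun t ht y hy => mem_inf.2 ⟨h.norm_A (h.T_P ht) (h.ThR ht) hy.1,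
      mul_mem (mul_mem (h.ThV ht) hy.2) (inv_mem (h.ThV ht))⟩)
    (le_inf h.cen_le_A ((centralizer_le (V_le_P V w)).trans (centralizer_le_normalizer _)))
    (inf_le_left.trans (A_P.trans (normalizer_le_normalizer_centralizer _)))
    (fun c hc ho => h.A_odd hc.1 ho) (mem_inf.2 ⟨hδ, hV⟩)
  obtain ⟨u, hu, hut⟩ := lemA h.bt (h.ThL ht) (h.Th2.to_le (by rw [zpowers_le]; exact ht)) fun r hr =>
    (mem_centralizer_iff.1 htA.1.2 r hr).symm
  have h1 := h.cT _ (mul_mem (h.KTh hu) ht) hut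
  have h2 : u * t ∈ centralizer (PP V w : Set G) := by
    rw [mem_centralizer_iff]
    intro y hy
    obtain ⟨v, hv, v', hv', rfl⟩ := h.mem_P.1 hy
    have c1 : Commute v (u * t) := mem_centralizer_iff.1 hut v hv
    have c2 : Commute v' (u * t) := mem_centralizer_iff.1 h1 v' hv'
    exact (c1.mul_left c2).eq
  refine ⟨u, hu, ?_⟩
  have e : u * δ = (u * t) * (t⁻¹ * δ) := by group
  rw [e]
  exact mul_mem h2 hc

/-! ### The movers -/

theorem mover {e e' b : G} (he : e ∈ K i) (he' : e' ∈ K i) (hb : b ∈ XK K)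
    (hR : b ∈ normalizer (R i : Set G))
    (c1 : ∀ v ∈ V, e' * (b * v * b⁻¹) * e'⁻¹ * (b * v * b⁻¹)⁻¹ = e * v * e⁻¹ * v⁻¹)
    (c2 : ∀ v ∈ V, b * (e * v * e⁻¹ * v⁻¹) * b⁻¹ = e' * v * e'⁻¹ * v⁻¹) :
    Mv (PP V w) (CP V (K i) w) (R i) V e e' b where
  bN := h.bP hb
  bR := hR
  c1 := by
    intro y hy
    obtain ⟨v, hv, f, hf', rfl⟩ := h.dec hy
    have hf := (mem_inf.1 hf').2
    have h1 := mem_centralizer_iff.1 hf b hb
    have h2 := mem_centralizer_iff.1 hf e (K_le_X K i he)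
    have h3 := mem_centralizer_iff.1 hf e' (K_le_X K i he')
    rw [conj_mul_cen h1, comm_mul h3, comm_mul h2]
    exact c1 v hv
  c2 := by
    intro y hy
    obtain ⟨v, hv, f, hf', rfl⟩ := h.dec hy
    have hf := (mem_inf.1 hf').2
    have h2 := mem_centralizer_iff.1 hf e (K_le_X K i he)
    have h3 := mem_centralizer_iff.1 hf e' (K_le_X K i he')
    rw [comm_mul h3, comm_mul h2]
    exact c2 v hv
  bC := by
    intro y hy
    obtain ⟨r, hr, f, hf', rfl⟩ := h.dec_C hy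
    have hf := (mem_inf.1 hf').2
    rw [comm_mul (mem_centralizer_iff.1 hf b hb)]
    exact mul_mem (conj_mem_of_normalizer hR hr) (inv_mem hr)
  bU := by
    intro y hy
    obtain ⟨v, hv, f, hf', rfl⟩ := h.dec hy
    have hf := (mem_inf.1 hf').2
    rw [comm_mul (mem_centralizer_iff.1 hf b hb)]
    exact mul_mem (conj_mem_of_normalizer (h.bt.X_le_NV hb) hv) (inv_mem hv)

/-- `b⁻¹ b'` is in the stability group -/
theorem delta_mem [Finite G] {U U' : Subgroup G} {e e' b b' : G} (he : e ∈ K i)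
    (hn : e ∉ centralizer (V : Set G)) (m : Mv (PP V w) (CP V (K i) w) (R i) U e e' b)
    (m' : Mv (PP V w) (CP V (K i) w) (R i) U' e e' b') : b⁻¹ * b' ∈ AA V (R i) (K i) w := by
  have bt := h.bt
  have heT : e ∈ Th := h.KTh he
  have hN : b⁻¹ * b' ∈ normalizer (PP V w : Set G) := mul_mem (inv_mem m.bN) m'.bN
  have hR : b⁻¹ * b' ∈ normalizer (R i : Set G) := mul_mem (inv_mem m.bR) m'.bR
  have hC := h.norm_C hN hR
  refine mem_inf.2 ⟨mem_inf.2 ⟨⟨hC, fun y hy => ?_⟩, ⟨hR, fun y hy => ?_⟩⟩, ?_⟩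
  · set z := b' * y * b'⁻¹ with hz
    have hzP : z ∈ PP V w := conj_mem_of_normalizer m'.bN hy
    set y' := b⁻¹ * z * b with hy'
    have hy'P : y' ∈ PP V w := conj_inv_mem_of_normalizer m.bN hzP
    have e1 := m.c1 y' hy'P
    have e2 := m'.c1 y hy
    have e3 : b * y' * b⁻¹ = z := by rw [hy']; group
    rw [e3] at e1
    rw [← hz, e1] at e2
    have e4 : b⁻¹ * b' * y * (b⁻¹ * b')⁻¹ * y⁻¹ = y' * y⁻¹ := by rw [hy', hz]; group
    rw [e4]
    have hyy : y' * y⁻¹ ∈ PP V w := mul_mem hy'P (inv_mem hy)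
    refine h.mem_C he hn hyy ?_
    set s := e * y * e⁻¹ * y⁻¹ with hs
    have hsP : s ∈ PP V w := mul_mem (conj_mem_of_normalizer (h.T_P heT) hy) (inv_mem hy)
    have h1 := h.P_comm s hsP _ hyy
    calc e * (y' * y⁻¹) = (e * y' * e⁻¹ * y'⁻¹) * (y' * y⁻¹) * s⁻¹ * e := by rw [hs]; group
      _ = (s * (y' * y⁻¹)) * s⁻¹ * e := by rw [e2]
      _ = y' * y⁻¹ * e := by rw [h1]; group
  · have h1 := m'.bC y hy
    have hy1 : b⁻¹ * y * b ∈ CP V (K i) w := conj_inv_mem_of_normalizer (h.norm_C m.bN m.bR) hy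
    have h2 := m.bC _ hy1
    have h3 := conj_inv_mem_of_normalizer m.bR h1
    have e4 : b⁻¹ * b' * y * (b⁻¹ * b')⁻¹ * y⁻¹ =
        (b⁻¹ * (b' * y * b'⁻¹ * y⁻¹) * b) * (b * (b⁻¹ * y * b) * b⁻¹ * (b⁻¹ * y * b)⁻¹)⁻¹ := by group
    rw [e4]
    exact mul_mem h3 (inv_mem h2)
  · rw [mem_centralizer_iff]
    intro r hr
    obtain ⟨j, hj, -⟩ := bt.third i i
    have hn' : ¬ ∀ a ∈ V, e * a = a * e := fun hc => hn (by
      rw [mem_centralizer_iff]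
      exact fun a ha => (hc a ha).symm)
    obtain ⟨v, hv, rfl⟩ := bt.full (bt.K_Q i he) hn' hj r hr
    have hvP := V_le_P V w (bt.R_le j hv)
    have h1 := m.c2 v hvP
    have h2 := m'.c2 v hvP
    set r := e * v * e⁻¹ * v⁻¹ with hr'
    have h3 : b * r * b⁻¹ = b' * r * b'⁻¹ := h1.trans h2.symm
    calc r * (b⁻¹ * b') = b⁻¹ * (b * r * b⁻¹) * b' := by group
      _ = b⁻¹ * b' * r := by rw [h3]; group

/-- a mover is fixed point free on `V / R i` -/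
theorem fpf {e e' b : G} (he : e ∈ K i) (he' : e' ∈ K i)
    (hee : e⁻¹ * e' ∉ centralizer (V : Set G))
    (c1 : ∀ v ∈ V, e' * (b * v * b⁻¹) * e'⁻¹ * (b * v * b⁻¹)⁻¹ = e * v * e⁻¹ * v⁻¹) :
    ∀ v ∈ V, b * v * b⁻¹ * v⁻¹ ∈ R i → v ∈ R i := by
  have bt := h.bt
  intro v hv hr
  by_contra hvR
  set r := b * v * b⁻¹ * v⁻¹ with hr'
  have h1 := c1 v hv
  have e1 : b * v * b⁻¹ = r * v := by rw [hr']; group
  have h2 := bt.conj_R (bt.K_Q i he') hr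
  have h3 : e' * v * e'⁻¹ * v⁻¹ ∈ V := bt.R_le i (bt.QV i _ (bt.K_Q i he') v hv)
  have h4 := bt.V_comm _ (bt.R_le i hr) _ h3
  have h5 : e' * v * e'⁻¹ * v⁻¹ = e * v * e⁻¹ * v⁻¹ := by
    rw [← h1, e1]
    calc e' * v * e'⁻¹ * v⁻¹ = (r * (e' * v * e'⁻¹ * v⁻¹)) * r⁻¹ := by rw [h4]; group
      _ = ((e' * r * e'⁻¹) * (e' * v * e'⁻¹ * v⁻¹)) * r⁻¹ := by rw [h2]
      _ = e' * (r * v) * e'⁻¹ * (r * v)⁻¹ := by group
  have h6 : e⁻¹ * e' * v = v * (e⁻¹ * e') := by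
    have h7 : e' * v * e'⁻¹ = e * v * e⁻¹ := mul_right_cancel h5
    calc e⁻¹ * e' * v = e⁻¹ * (e' * v * e'⁻¹) * e' := by group
      _ = v * (e⁻¹ * e') := by rw [h7]; group
  apply hee
  rw [mem_centralizer_iff]
  exact fun a ha => (bt.reg (bt.K_Q i (mul_mem (inv_mem he) he')) hv hvR h6 a ha).symm

/-- **`δ ∈ AA` with `C_F(X) ≤ V [δ, V]`** -/
theorem exists_delta [Finite G] (hFQ : FQ V R K i)
    (h4 : ∃ e ∈ K i, e ∉ centralizer (V : Set G) ∧ ∃ e' ∈ K i, e' ∉ centralizer (V : Set G) ∧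
      e⁻¹ * e' ∉ centralizer (V : Set G)) :
    ∃ δ ∈ AA V (R i) (K i) w, ∀ f ∈ F0 V K w, ∃ u ∈ V, ∃ v ∈ V, f = v * (δ * u * δ⁻¹) := by
  obtain ⟨e, he, hn, e', he', hn', hee⟩ := h4
  obtain ⟨b, hb, hbR, c1, c2⟩ := hFQ e he hn e' he' hn'
  have m := h.mover he he' hb hbR c1 c2
  have hwR := h.wR
  have key : ∀ a ∈ K i, a ∉ centralizer (V : Set G) →
      w⁻¹ * a * w ∈ K i ∧ w⁻¹ * a * w ∉ centralizer (V : Set G) := by
    intro a ha han
    refine ⟨conj_inv_mem_of_normalizer (h.bt.N_K i hwR) ha, fun hc => han ?_⟩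
    have h1 := h.cT _ (conj_inv_mem_of_normalizer h.wT (h.KTh ha)) hc
    have h2 : a ∈ cj w (centralizer (cj w V : Set G)) := by
      rw [mem_cj]; exact h1
    rwa [← centralizer_cj, h.cj_V'] at h2
  have hee1 : (w⁻¹ * e * w)⁻¹ * (w⁻¹ * e' * w) ∉ centralizer (V : Set G) := by
    have h1 := (key _ (mul_mem (inv_mem he) he') hee).2
    have e1 : (w⁻¹ * e * w)⁻¹ * (w⁻¹ * e' * w) = w⁻¹ * (e⁻¹ * e') * w := by group
    rw [e1]
    exact h1
  obtain ⟨k1, k2⟩ := key e he hn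
  obtain ⟨k3, k4⟩ := key e' he' hn'
  obtain ⟨b₀, hb₀, hbR₀, d1, d2⟩ := hFQ _ k1 k2 _ k3 k4
  have m' := (h.mover k1 k3 hb₀ hbR₀ d1 d2).conj h.wP (h.norm_C h.wP hwR) hwR
  have hsurj := Hyp.surj_of_fpf h.bt (h.bt.X_le_NV hb₀) (h.fpf k1 k3 hee1 d1)
  set b' := w * b₀ * w⁻¹ with hb'
  refine ⟨b⁻¹ * b', h.delta_mem he hn m m', fun f hf => ?_⟩
  have hA := h.delta_mem he hn m m'
  set δ := b⁻¹ * b' with hδ
  -- `f = v v'`
  obtain ⟨v, hv, v', hv', rfl⟩ := h.mem_P.1 (F0_le V K w hf)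
  obtain ⟨u₀, hu₀, r, hr, hvr⟩ := hsurj _ (mem_cj.1 hv')
  -- `v' = (w r w⁻¹) [b', w u₀ w⁻¹]`
  set u := w * u₀ * w⁻¹ with hu
  have huP : u ∈ PP V w := V'_le_P V w (conj_mem_cj hu₀)
  have hrw : w * r * w⁻¹ ∈ R i := conj_mem_of_normalizer hwR hr
  have e1 : v' = (w * r * w⁻¹) * (b' * u * b'⁻¹ * u⁻¹) := by
    calc v' = w * (w⁻¹ * v' * w) * w⁻¹ := by group
      _ = _ := by rw [hvr, hu, hb']; group
  -- `u = x g`, `[b', u] = (V) * (δ x δ⁻¹) ...`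
  obtain ⟨x, hx, g, hg, hxg⟩ := h.dec huP
  have hδg : δ * g * δ⁻¹ * g⁻¹ ∈ R i := hA.1.2.2 g (h.F0_le_C hg)
  have hδx : δ * x * δ⁻¹ * x⁻¹ ∈ CP V (K i) w := hA.1.1.2 x (V_le_P V w hx)
  obtain ⟨ρ, hρ, D, hD, hρD⟩ := h.dec_C hδx
  have hbD := mem_centralizer_iff.1 (mem_inf.1 hD).2 b hb
  have hbg := mem_centralizer_iff.1 (mem_inf.1 hg).2 b hb
  have hbV := h.bt.X_le_NV hb
  refine ⟨x, hx, ?_⟩
  -- everything in the abelian group `PP`
  have hσ : δ * g * δ⁻¹ = (δ * g * δ⁻¹ * g⁻¹) * g := by group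
  set σ := δ * g * δ⁻¹ * g⁻¹ with hσ'
  have hδx' : δ * x * δ⁻¹ = ρ * D * x := by
    rw [← hρD]; group
  have hb'u : b' * u * b'⁻¹ = (b * (ρ * x * σ) * b⁻¹) * (D * g) := by
    have c1 : Commute D x := h.P_comm D (F0_le V K w hD) x (V_le_P V w hx)
    have c2 : Commute D σ := h.P_comm D (F0_le V K w hD) σ (h.R_le_P hδg)
    have e2 : b' = b * δ := by rw [hδ]; group
    calc b' * u * b'⁻¹ = b * ((δ * x * δ⁻¹) * (δ * g * δ⁻¹)) * b⁻¹ := by rw [e2, hxg]; group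
      _ = b * (ρ * (D * (x * σ)) * g) * b⁻¹ := by rw [hδx', hσ]; group
      _ = b * (ρ * ((x * σ) * D) * g) * b⁻¹ := by rw [(c1.mul_right c2).eq]
      _ = (b * (ρ * x * σ) * b⁻¹) * (b * (D * g) * b⁻¹) := by group
      _ = _ := by
        have e3 : b * (D * g) * b⁻¹ = D * g := by
          calc b * (D * g) * b⁻¹ = (b * D) * g * b⁻¹ := by group
            _ = D * (b * g) * b⁻¹ := by rw [hbD]; group
            _ = D * g := by rw [hbg]; group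
        rw [e3]
  have hVm : b * (ρ * x * σ) * b⁻¹ ∈ V :=
    conj_mem_of_normalizer hbV (mul_mem (mul_mem (h.bt.R_le i hρ) hx) (h.bt.R_le i hδg))
  -- `D = ρ⁻¹ (δ x δ⁻¹) x⁻¹`
  have hxP := V_le_P V w hx
  have hδxP : δ * x * δ⁻¹ ∈ PP V w := conj_mem_of_normalizer (A_P hA) hxP
  refine ⟨v * (w * r * w⁻¹) * (b * (ρ * x * σ) * b⁻¹) * x⁻¹ * ρ⁻¹ * x⁻¹, ?_, ?_⟩
  · exact mul_mem (mul_mem (mul_mem (mul_mem (mul_mem hv (h.bt.R_le i hrw)) hVm) (inv_mem hx))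
      (inv_mem (h.bt.R_le i hρ))) (inv_mem hx)
  · rw [e1, hb'u, hxg, hδx']
    set A := b * (ρ * x * σ) * b⁻¹ with hAdef
    have c1 : Commute D x := h.P_comm D (F0_le V K w hD) x hxP
    have c2 : Commute g x := h.P_comm g (F0_le V K w hg) x hxP
    have c3 : Commute D ρ := h.P_comm D (F0_le V K w hD) ρ (h.R_le_P hρ)
    calc v * (w * r * w⁻¹ * (A * (D * g) * (x * g)⁻¹))
        = v * (w * r * w⁻¹) * A * (D * x⁻¹) := by
          have e4 : (D * g) * (x * g)⁻¹ = D * x⁻¹ := by group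
          calc v * (w * r * w⁻¹ * (A * (D * g) * (x * g)⁻¹))
              = v * (w * r * w⁻¹) * A * ((D * g) * (x * g)⁻¹) := by group
            _ = _ := by rw [e4]
      _ = v * (w * r * w⁻¹) * A * (x⁻¹ * D) := by rw [c1.inv_right.eq]
      _ = v * (w * r * w⁻¹) * A * x⁻¹ * ρ⁻¹ * x⁻¹ * (x * (ρ * D)) := by group
      _ = v * (w * r * w⁻¹) * A * x⁻¹ * ρ⁻¹ * x⁻¹ * (ρ * D * x) := by
          have c4 : Commute x (ρ * D) := h.P_comm x hxP _ (mul_mem (h.R_le_P hρ) (F0_le V K w hD))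
          rw [c4.eq]

end FA

end Cfsg.Agent.Omega.IId.CvBig.Four

end

section


/-!
# CvBig, CASE 2a, all `q`, `k ≥ 3`: the kill of (SURV), end (helper796)

* `FT.kill` : (SURV) is impossible.
-/

set_option autoImplicit false
set_option linter.unusedSectionVars false

namespace Cfsg.Agent.Omega.IId.CvBig.Four

open Subgroup Cfsg.Agent.Omega.BTwo Cfsg.Agent.Omega.IId.Cv.TwoFour
open Cfsg.Agent.Omega.F4Leaf.Syl.LocP (exists_step)

variable {G : Type*} [Group G] {κ : Type*} {ι : κ → Type*}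

/-- `Q^t` moves `Vf j` -/
def Jt (Vf : κ → Subgroup G) (Q : Subgroup G) (t : G) (j : κ) : Prop :=
  ¬ cj t Q ≤ centralizer (Vf j : Set G)

namespace FT

variable {Vf Lf : κ → Subgroup G} {R K : ∀ l, ι l → Subgroup G} {Q : Subgroup G} {o : ∀ l, ι l} {T : Subgroup G}
  {i : κ} (h : FT Vf Lf R K Q o T i) {Rc Kc : Subgroup G} (s : Sv R K Q o T i Rc Kc)

theorem Vf_T (h : FT Vf Lf R K Q o T i) (l : κ) : Vf l ≤ T := (h.toFr.V_le_Q l).trans h.QT

include s in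
theorem comm_Kc {g u : G} (hg : g ∈ Kc) (hu : u ∈ T) : g * u * g⁻¹ * u⁻¹ ∈ Kc := by
  have e : g * u * g⁻¹ * u⁻¹ = g * (u * g⁻¹ * u⁻¹) := by group
  rw [e]
  exact mul_mem hg (conj_mem_of_normalizer (s.TKc hu) (inv_mem hg))

include h s

/-- **(i)** -/
theorem kfix {g : G} (hgK : g ∈ Kc) (hgT : g ∈ T) (l : κ) : cj g (Vf l) = Vf l := by
  have hfr := h.toFr
  obtain ⟨m, hm⟩ := h.perm g hgT l
  by_cases hml : m = l
  · rw [hm, hml]
  exfalso
  have hli : l ≠ i := by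
    rintro rfl
    exact hml (hfr.Vf_inj ((h.cj_i hgT).symm.trans hm)).symm
  have hmi : m ≠ i := by
    rintro rfl
    exact hml (hfr.Vf_inj (cj_injective (hm.trans (h.cj_i hgT).symm))).symm
  obtain ⟨u, hu, -, huR⟩ := hfr.Vf_ne l (o l)
  have hp : g * u * g⁻¹ ∈ Vf m := by rw [← hm]; exact conj_mem_cj hu
  have hK : R l (o l) ≤ Kc := by
    intro r hr
    obtain ⟨k, hk, hkr⟩ := kt_full (h.kt l) (inv_mem hu) (fun h1 => huR (by simpa using inv_mem h1)) hr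
    have h1 := comm_Kc s hgK (h.Vf_T l hu)
    have h2 : k * (g * u * g⁻¹ * u⁻¹) * k⁻¹ * (g * u * g⁻¹ * u⁻¹)⁻¹ ∈ Kc :=
      mul_mem (conj_mem_of_normalizer (s.TKc (h.KT' l hk)) h1) (inv_mem h1)
    have h3 : k * (g * u * g⁻¹) = g * u * g⁻¹ * k := hfr.K_comm hml hk hp
    have h4 : k * u⁻¹ * k⁻¹ ∈ Vf l := conj_mem_of_normalizer ((h.kt l).K_le_NV (o l) hk) (inv_mem hu)
    have h5 : (g * u * g⁻¹) * (k * u⁻¹ * k⁻¹ * u) = (k * u⁻¹ * k⁻¹ * u) * (g * u * g⁻¹) :=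
      (hfr.comm' (mul_mem h4 hu) hp).symm
    have e : k * (g * u * g⁻¹ * u⁻¹) * k⁻¹ * (g * u * g⁻¹ * u⁻¹)⁻¹ = k * u⁻¹ * k⁻¹ * (u⁻¹)⁻¹ := by
      calc k * (g * u * g⁻¹ * u⁻¹) * k⁻¹ * (g * u * g⁻¹ * u⁻¹)⁻¹
          = (k * (g * u * g⁻¹)) * u⁻¹ * k⁻¹ * u * (g * u * g⁻¹)⁻¹ := by group
        _ = (g * u * g⁻¹) * (k * u⁻¹ * k⁻¹ * u) * (g * u * g⁻¹)⁻¹ := by rw [h3]; group
        _ = _ := by rw [h5]; group
    rw [e, hkr] at h2
    exact h2
  obtain ⟨z, hz, hz1⟩ := (h.kt l).exists_ne (o l)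
  have hzV := (h.kt l).R_le (o l) hz
  have h1 := s.Kcc g hgK z (hK hz)
  have hgz : g * z * g⁻¹ ∈ Vf m := by rw [← hm]; exact conj_mem_cj hzV
  have h2 := s.RcX _ h1 (mul_mem (hfr.V_cen_X hmi hgz) (inv_mem (hfr.V_cen_X hli hzV)))
  rw [mul_inv_eq_one] at h2
  rw [h2] at hgz
  exact hz1 (hfr.Vf_inf hml hgz hzV)

theorem kN {g : G} (hgK : g ∈ Kc) (hgT : g ∈ T) (l : κ) : g ∈ normalizer (Vf l : Set G) :=
  cj_eq_self_iff.1 (h.kfix s hgK hgT l)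

/-- **(ii)** -/
theorem kmv [Finite G] {g : G} (hgK : g ∈ Kc) (hgT : g ∈ T) {l : κ} (hl : l ≠ i)
    (hn : g ∉ centralizer (Vf l : Set G)) :
    R l (o l) ≤ Kc ∧ (∀ r ∈ R l (o l), g * r = r * g) ∧ ∀ r ∈ R l (o l), ∃ v ∈ Vf l, g * v * g⁻¹ * v⁻¹ = r := by
  have hfr := h.toFr
  have kl := h.kt l
  have hgN := h.kN s hgK hgT l
  have hE : ∀ v ∈ Vf l, g * v * g⁻¹ * v⁻¹ ∈ Vf l ∧ g * v * g⁻¹ * v⁻¹ ∈ Kc := fun v hv =>
    ⟨mul_mem (conj_mem_of_normalizer hgN hv) (inv_mem hv), comm_Kc s hgK (h.Vf_T l hv)⟩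
  have hEc : ∀ e ∈ Vf l, e ∈ Kc → g * e = e * g := by
    intro e he heK
    have h1 := s.RcX _ (s.Kcc g hgK e heK) (hfr.V_cen_X hl (hE e he).1)
    rw [mul_inv_eq_one, mul_inv_eq_iff_eq_mul] at h1
    exact h1
  by_cases hER : ∀ e ∈ Vf l, e ∈ Kc → e ∈ R l (o l)
  · have hV : ∀ v ∈ Vf l, g * v * g⁻¹ * v⁻¹ ∈ R l (o l) := fun v hv => hER _ (hE v hv).1 (hE v hv).2
    obtain ⟨v₀, hv₀, hne⟩ : ∃ v ∈ Vf l, g * v * g⁻¹ * v⁻¹ ≠ 1 := by
      by_contra hcon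
      push Not at hcon
      apply hn
      rw [mem_centralizer_iff]
      intro v hv
      have h1 := hcon v hv
      rw [mul_inv_eq_one, mul_inv_eq_iff_eq_mul] at h1
      exact h1.symm
    have hgR := kt_lemB kl (h.TL g hgT l hgN) hV (hV v₀ hv₀) hne (hEc _ (hE v₀ hv₀).1 (hE v₀ hv₀).2)
    obtain ⟨u, hu, hug⟩ := h.root hgT hgN hgR
    have hfull : ∀ r ∈ R l (o l), ∃ v ∈ Vf l, g * v * g⁻¹ * v⁻¹ = r := by
      intro r hr
      have hun : ¬ ∀ a ∈ Vf l, u⁻¹ * a = a * u⁻¹ := by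
        intro hcon
        apply hne
        rw [h.comm_root hug hv₀, hcon v₀ hv₀]
        group
      obtain ⟨b, hb, -⟩ := kl.third (o l) (o l)
      obtain ⟨v, hv, hvr⟩ := kl.full (kl.K_Q (o l) (inv_mem hu)) hun hb r hr
      exact ⟨v, kl.R_le b hv, by rw [h.comm_root hug (kl.R_le b hv), hvr]⟩
    refine ⟨?_, hgR, hfull⟩
    intro r hr
    obtain ⟨v, hv, rfl⟩ := hfull r hr
    exact (hE v hv).2
  · exfalso
    push Not at hER
    obtain ⟨e, he, heK, heR⟩ := hER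
    have hRK : R l (o l) ≤ Kc := by
      intro r hr
      obtain ⟨k, hk, rfl⟩ := kt_full kl he heR hr
      exact mul_mem (conj_mem_of_normalizer (s.TKc (h.KT' l hk)) heK) (inv_mem heK)
    have hgR : ∀ r ∈ R l (o l), g * r = r * g := fun r hr => hEc r (kl.R_le _ hr) (hRK hr)
    obtain ⟨u, hu, hug⟩ := h.root hgT hgN hgR
    have h1 : u * e = e * u := by
      have h2 := mem_centralizer_iff.1 hug e he
      have h3 := hEc e he heK
      calc u * e = u * (e * g) * g⁻¹ := by group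
        _ = (u * g * e) * g⁻¹ := by rw [← h3]; group
        _ = e * u := by rw [← h2]; group
    have h2 := kl.reg (kl.K_Q (o l) hu) he heR h1
    apply hn
    rw [mem_centralizer_iff]
    intro v hv
    have h3 := mem_centralizer_iff.1 hug v hv
    calc v * g = u⁻¹ * (u * v) * g := by group
      _ = u⁻¹ * (v * (u * g)) := by rw [h2 v hv]; group
      _ = g * v := by rw [h3]; group

theorem kR [Finite G] {g : G} (hgK : g ∈ Kc) (hgT : g ∈ T) (l : κ) : ∀ r ∈ R l (o l), g * r = r * g := by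
  by_cases hl : l = i
  · subst hl
    exact s.KcR g hgK
  by_cases hn : g ∈ centralizer (Vf l : Set G)
  · exact fun r hr => (mem_centralizer_iff.1 hn r ((h.kt l).R_le _ hr)).symm
  · exact (h.kmv s hgK hgT hl hn).2.1

theorem kroot [Finite G] {g : G} (hgK : g ∈ Kc) (hgT : g ∈ T) (l : κ) :
    ∃ u ∈ K l (o l), u * g ∈ centralizer (Vf l : Set G) :=
  h.root hgT (h.kN s hgK hgT l) (h.kR s hgK hgT l)

omit h in
theorem tcomm {t u : G} (htK : t ∈ Kc) (htN : t ∈ normalizer (T : Set G)) (hu : u ∈ T) :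
    t * u * t⁻¹ * u⁻¹ ∈ Kc ∧ t * u * t⁻¹ * u⁻¹ ∈ T :=
  ⟨comm_Kc s htK hu, mul_mem (conj_mem_of_normalizer htN hu) (inv_mem hu)⟩

section t

variable {t : G} (htK : t ∈ Kc) (htN : t ∈ normalizer (T : Set G)) (htt : t * t ∈ T)
include htK htN

omit h in
theorem tR : t ∈ normalizer (R i (o i) : Set G) := by
  apply centralizer_le_normalizer
  rw [mem_centralizer_iff]
  exact fun r hr => (s.KcR t htK r hr).symm

omit htK s in
/-- `T` normalises `Q^t` -/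
theorem T_Qt {g : G} (hg : g ∈ T) : cj g (cj t Q) = cj t Q := by
  have h1 : t⁻¹ * g * t ∈ T := conj_inv_mem_of_normalizer htN hg
  have h2 := cj_eq_self_iff.2 (h.TQ h1)
  rw [← cj_mul]
  have e : g * t = t * (t⁻¹ * g * t) := by group
  rw [e, cj_mul, h2]

/-- `Q^t` centralises `Rᵢ`, `R_j` -/
theorem Qt_R [Finite G] (l : κ) : R l (o l) ≤ centralizer (cj t Q : Set G) := by
  intro r hr
  rw [mem_centralizer_iff]
  intro x hx
  set q := t⁻¹ * x * t with hq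
  have hqQ : q ∈ Q := mem_cj.1 hx
  obtain ⟨h1, h2⟩ := tcomm s htK htN (h.QT hqQ)
  have h3 := h.kR s h1 h2 l r hr
  have h4 := h.QC l q hqQ r ((h.kt l).R_le _ hr)
  have e : x = (t * q * t⁻¹ * q⁻¹) * q := by rw [hq]; group
  rw [e]
  calc (t * q * t⁻¹ * q⁻¹) * q * r = (t * q * t⁻¹ * q⁻¹) * (r * q) := by rw [← h4]; group
    _ = ((t * q * t⁻¹ * q⁻¹) * r) * q := by group
    _ = r * ((t * q * t⁻¹ * q⁻¹) * q) := by rw [h3]; group

omit htK htN h s in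
theorem Jt_iff {j : κ} (hfr : Fr Vf Lf R K Q) :
    Jt Vf Q t j ↔ ∃ q ∈ Q, t * q * t⁻¹ * q⁻¹ ∉ centralizer (Vf j : Set G) := by
  rw [Jt, SetLike.not_le_iff_exists]
  have hQ : ∀ q ∈ Q, q ∈ centralizer (Vf j : Set G) := fun q hq => by
    rw [mem_centralizer_iff]
    exact fun v hv => (hfr.QC j q hq v hv).symm
  constructor
  · rintro ⟨x, hx, hn⟩
    refine ⟨t⁻¹ * x * t, mem_cj.1 hx, fun hc => hn ?_⟩
    have h1 := mul_mem hc (hQ _ (mem_cj.1 hx))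
    have e : t * (t⁻¹ * x * t) * t⁻¹ * (t⁻¹ * x * t)⁻¹ * (t⁻¹ * x * t) = x := by group
    rwa [e] at h1
  · rintro ⟨q, hq, hn⟩
    exact ⟨t * q * t⁻¹, conj_mem_cj hq, fun hc => hn (mul_mem hc (inv_mem (hQ q hq)))⟩

/-- the data at `j ∈ J` -/
theorem Jinfo [Finite G] [Finite κ] {j : κ} (hj : j ≠ i) (hJ : Jt Vf Q t j) :
    R j (o j) ≤ Kc ∧ (∀ y ∈ cj t⁻¹ (Vf j), ∀ u ∈ Q, y * u * y⁻¹ * u⁻¹ ∈ cj t⁻¹ (R j (o j))) ∧
    (∃ u ∈ Q, ∀ z ∈ cj t⁻¹ (R j (o j)), ∃ y ∈ cj t⁻¹ (Vf j), y * u * y⁻¹ * u⁻¹ = z) ∧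
    cj t⁻¹ (R j (o j)) ≤ Wh Vf K Q ∧
    (∀ m, m ≠ i → cj t⁻¹ (R j (o j)) ≤ centralizer (XK (K m) : Set G)) := by
  have hfr := h.toFr
  obtain ⟨q₀, hq₀, hn₀⟩ := (Jt_iff hfr).1 hJ
  obtain ⟨h1, h2⟩ := tcomm s htK htN (h.QT hq₀)
  obtain ⟨hRK, -, -⟩ := h.kmv s h1 h2 hj hn₀
  have htR := tR s htK htN
  set Y := cj t⁻¹ (Vf j) with hY
  set A := cj t⁻¹ (R j (o j)) with hA
  have hYU : Y ≤ Uc (R i (o i)) := by
    rw [hY, ← cj_eq_self_iff.2 (N_Uc _ (inv_mem htR))]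
    exact cj_mono (hfr.V_le_Uc hj (o i))
  have hAW : A ≤ Wh Vf K Q := by
    intro a ha
    have hz : t * a * t⁻¹ ∈ R j (o j) := by
      have := mem_cj.1 ha
      rwa [inv_inv] at this
    have h3 : a * (t * a * t⁻¹)⁻¹ ∈ Rc := by
      have h4 := s.Kcc _ (inv_mem htK) _ (hRK hz)
      have e : t⁻¹ * (t * a * t⁻¹) * t⁻¹⁻¹ * (t * a * t⁻¹)⁻¹ = a * (t * a * t⁻¹)⁻¹ := by group
      rwa [e] at h4
    have e : a = a * (t * a * t⁻¹)⁻¹ * (t * a * t⁻¹) := by group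
    rw [e]
    exact mul_mem (hfr.Vm hj (s.RcU h3) (s.RcQ h3)) (Vf_le_Wh Vf K Q j ((h.kt j).R_le _ hz))
  -- conjugation formula
  have hconj : ∀ v ∈ Vf j, ∀ u ∈ Q, t * ((t⁻¹ * v * t) * u * (t⁻¹ * v * t)⁻¹ * u⁻¹) * t⁻¹ =
      ((t * u * t⁻¹ * u⁻¹) * v * (t * u * t⁻¹ * u⁻¹)⁻¹ * v⁻¹)⁻¹ := by
    intro v hv u hu
    have h3 := h.QC j u hu v hv
    have e1 : t * ((t⁻¹ * v * t) * u * (t⁻¹ * v * t)⁻¹ * u⁻¹) * t⁻¹ =
        v * (t * u * t⁻¹ * u⁻¹) * (u * v⁻¹ * u⁻¹) * (t * u * t⁻¹ * u⁻¹)⁻¹ := by group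
    have e2 : u * v⁻¹ * u⁻¹ = v⁻¹ := by
      rw [h.QC j u hu _ (inv_mem hv)]; group
    rw [e1, e2]; group
  have hAm : ∀ y ∈ Y, ∀ u ∈ Q, y * u * y⁻¹ * u⁻¹ ∈ A := by
    intro y hy u hu
    have hv : t * y * t⁻¹ ∈ Vf j := by
      have := mem_cj.1 hy
      rwa [inv_inv] at this
    have h3 := hconj _ hv u hu
    have e : t⁻¹ * (t * y * t⁻¹) * t = y := by group
    rw [e] at h3
    obtain ⟨k1, k2⟩ := tcomm s htK htN (h.QT hu)
    obtain ⟨w, hw, hwg⟩ := h.kroot s k1 k2 j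
    rw [hA, mem_cj, inv_inv, h3]
    exact inv_mem (h.comm_root_mem hw hwg hv)
  have hfull : ∀ u ∈ Q, (∃ y ∈ Y, y * u ≠ u * y) → ∀ z ∈ A, ∃ y ∈ Y, y * u * y⁻¹ * u⁻¹ = z := by
    rintro u hu ⟨y, hy, hne⟩ z hz
    have hv : t * y * t⁻¹ ∈ Vf j := by
      have := mem_cj.1 hy
      rwa [inv_inv] at this
    have hz' : t * z * t⁻¹ ∈ R j (o j) := by
      have := mem_cj.1 hz
      rwa [inv_inv] at this
    obtain ⟨k1, k2⟩ := tcomm s htK htN (h.QT hu)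
    have hn : t * u * t⁻¹ * u⁻¹ ∉ centralizer (Vf j : Set G) := by
      intro hc
      have h3 := hconj _ hv u hu
      have e : t⁻¹ * (t * y * t⁻¹) * t = y := by group
      rw [e, ← mem_centralizer_iff.1 hc _ hv] at h3
      apply hne
      have h4 : y * u * y⁻¹ * u⁻¹ = 1 := by
        calc y * u * y⁻¹ * u⁻¹ = t⁻¹ * (t * (y * u * y⁻¹ * u⁻¹) * t⁻¹) * t := by group
          _ = 1 := by rw [h3]; group
      rw [mul_inv_eq_one, mul_inv_eq_iff_eq_mul] at h4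
      exact h4
    obtain ⟨v, hv', hvz⟩ := (h.kmv s k1 k2 hj hn).2.2 _ (inv_mem hz')
    refine ⟨t⁻¹ * v * t, ?_, ?_⟩
    · rw [hY, mem_cj]
      have e : t⁻¹⁻¹ * (t⁻¹ * v * t) * t⁻¹ = v := by group
      rw [e]; exact hv'
    · have h3 := hconj v hv' u hu
      rw [hvz, inv_inv] at h3
      calc t⁻¹ * v * t * u * (t⁻¹ * v * t)⁻¹ * u⁻¹
          = t⁻¹ * (t * (t⁻¹ * v * t * u * (t⁻¹ * v * t)⁻¹ * u⁻¹) * t⁻¹) * t := by group
        _ = z := by rw [h3]; group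
  have hmv : ∃ u ∈ Q, ∃ y ∈ Y, y * u ≠ u * y := by
    refine ⟨q₀, hq₀, ?_⟩
    by_contra hcon
    push Not at hcon
    apply hn₀
    rw [mem_centralizer_iff]
    intro v hv
    have h3 := hconj v hv q₀ hq₀
    have hy : t⁻¹ * v * t ∈ Y := by
      rw [hY, mem_cj]
      have e : t⁻¹⁻¹ * (t⁻¹ * v * t) * t⁻¹ = v := by group
      rw [e]; exact hv
    rw [hcon _ hy] at h3
    have h4 : (t * q₀ * t⁻¹ * q₀⁻¹) * v * (t * q₀ * t⁻¹ * q₀⁻¹)⁻¹ * v⁻¹ = 1 := by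
      rw [← inv_eq_one, ← h3]; group
    rw [mul_inv_eq_one, mul_inv_eq_iff_eq_mul] at h4
    exact h4.symm
  refine ⟨hRK, hAm, ?_, hAW, fun m hm => ?_⟩
  · obtain ⟨u, hu, hy⟩ := hmv
    exact ⟨u, hu, hfull u hu hy⟩
  · exact hfr.lemK hm hYU hAW hAm hfull hmv fun b => by rw [card_cj, h.card j m (o j) b]

/-- `J = {j}` -/
theorem Junique [Finite G] [Finite κ] {j m : κ} (hj : j ≠ i) (hJ : Jt Vf Q t j) (hm : m ≠ i)
    (hJ' : Jt Vf Q t m) : m = j := by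
  by_contra hne
  have hfr := h.toFr
  -- for `c ∈ Rc` there is `z ∈ R l` with `c z ∈ C(X_{m'})`, `m' ≠ i`
  have key : ∀ l, l ≠ i → Jt Vf Q t l → ∀ c ∈ Rc, ∃ z ∈ R l (o l),
      (∀ m', m' ≠ i → c * z ∈ centralizer (XK (K m') : Set G)) ∧ (z = 1 → c = 1) := by
    intro l hl hJl
    obtain ⟨hRK, -, -, -, hX⟩ := h.Jinfo s htK htN hl hJl
    let f : R l (o l) → Rc := fun z => ⟨t⁻¹ * z * t * (z : G)⁻¹, by
      have h4 := s.Kcc _ (inv_mem htK) _ (hRK z.2)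
      rwa [inv_inv] at h4⟩
    have hcz : ∀ z : R l (o l), ∀ m', m' ≠ i → (f z : G) * z ∈ centralizer (XK (K m') : Set G) := by
      intro z m' hm'
      have h5 : t⁻¹ * (z : G) * t ∈ cj t⁻¹ (R l (o l)) := by
        have := conj_mem_cj (g := t⁻¹) z.2
        rwa [inv_inv] at this
      have e : (f z : G) * z = t⁻¹ * z * t := by
        change t⁻¹ * (z : G) * t * (z : G)⁻¹ * z = _
        group
      rw [e]
      exact hX m' hm' h5
    have hf : Function.Injective f := by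
      intro z z' hzz
      have h1 := hcz z l hl
      have h2 := hcz z' l hl
      rw [hzz] at h1
      have h3 : (z : G)⁻¹ * z' ∈ centralizer (XK (K l) : Set G) := by
        have e : (z : G)⁻¹ * z' = ((f z' : G) * z)⁻¹ * ((f z' : G) * z') := by group
        rw [e]
        exact mul_mem (inv_mem h1) h2
      exact Subtype.ext (inv_mul_eq_one.1 (hfr.uniq (mul_mem (inv_mem ((h.kt l).R_le _ z.2))
        ((h.kt l).R_le _ z'.2)) h3))
    have hs := (hf.bijective_of_nat_card_le (by rw [s.card, h.card l i (o l) (o i)])).2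
    intro c hc
    obtain ⟨z, hz⟩ := hs ⟨c, hc⟩
    have hz' : (f z : G) = c := congrArg Subtype.val hz
    refine ⟨z, z.2, fun m' hm' => hz' ▸ hcz z m' hm', fun h1 => ?_⟩
    rw [← hz']
    change t⁻¹ * (z : G) * t * (z : G)⁻¹ = 1
    rw [h1]; group
  obtain ⟨r, hr, hr1⟩ := (h.kt i).exists_ne (o i)
  have hcard : 1 < Nat.card Rc := by
    rw [s.card]
    have : Nontrivial (R i (o i)) := ⟨⟨r, hr⟩, 1, fun h1 => hr1 (congrArg Subtype.val h1)⟩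
    exact Finite.one_lt_card
  obtain ⟨c, hc, hc1⟩ : ∃ c ∈ Rc, c ≠ 1 := by
    by_contra hcon
    push Not at hcon
    rw [(eq_bot_iff_forall _).2 hcon, card_bot] at hcard
    omega
  obtain ⟨z, hz, hzX, hz1⟩ := key j hj hJ c hc
  obtain ⟨z', hz', hzX', -⟩ := key m hm hJ' c hc
  have h1 : z ∈ centralizer (XK (K j) : Set G) := by
    have h2 := hfr.V_cen_X hne ((h.kt m).R_le _ hz')
    have e : z = (z' * ((c * z')⁻¹ * (c * z))) := by group
    rw [e]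
    exact mul_mem h2 (mul_mem (inv_mem (hzX' j hj)) (hzX j hj))
  exact hc1 (hz1 (hfr.uniq ((h.kt j).R_le _ hz) h1))

/-- the factors outside `J₀ = {m ≠ i, m ∉ J}` are fixed by `T` -/
theorem Jfix [Finite G] [Finite κ] {m : κ} (hm : ¬ (m ≠ i ∧ ¬ Jt Vf Q t m)) {g : G} (hg : g ∈ T) :
    cj g (Vf m) = Vf m := by
  by_cases hmi : m = i
  · rw [hmi]
    exact h.cj_i hg
  have hJ : Jt Vf Q t m := by
    by_contra hcon
    exact hm ⟨hmi, hcon⟩
  have hfr := h.toFr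
  obtain ⟨l, hl⟩ := h.perm g hg m
  have hli : l ≠ i := by
    rintro rfl
    exact hmi (hfr.Vf_inj (cj_injective (hl.trans (h.cj_i hg).symm)))
  have hJl : Jt Vf Q t l := by
    intro hcon
    apply hJ
    have h1 := cj_mono (g := g⁻¹) hcon
    rw [← centralizer_cj, h.T_Qt htN (inv_mem hg), ← hl, ← cj_mul, inv_mul_cancel, cj_one] at h1
    exact h1
  rw [hl, h.Junique s htK htN hmi hJ hli hJl]

include htt in
/-- `t` permutes the lines `R l`, `l ≠ i`, `l ∉ J` -/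
theorem tperm [Finite G] [Finite κ] {l₀ : κ} (hl₀ : l₀ ≠ i) {l : κ} (hl : l ≠ i) (hJ : ¬ Jt Vf Q t l) :
    ∃ m, m ≠ i ∧ ¬ Jt Vf Q t m ∧ cj t (R l (o l)) = R m (o m) := by
  have hfr := h.toFr
  have htR := tR s htK htN
  have htU := cj_eq_self_iff.2 (N_Uc _ htR)
  have hUle : Uc (R i (o i)) ⊓ centralizer (Q : Set G) ≤ Wh Vf K Q := fun z hz =>
    hfr.Vm hl₀ (mem_inf.1 hz).1 (mem_inf.1 hz).2
  suffices hZ : ∃ m ∈ {m | m ≠ i ∧ ¬ Jt Vf Q t m}, cj t (R l (o l)) = R m (o m) by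
    obtain ⟨m, hm, hlm⟩ := hZ
    exact ⟨m, hm.1, hm.2, hlm⟩
  refine h.Zlem (U₀ := Uc (R i (o i)) ⊓ centralizer (Q : Set G) ⊓ centralizer (cj t Q : Set G))
    (J₀ := {m | m ≠ i ∧ ¬ Jt Vf Q t m}) (t := t) (inf_le_left.trans hUle) ?_ ?_ ?_ ?_
    (fun m hm g hg => h.Jfix s htK htN hm hg) htN (l := l) ⟨hl, hJ⟩
  · rw [cj_inf, cj_inf, htU, ← centralizer_cj, ← centralizer_cj, ← cj_mul, cj_eq_self_iff.2 (h.TQ htt)]
    rw [inf_assoc, inf_assoc, inf_comm (centralizer (cj t Q : Set G))]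
  · rintro m ⟨hmi, hmJ⟩
    refine le_inf (le_inf (hfr.V_le_Uc hmi (o i)) (hfr.V_cen_Q m)) ?_
    rw [Jt, not_not] at hmJ
    exact le_centralizer_iff.1 hmJ
  · intro m hm
    refine le_inf (le_inf ?_ (((h.kt m).R_le _).trans (hfr.V_cen_Q m))) (h.Qt_R s htK htN m)
    by_cases hmi : m = i
    · subst hmi
      exact hfr.R_le_Uc m (o m)
    · exact ((h.kt m).R_le _).trans (hfr.V_le_Uc hmi (o i))
  · intro m hm z hz a ha haz
    by_cases hmi : m = i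
    · subst hmi
      refine kt_R_of_cen (h.kt m) ha ?_
      have e : a = z * (a⁻¹ * z)⁻¹ := by group
      rw [e]
      refine mul_mem ?_ (inv_mem (cen_XK_le (K m) (o m) haz))
      rw [mem_centralizer_iff]
      exact fun u hu => (Uc_comm (mem_inf.1 (mem_inf.1 hz).1).1 ((h.kt m).K_Q _ hu)).symm
    · have hJm : Jt Vf Q t m := by
        by_contra hcon
        exact hm ⟨hmi, hcon⟩
      obtain ⟨q, hq, hn⟩ := (Jt_iff hfr).1 hJm
      obtain ⟨k1, k2⟩ := tcomm s htK htN (h.QT hq)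
      set g := t * q * t⁻¹ * q⁻¹ with hg
      have hgz : g * z = z * g := by
        have h1 := mem_centralizer_iff.1 (mem_inf.1 hz).2 (t * q * t⁻¹) (conj_mem_cj hq)
        have h2 := mem_centralizer_iff.1 (mem_inf.1 (mem_inf.1 hz).1).2 q⁻¹ (inv_mem hq)
        calc g * z = t * q * t⁻¹ * (q⁻¹ * z) := by rw [hg]; group
          _ = t * q * t⁻¹ * z * q⁻¹ := by rw [h2]; group
          _ = z * g := by rw [h1, hg]; group
      have hgN := h.kN s k1 k2 m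
      have hgL := h.TL g k2 m hgN
      have hga : g * a * g⁻¹ = a := by
        refine hfr.comp_eq (conj_mem_of_normalizer hgN ha) ha ?_ haz
        have h1 : g * (a⁻¹ * z) * g⁻¹ ∈ centralizer (XK (K m) : Set G) :=
          conj_mem_of_normalizer (normalizer_le_normalizer_centralizer _ ((h.kt m).L_le_NX hgL)) haz
        have e : (g * a * g⁻¹)⁻¹ * z = g * (a⁻¹ * z) * g⁻¹ := by
          calc (g * a * g⁻¹)⁻¹ * z = g * a⁻¹ * g⁻¹ * (z * g) * g⁻¹ := by group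
            _ = _ := by rw [← hgz]; group
        rw [e]
        exact h1
      by_contra haR
      obtain ⟨u, hu, hug⟩ := h.kroot s k1 k2 m
      have hga' : g * a = a * g := by
        rw [mul_inv_eq_iff_eq_mul] at hga
        exact hga
      have hua : u * a = a * u := by
        have h2 := mem_centralizer_iff.1 hug a ha
        calc u * a = u * (a * g) * g⁻¹ := by group
          _ = (u * g * a) * g⁻¹ := by rw [← hga']; group
          _ = a * u := by rw [← h2]; group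
      have h2 := (h.kt m).reg ((h.kt m).K_Q _ hu) ha haR hua
      apply hn
      rw [mem_centralizer_iff]
      intro v hv
      have h3 := mem_centralizer_iff.1 hug v hv
      calc v * g = u⁻¹ * (u * v) * g := by group
        _ = u⁻¹ * (v * (u * g)) := by rw [h2 v hv]; group
        _ = g * v := by rw [h3]; group

include htt in
/-- **END** -/
theorem Jend [Finite G] [Finite κ] {j m : κ} (hj : j ≠ i) (hJ : Jt Vf Q t j) (hm : m ≠ i) (hmj : m ≠ j) :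
    False := by
  have hfr := h.toFr
  have hJm : ¬ Jt Vf Q t m := fun hJ' => hmj (h.Junique s htK htN hj hJ hm hJ')
  obtain ⟨l, hl, hJl, hml⟩ := h.tperm s htK htN htt hj hm hJm
  obtain ⟨hRK, hAm, ⟨u₀, hu₀, hfull⟩, hAW, hAX⟩ := h.Jinfo s htK htN hj hJ
  set Y := cj t⁻¹ (Vf j) with hY
  set A := cj t⁻¹ (R j (o j)) with hA
  have hYm : Y ≤ QQ (R m (o m)) := by
    have h1 : cj t⁻¹ (R l (o l)) = R m (o m) := by
      rw [← hml, ← cj_mul, inv_mul_cancel, cj_one]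
    have h2 : cj t⁻¹ (QQ (R l (o l))) = QQ (R m (o m)) := by
      rw [cj_O2, ← normalizer_cj, h1]
    rw [← h2]
    exact cj_mono (hfr.VQ' l j (o l))
  -- components of `A` at `i`
  have hcomp : ∀ a ∈ A, ∃ r ∈ R i (o i), r⁻¹ * a ∈ centralizer (XK (K i) : Set G) ∧ (r = 1 → a = 1) := by
    intro a ha
    have hz : t * a * t⁻¹ ∈ R j (o j) := by
      have := mem_cj.1 ha
      rwa [inv_inv] at this
    have h3 : a * (t * a * t⁻¹)⁻¹ ∈ Rc := by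
      have h4 := s.Kcc _ (inv_mem htK) _ (hRK hz)
      have e : t⁻¹ * (t * a * t⁻¹) * t⁻¹⁻¹ * (t * a * t⁻¹)⁻¹ = a * (t * a * t⁻¹)⁻¹ := by group
      rwa [e] at h4
    obtain ⟨r, hr, hrc⟩ := s.Rcd _ h3
    have hzX : t * a * t⁻¹ ∈ centralizer (XK (K i) : Set G) := hfr.V_cen_X hj ((h.kt j).R_le _ hz)
    refine ⟨r, hr, ?_, fun h1 => ?_⟩
    · have e : r⁻¹ * a = r⁻¹ * (a * (t * a * t⁻¹)⁻¹) * (t * a * t⁻¹) := by group
      rw [e]
      exact mul_mem hrc hzX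
    · subst h1
      rw [inv_one, one_mul] at hrc
      have h5 := s.RcX _ h3 hrc
      have h6 : a = t * a * t⁻¹ := mul_inv_eq_one.1 h5
      have h7 : a ∈ Vf j := by rw [h6]; exact (h.kt j).R_le _ hz
      exact hfr.uniq h7 (hAX j hj ha)
  obtain ⟨b, hb, -⟩ := (h.kt i).third (o i) (o i)
  -- elements of `A` centralising `K i b`
  have hAK : ∀ a ∈ A, (∀ k ∈ K i b, k * a = a * k) → a = 1 := by
    intro a ha hc
    obtain ⟨r, hr, hra, hr1⟩ := hcomp a ha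
    have h1 : r ∈ centralizer (K i b : Set G) := by
      have e : r = a * (r⁻¹ * a)⁻¹ := by group
      rw [e]
      exact mul_mem (mem_centralizer_iff.2 hc) (inv_mem (cen_XK_le (K i) b hra))
    have h2 := kt_R_of_cen (h.kt i) ((h.kt i).R_le _ hr) h1
    exact hr1 ((h.kt i).eq_one hb h2 hr)
  have hYQ : Y ≤ Q := by
    have htR := tR s htK htN
    have hYU : Y ≤ Uc (R i (o i)) := by
      rw [hY, ← cj_eq_self_iff.2 (N_Uc _ (inv_mem htR))]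
      exact cj_mono (hfr.V_le_Uc hj (o i))
    exact hYU.trans (hfr.Uc_le_Q i (o i))
  have hQN : Q ≤ normalizer (R i b : Set G) := fun q hq => (h.kt i).cen_le_N b
    (mem_centralizer_iff.2 fun v hv => (h.QC i q hq v hv).symm)
  have hYc : Y ≤ centralizer (Uc (R i b) : Set G) := by
    intro y hy
    rw [mem_centralizer_iff]
    intro u hu
    have h1 : y * u * y⁻¹ * u⁻¹ ∈ Uc (R i b) :=
      mul_mem (conj_mem_of_normalizer (N_Uc _ (hQN (hYQ hy))) hu) (inv_mem hu)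
    have h2 := hAK _ (hAm y hy u (hfr.Uc_le_Q i b hu)) fun k hk => (Uc_comm h1 ((h.kt i).K_Q b hk)).symm
    rw [mul_inv_eq_one, mul_inv_eq_iff_eq_mul] at h2
    exact h2.symm
  have hYL : Y ≤ QQ (R i b) := by
    have h1 : QQ (R m (o m)) ⊓ centralizer (Uc (R i b) : Set G) ≤ QQ (R i b) := by
      refine hfr.le_QQ_of inf_le_right ((O2_isPGroup _).to_le inf_le_left) ?_
      rintro c hc x ⟨hx1, hx2⟩
      have h2 : c ∈ normalizer (R m (o m) : Set G) :=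
        (h.kt m).cen_le_N (o m) (centralizer_le (hfr.V_le_Uc hm b) hc)
      exact mem_inf.2 ⟨conj_mem_of_normalizer (le_normalizer_O2 _ h2) hx1, mul_mem (mul_mem hc hx2) (inv_mem hc)⟩
    exact (le_inf hYm hYc).trans h1
  -- `K i b` normalises `A`
  have hKA : ∀ k ∈ K i b, ∀ a ∈ A, k * a * k⁻¹ ∈ A := by
    intro k hk a ha
    obtain ⟨y, hy, rfl⟩ := hfull a ha
    have h1 := (h.kt i).KQ b y (hYL hy) k hk
    set ρ := y * k * y⁻¹ * k⁻¹ with hρ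
    have hρW : ρ ∈ Wh Vf K Q := Vf_le_Wh Vf K Q i ((h.kt i).R_le b h1)
    have hkQ : k * u₀ * k⁻¹ ∈ Q := conj_mem_of_normalizer (h.nQ i b ((h.kt i).K_Q b hk)) hu₀
    have h2 : k * y * k⁻¹ = ρ⁻¹ * y := by rw [hρ]; group
    have h3 := hAm y hy _ hkQ
    have e : k * (y * u₀ * y⁻¹ * u₀⁻¹) * k⁻¹ = (k * y * k⁻¹) * (k * u₀ * k⁻¹) * (k * y * k⁻¹)⁻¹ * (k * u₀ * k⁻¹)⁻¹ := by
      group
    rw [e, h2, hfr.shift hρW hkQ (hAW h3)]
    exact h3
  obtain ⟨z, hz, hz1⟩ := (h.kt j).exists_ne (o j)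
  have haA : t⁻¹ * z * t ∈ A := by
    have := conj_mem_cj (g := t⁻¹) hz
    rwa [inv_inv] at this
  apply hz1
  have h1 : t⁻¹ * z * t = 1 := by
    refine hAK _ haA fun k hk => ?_
    obtain ⟨r, hr, hra, -⟩ := hcomp _ haA
    set a := t⁻¹ * z * t with ha
    have h2 := mul_mem (hKA k hk a haA) (inv_mem haA)
    have h3 : k * a * k⁻¹ * a⁻¹ = k * r * k⁻¹ * r⁻¹ := by
      have h4 := mem_centralizer_iff.1 hra k (K_le_X (K i) b hk)
      calc k * a * k⁻¹ * a⁻¹ = k * r * k⁻¹ * (k * (r⁻¹ * a) * k⁻¹) * a⁻¹ := by group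
        _ = k * r * k⁻¹ * r⁻¹ := by rw [h4]; group
    have h5 : k * r * k⁻¹ * r⁻¹ ∈ R i b := (h.kt i).QV b k ((h.kt i).K_Q b hk) r ((h.kt i).R_le _ hr)
    rw [h3] at h2
    have h6 : k * r * k⁻¹ * r⁻¹ = 1 := by
      obtain ⟨r', hr', hra', hr1'⟩ := hcomp _ h2
      have h7 := hfr.comp_eq ((h.kt i).R_le _ hr') ((h.kt i).R_le _ h5) hra' (by rw [inv_mul_cancel]; exact one_mem _)
      have h8 : r' = 1 := (h.kt i).eq_one hb (h7 ▸ h5) hr'
      exact hr1' h8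
    rw [← h3, mul_inv_eq_one, mul_inv_eq_iff_eq_mul] at h6
    exact h6
  calc z = t * (t⁻¹ * z * t) * t⁻¹ := by group
    _ = 1 := by rw [h1]; group

end t

/-- **(SURV) is impossible** -/
theorem kill [Finite G] [Finite κ] (hk : ∀ j, ∃ m, m ≠ i ∧ m ≠ j)
    (kp : ∀ t : G, t ∉ T → t ∈ normalizer (T : Set G) → t * t ∈ T → t ∈ normalizer (R i (o i) : Set G) →
      (∀ l, l ≠ i → ∃ m, m ≠ i ∧ cj t (R l (o l)) = R m (o m)) → False) : False := by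
  obtain ⟨w, hwK, hwN, hwT⟩ := exists_step h.T2 s.Kc2 s.TKc s.Kcn
  obtain ⟨n, hn, hn2⟩ := exists_pow_sq (s.Kc2.to_le (by rw [zpowers_le]; exact hwK)) hwT
  have htK : w ^ n ∈ Kc := pow_mem hwK n
  have htN : w ^ n ∈ normalizer (T : Set G) := pow_mem hwN n
  by_cases hJ : ∃ j, j ≠ i ∧ Jt Vf Q (w ^ n) j
  · obtain ⟨j, hj, hJ⟩ := hJ
    obtain ⟨m, hm, hmj⟩ := hk j
    exact h.Jend s htK htN hn2 hj hJ hm hmj
  · push Not at hJ
    obtain ⟨l₀, hl₀, -⟩ := hk i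
    refine kp _ hn htN hn2 (tR s htK htN) fun l hl => ?_
    obtain ⟨m, hm, -, hlm⟩ := h.tperm s htK htN hn2 hl₀ hl (hJ l hl)
    exact ⟨m, hm, hlm⟩

end FT

end Cfsg.Agent.Omega.IId.CvBig.Four

end
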