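import Cfsg.Agent.Mrg.Omega.IId.CvBig.FourBase
import Cfsg.Agent.Mrg.Omega.IId.Cv.TwoFourR
import Cfsg.Agent.Mrg.Omega.IId.SideOf

section


/-!
# CvBig, CASE 2a, `q ≥ 4`, `k ≥ 3`: `δ` is linear (helper796)

`V = F ⊕ F`, `F₀ = C_F(X)`.  `Act M F₀ g h D γ` : `g` acts as `(r, l) ↦ (r + h l, l) D(l)`, `c ↦ c + γ(c)`.

* `exists_N` : some `n ∈ NF` (`[F, n] ≤ F₀`, `[F₀, n] = 1`) moves `R i`.
-/

set_option autoImplicit false
set_option linter.unusedSectionVars false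

namespace Cfsg.Agent.Omega.IId.CvBig.Four

open Subgroup Cfsg.Agent.Lib.SL2Mat Cfsg.Agent.Omega.BTwo Cfsg.Agent.Omega.IId.Cv.TwoFour
open Cfsg.Agent.Omega.NatPair (dt dt_add dt_smul exists_smul_of_dt exists_comb ap ap_smul ap_add ap_zero' ap_one'
  ap_mul ap_inv_ap ap_ap_inv ap_one exists_ap exists_ap_e ap_up_e ext2)
open Cfsg.Agent.Omega.Mix (RMod Pt pt Char2)
open Cfsg.Agent.Omega.IId.NV (KX mem_KX normalizer_le_normalizer_KX KX_le)

universe u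

variable {G : Type u} [Group G]

/-- `{n : [PP, n] ≤ F0, [F0, n] = 1}` -/
def NF {ι : Type*} (V : Subgroup G) (K : ι → Subgroup G) (w : G) : Subgroup G :=
  cenMod (F0 V K w) (PP V w) ⊓ centralizer (F0 V K w : Set G)

section rmod

variable {F : Type*} [Field F] {V N : Subgroup G} {M : RMod F V N}

/-- the root groups -/
def Kx (M : RMod F V N) (i : Pt M) : Subgroup G := KX (pt M i)

theorem e2_mul (a b c d : F) : M.e ![a, b] * M.e ![c, d] = M.e ![a + c, b + d] := by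
  rw [← M.e_add]
  congr 1
  apply ext2
  · simp
  · simp

theorem e2_inj {a b c d : F} (h : M.e ![a, b] = M.e ![c, d]) : a = c ∧ b = d := by
  have h1 := M.e_inj h
  exact ⟨congrFun h1 0, congrFun h1 1⟩

theorem exists_e2 {v : G} (hv : v ∈ V) : ∃ a b, M.e ![a, b] = v := by
  obtain ⟨y, rfl⟩ := (M.mem_iff v).1 hv
  refine ⟨y 0, y 1, ?_⟩
  have e : (![y 0, y 1] : Fin 2 → F) = y := by
    apply ext2 <;> simp
  rw [e]

theorem e2_zero : M.e ![(0 : F), 0] = 1 := by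
  rw [← M.e_zero]
  have e : (![0, 0] : Fin 2 → F) = 0 := by
    apply ext2 <;> simp
  rw [e]

theorem line10_iff {v : G} : v ∈ M.line ![1, 0] ↔ ∃ r : F, M.e ![r, 0] = v := by
  rw [M.mem_line]
  have e : ∀ c : F, c • (![1, 0] : Fin 2 → F) = ![c, 0] := fun c => by
    apply ext2 <;> simp
  simp only [e]

theorem line01_iff {v : G} : v ∈ M.line ![0, 1] ↔ ∃ l : F, M.e ![0, l] = v := by
  rw [M.mem_line]
  have e : ∀ c : F, c • (![0, 1] : Fin 2 → F) = ![0, c] := fun c => by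
    apply ext2 <;> simp
  simp only [e]

theorem ind2 {g : G} {A : Matrix.SpecialLinearGroup (Fin 2) F} (hA : M.Ind g A) (r l : F) :
    g * M.e ![r, l] * g⁻¹ = M.e ![ent A 0 0 * r + ent A 0 1 * l, ent A 1 0 * r + ent A 1 1 * l] := by
  rw [hA]
  rfl

/-- the action of an element of the stability group -/
structure Act (M : RMod F V N) (F₀ : Subgroup G) (g : G) (h : F → F) (D : F → G) (γ : G → F) : Prop where
  e : ∀ r l : F, g * M.e ![r, l] * g⁻¹ = M.e ![r + h l, l] * D l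
  c : ∀ c ∈ F₀, g * c * g⁻¹ = c * M.e ![γ c, 0]
  D_mem : ∀ l, D l ∈ F₀

section act

variable [Finite G] [Finite F] [CharP F 2] {Th : Subgroup G} {w : G} (hA : FA V N (pt M) (Kx M) (i₀ M) Th w)
include hA

theorem F0_comm {f v : G} (hf : f ∈ F0 V (Kx M) w) (hv : v ∈ V) : f * v = v * f :=
  hA.P_comm f (F0_le _ _ _ hf) v (V_le_P V w hv)

theorem F0_comm' {f f' : G} (hf : f ∈ F0 V (Kx M) w) (hf' : f' ∈ F0 V (Kx M) w) : f * f' = f' * f :=
  hA.P_comm f (F0_le _ _ _ hf) f' (F0_le _ _ _ hf')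

theorem F0_sq {f : G} (hf : f ∈ F0 V (Kx M) w) : f * f = 1 := hA.P_sq f (F0_le _ _ _ hf)

theorem eu {a b c d : F} {f f' : G} (hf : f ∈ F0 V (Kx M) w) (hf' : f' ∈ F0 V (Kx M) w)
    (h : M.e ![a, b] * f = M.e ![c, d] * f') : a = c ∧ b = d ∧ f = f' := by
  have h1 : (M.e ![c, d])⁻¹ * M.e ![a, b] = f' * f⁻¹ := by
    calc (M.e ![c, d])⁻¹ * M.e ![a, b] = (M.e ![c, d])⁻¹ * (M.e ![a, b] * f) * f⁻¹ := by group
      _ = f' * f⁻¹ := by rw [h]; group
  have h2 : (M.e ![c, d])⁻¹ * M.e ![a, b] = 1 :=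
    hA.V_F0 (mul_mem (inv_mem (M.e_mem _)) (M.e_mem _)) (by rw [h1]; exact mul_mem hf' (inv_mem hf))
  have h3 : M.e ![a, b] = M.e ![c, d] := (inv_mul_eq_one.1 h2).symm
  obtain ⟨h4, h5⟩ := e2_inj h3
  refine ⟨h4, h5, ?_⟩
  rw [h3] at h
  exact mul_left_cancel h

theorem Act.mul {g₁ g₂ : G} {h₁ h₂ : F → F} {D₁ D₂ : F → G} {γ₁ γ₂ : G → F}
    (a₁ : Act M (F0 V (Kx M) w) g₁ h₁ D₁ γ₁) (a₂ : Act M (F0 V (Kx M) w) g₂ h₂ D₂ γ₂) :
    Act M (F0 V (Kx M) w) (g₁ * g₂) (fun l => h₁ l + h₂ l + γ₁ (D₂ l)) (fun l => D₁ l * D₂ l)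
      (fun c => γ₁ c + γ₂ c) where
  e := by
    intro r l
    have h0 : g₁ * (M.e ![r + h₂ l, l] * D₂ l) * g₁⁻¹ = (g₁ * M.e ![r + h₂ l, l] * g₁⁻¹) * (g₁ * D₂ l * g₁⁻¹) := by
      group
    calc g₁ * g₂ * M.e ![r, l] * (g₁ * g₂)⁻¹ = g₁ * (g₂ * M.e ![r, l] * g₂⁻¹) * g₁⁻¹ := by group
      _ = (M.e ![r + h₂ l + h₁ l, l] * D₁ l) * (D₂ l * M.e ![γ₁ (D₂ l), 0]) := by
        rw [a₂.e, h0, a₁.e, a₁.c _ (a₂.D_mem l)]
      _ = M.e ![r + h₂ l + h₁ l, l] * (D₁ l * D₂ l * M.e ![γ₁ (D₂ l), 0]) := by group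
      _ = M.e ![r + h₂ l + h₁ l, l] * M.e ![γ₁ (D₂ l), 0] * (D₁ l * D₂ l) := by
        rw [F0_comm hA (mul_mem (a₁.D_mem l) (a₂.D_mem l)) (M.e_mem _)]; group
      _ = _ := by
        rw [e2_mul]
        congr 3
        · ring_nf
        · ring_nf
  c := by
    intro c hc
    have h0 : g₁ * (c * M.e ![γ₂ c, 0]) * g₁⁻¹ = (g₁ * c * g₁⁻¹) * (g₁ * M.e ![γ₂ c, 0] * g₁⁻¹) := by group
    have h00 : h₁ 0 = 0 ∧ D₁ 0 = 1 := by
      have h1 := a₁.e 0 0
      rw [e2_zero, mul_one, mul_inv_cancel] at h1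
      have h2 : M.e ![(0 : F), 0] * 1 = M.e ![0 + h₁ 0, 0] * D₁ 0 := by rw [e2_zero, one_mul]; exact h1
      obtain ⟨h3, -, h4⟩ := eu hA (one_mem _) (a₁.D_mem 0) h2
      exact ⟨by rw [zero_add] at h3; exact h3.symm, h4.symm⟩
    calc g₁ * g₂ * c * (g₁ * g₂)⁻¹ = g₁ * (g₂ * c * g₂⁻¹) * g₁⁻¹ := by group
      _ = (c * M.e ![γ₁ c, 0]) * (M.e ![γ₂ c, 0]) := by
        rw [a₂.c c hc, h0, a₁.c c hc, a₁.e, h00.1, h00.2, mul_one, add_zero]
      _ = c * (M.e ![γ₁ c, 0] * M.e ![γ₂ c, 0]) := by group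
      _ = _ := by rw [e2_mul, add_zero]
  D_mem := fun l => mul_mem (a₁.D_mem l) (a₂.D_mem l)

variable {g : G} {h : F → F} {D : F → G} {γ : G → F} (a : Act M (F0 V (Kx M) w) g h D γ)
include a

theorem Act.zero : h 0 = 0 ∧ D 0 = 1 := by
  have h1 := a.e 0 0
  rw [e2_zero, mul_one, mul_inv_cancel] at h1
  have h2 : M.e ![(0 : F), 0] * 1 = M.e ![0 + h 0, 0] * D 0 := by rw [e2_zero, one_mul]; exact h1
  obtain ⟨h3, -, h4⟩ := eu hA (one_mem _) (a.D_mem 0) h2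
  exact ⟨by rw [zero_add] at h3; exact h3.symm, h4.symm⟩

theorem Act.add (l l' : F) : h (l + l') = h l + h l' ∧ D (l + l') = D l * D l' := by
  have h1 := a.e 0 (l + l')
  have h2 : M.e ![(0 : F), l + l'] = M.e ![(0 : F), l] * M.e ![(0 : F), l'] := by
    rw [e2_mul, add_zero]
  have h3 : g * (M.e ![(0 : F), l] * M.e ![(0 : F), l']) * g⁻¹ =
      (g * M.e ![(0 : F), l] * g⁻¹) * (g * M.e ![(0 : F), l'] * g⁻¹) := by group
  rw [h2, h3, a.e, a.e] at h1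
  have h4 : M.e ![0 + h l, l] * D l * (M.e ![0 + h l', l'] * D l') = M.e ![h l + h l', l + l'] * (D l * D l') := by
    calc M.e ![0 + h l, l] * D l * (M.e ![0 + h l', l'] * D l')
        = M.e ![0 + h l, l] * (D l * M.e ![0 + h l', l']) * D l' := by group
      _ = (M.e ![0 + h l, l] * M.e ![0 + h l', l']) * (D l * D l') := by
        rw [F0_comm hA (a.D_mem l) (M.e_mem _)]; group
      _ = _ := by rw [e2_mul, zero_add, zero_add]
  rw [h4] at h1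
  obtain ⟨h5, -, h6⟩ := eu hA (mul_mem (a.D_mem l) (a.D_mem l')) (a.D_mem _) h1
  exact ⟨by rw [h5, zero_add], h6.symm⟩

theorem Act.g_add {c c' : G} (hc : c ∈ F0 V (Kx M) w) (hc' : c' ∈ F0 V (Kx M) w) : γ (c * c') = γ c + γ c' := by
  have h1 := a.c _ (mul_mem hc hc')
  have h2 : g * (c * c') * g⁻¹ = (g * c * g⁻¹) * (g * c' * g⁻¹) := by group
  rw [h2, a.c c hc, a.c c' hc'] at h1
  have h3 : c * M.e ![γ c, 0] * (c' * M.e ![γ c', 0]) = M.e ![γ c + γ c', 0] * (c * c') := by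
    calc c * M.e ![γ c, 0] * (c' * M.e ![γ c', 0]) = c * (M.e ![γ c, 0] * c') * M.e ![γ c', 0] := by group
      _ = (c * c') * (M.e ![γ c, 0] * M.e ![γ c', 0]) := by rw [← F0_comm hA hc' (M.e_mem _)]; group
      _ = _ := by rw [e2_mul, add_zero, F0_comm hA (mul_mem hc hc') (M.e_mem _)]
  rw [h3, F0_comm hA (mul_mem hc hc') (M.e_mem _)] at h1
  obtain ⟨h5, -, -⟩ := eu hA (mul_mem hc hc') (mul_mem hc hc') h1
  exact h5.symm

/-- conjugation by a torus element -/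
theorem Act.dil {x : G} {t : F} {ht : t ≠ 0} (hx : x ∈ XK (Kx M)) (hxI : M.Ind x (dg t ht)) :
    Act M (F0 V (Kx M) w) (x * g * x⁻¹) (fun l => t * h (t * l)) (fun l => D (t * l)) (fun c => t * γ c) := by
  have hf : ∀ f ∈ F0 V (Kx M) w, x * f * x⁻¹ = f := by
    intro f hf
    rw [mem_centralizer_iff.1 (mem_inf.1 hf).2 x hx, mul_inv_cancel_right]
  have hf' : ∀ f ∈ F0 V (Kx M) w, x⁻¹ * f * x = f := by
    intro f hf1
    calc x⁻¹ * f * x = x⁻¹ * (x * f * x⁻¹) * x := by rw [hf f hf1]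
      _ = f := by group
  have hi : ∀ r l : F, x⁻¹ * M.e ![r, l] * x = M.e ![t⁻¹ * r, t * l] := by
    intro r l
    have h1 := ind2 hxI (t⁻¹ * r) (t * l)
    rw [dg_00, dg_01, dg_10, dg_11, zero_mul, zero_mul, add_zero, zero_add, mul_inv_cancel_left₀ ht,
      inv_mul_cancel_left₀ ht] at h1
    rw [← h1]; group
  have hd : ∀ r l : F, x * M.e ![r, l] * x⁻¹ = M.e ![t * r, t⁻¹ * l] := by
    intro r l
    have h1 := ind2 hxI r l
    rw [dg_00, dg_01, dg_10, dg_11, zero_mul, zero_mul, add_zero, zero_add] at h1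
    exact h1
  refine ⟨fun r l => ?_, fun c hc => ?_, fun l => a.D_mem _⟩
  · calc x * g * x⁻¹ * M.e ![r, l] * (x * g * x⁻¹)⁻¹ = x * (g * (x⁻¹ * M.e ![r, l] * x) * g⁻¹) * x⁻¹ := by group
      _ = x * (M.e ![t⁻¹ * r + h (t * l), t * l] * D (t * l)) * x⁻¹ := by rw [hi, a.e]
      _ = (x * M.e ![t⁻¹ * r + h (t * l), t * l] * x⁻¹) * (x * D (t * l) * x⁻¹) := by group
      _ = M.e ![r + t * h (t * l), l] * D (t * l) := by
        rw [hd, hf _ (a.D_mem _), mul_add, mul_inv_cancel_left₀ ht, inv_mul_cancel_left₀ ht]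
  · calc x * g * x⁻¹ * c * (x * g * x⁻¹)⁻¹ = x * (g * (x⁻¹ * c * x) * g⁻¹) * x⁻¹ := by group
      _ = (x * c * x⁻¹) * (x * M.e ![γ c, 0] * x⁻¹) := by rw [hf' c hc, a.c c hc]; group
      _ = c * M.e ![t * γ c, 0] := by rw [hd, hf c hc, mul_zero]

end act

variable [Finite G] [Finite F] [CharP F 2] {Th : Subgroup G} {w : G}

omit [Finite G] [Finite F] [CharP F 2] in
theorem exists_up' (al : AtLine M ![1, 0]) {x : G} (hx : x ∈ QQ (M.line ![1, 0])) : ∃ β : F, M.Ind x (up β) :=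
  exists_up (al.QU hx)

/-- **(a) in coordinates** -/
theorem Act.lin (al : AtLine M ![1, 0]) (hA : FA V N (pt M) (Kx M) (i₀ M) Th w)
    {g : G} {h : F → F} {D : F → G} {γ : G → F}
    (a : Act M (F0 V (Kx M) w) g h D γ) (hg : g ∈ AA V (pt M (i₀ M)) (Kx M (i₀ M)) w) (hD : ∀ l, D l = 1) :
    (∃ β, ∀ l, h l = β * l) ∧ ∀ c ∈ F0 V (Kx M) w, γ c = 0 := by
  have hgV : g ∈ normalizer (V : Set G) := by
    refine mem_normalizer_of_conj fun v hv => ?_
    obtain ⟨r, l, rfl⟩ := exists_e2 (M := M) hv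
    rw [a.e, hD, mul_one]
    exact M.e_mem _
  obtain ⟨u, hu, hug⟩ := hA.A_NV hg hgV
  obtain ⟨β, hβ⟩ := exists_up' al (al.KQ hu)
  have hu2 : ∀ r l : F, u * M.e ![r, l] * u⁻¹ = M.e ![r + β * l, l] := by
    intro r l
    have h1 := ind2 hβ r l
    rw [up_00, up_01, up_10, up_11, one_mul, zero_mul, zero_add, one_mul] at h1
    exact h1
  refine ⟨⟨-β, fun l => ?_⟩, fun c hc => ?_⟩
  · have h1 := mem_centralizer_iff.1 hug _ (V_le_P V w (M.e_mem ![0, l]))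
    have h2 : M.e ![0 + h l + β * l, l] = M.e ![0, l] := by
      calc M.e ![0 + h l + β * l, l] = u * (g * M.e ![0, l] * g⁻¹) * u⁻¹ := by rw [a.e, hD, mul_one, hu2]
        _ = (u * g * M.e ![0, l]) * (u * g)⁻¹ := by group
        _ = M.e ![0, l] := by rw [← h1]; group
    have h3 := (e2_inj h2).1
    linear_combination h3
  · have h1 := mem_centralizer_iff.1 hug _ (F0_le V (Kx M) w hc)
    have huc : u * c = c * u := mem_centralizer_iff.1 (mem_inf.1 hc).2 u (K_le_X (Kx M) (i₀ M) hu)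
    have h2 : c * M.e ![γ c, 0] = c := by
      calc c * M.e ![γ c, 0] = c * (u * M.e ![γ c, 0] * u⁻¹) := by rw [hu2, mul_zero, add_zero]
        _ = (c * u) * M.e ![γ c, 0] * u⁻¹ := by group
        _ = u * (c * M.e ![γ c, 0]) * u⁻¹ := by rw [← huc]; group
        _ = u * (g * c * g⁻¹) * u⁻¹ := by rw [a.c c hc]
        _ = (u * g * c) * (u * g)⁻¹ := by group
        _ = c := by rw [← h1]; group
    have h3 : M.e ![γ c, 0] = M.e ![0, 0] := by
      rw [e2_zero]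
      exact mul_left_cancel (h2.trans (mul_one c).symm)
    exact (e2_inj h3).1

/-- the elements of the stability group in coordinates -/
theorem exists_act (hA : FA V N (pt M) (Kx M) (i₀ M) Th w) {g : G}
    (hg : g ∈ AA V (pt M (i₀ M)) (Kx M (i₀ M)) w) :
    ∃ (h : F → F) (D : F → G) (γ : G → F), Act M (F0 V (Kx M) w) g h D γ := by
  have hline : ∀ r : F, M.e ![r, 0] ∈ pt M (i₀ M) := fun r => line10_iff.2 ⟨r, rfl⟩
  have h1 : ∀ l : F, ∃ r : F, ∃ f ∈ F0 V (Kx M) w, g * M.e ![0, l] * g⁻¹ = M.e ![r, l] * f := by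
    intro l
    have h2 := hg.1.1.2 _ (V_le_P V w (M.e_mem ![0, l]))
    obtain ⟨ρ, hρ, f, hf, e⟩ := hA.dec_C h2
    obtain ⟨r, rfl⟩ := line10_iff.1 hρ
    refine ⟨r, f, hf, ?_⟩
    calc g * M.e ![0, l] * g⁻¹ = (g * M.e ![0, l] * g⁻¹ * (M.e ![0, l])⁻¹) * M.e ![0, l] := by group
      _ = M.e ![r, 0] * (f * M.e ![0, l]) := by rw [e]; group
      _ = (M.e ![r, 0] * M.e ![0, l]) * f := by rw [F0_comm hA hf (M.e_mem _)]; group
      _ = M.e ![r, l] * f := by rw [e2_mul, add_zero, zero_add]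
  choose h D hD e using h1
  have h2 : ∀ c ∈ F0 V (Kx M) w, ∃ r : F, g * c * g⁻¹ = c * M.e ![r, 0] := by
    intro c hc
    have h3 := hg.1.2.2 c (hA.F0_le_C hc)
    obtain ⟨r, hr⟩ := line10_iff.1 h3
    refine ⟨r, ?_⟩
    calc g * c * g⁻¹ = (g * c * g⁻¹ * c⁻¹) * c := by group
      _ = M.e ![r, 0] * c := by rw [hr]
      _ = c * M.e ![r, 0] := (F0_comm hA hc (M.e_mem _)).symm
  classical
  refine ⟨h, D, fun c => if hc : c ∈ F0 V (Kx M) w then (h2 c hc).choose else 0, fun r l => ?_, fun c hc => ?_, hD⟩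
  · have h3 : g * M.e ![r, 0] * g⁻¹ = M.e ![r, 0] := by
      rw [← mem_centralizer_iff.1 hg.2 _ (hline r), mul_inv_cancel_right]
    have h4 : M.e ![r, l] = M.e ![r, 0] * M.e ![0, l] := by rw [e2_mul, add_zero, zero_add]
    calc g * M.e ![r, l] * g⁻¹ = (g * M.e ![r, 0] * g⁻¹) * (g * M.e ![0, l] * g⁻¹) := by rw [h4]; group
      _ = (M.e ![r, 0] * M.e ![h l, l]) * D l := by rw [h3, e]; group
      _ = _ := by rw [e2_mul, zero_add]
  · rw [dif_pos hc]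
    exact (h2 c hc).choose_spec

/-- `h` is linear -/
theorem h_lin (al : AtLine M ![1, 0]) (hA : FA V N (pt M) (Kx M) (i₀ M) Th w)
    {g : G} {h : F → F} {D : F → G} {γ : G → F}
    (a : Act M (F0 V (Kx M) w) g h D γ) (hg : g ∈ AA V (pt M (i₀ M)) (Kx M (i₀ M)) w) :
    (∃ μ, ∀ l, γ (D l) = μ * l) ∧ ∀ l, h l = h 1 * l := by
  have h20 : (2 : F) = 0 := CharTwo.two_eq_zero
  -- `g²`
  obtain ⟨⟨μ, hμ⟩, -⟩ := (Act.mul hA a a).lin al hA (mul_mem hg hg) fun l => F0_sq hA (a.D_mem l)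
  have hμ' : ∀ l, γ (D l) = μ * l := fun l => by
    have := hμ l
    linear_combination this - h l * h20
  refine ⟨⟨μ, hμ'⟩, ?_⟩
  have key : ∀ t : F, ∃ c, ∀ l, h (t * l) = t * h l + c * l := by
    intro t
    by_cases ht0 : t = 0
    · exact ⟨0, fun l => by simp [ht0, (Act.zero hA a).1]⟩
    by_cases ht1 : 1 + t = 0
    · have ht : t = 1 := by linear_combination ht1 - h20
      exact ⟨0, fun l => by rw [ht, one_mul, one_mul, zero_mul, add_zero]⟩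
    obtain ⟨x, hx, hxI⟩ := al.ind_X (dg t ht0)
    obtain ⟨y, hy, hyI⟩ := al.ind_X (dg (1 + t) ht1)
    have ax := Act.dil hA a hx hxI
    have ay := Act.dil hA a hy hyI
    have hN : ∀ {x : G} {t : F} {ht : t ≠ 0}, x ∈ XK (Kx M) → M.Ind x (dg t ht) →
        x * g * x⁻¹ ∈ AA V (pt M (i₀ M)) (Kx M (i₀ M)) w := by
      intro x t ht hx hxI
      refine hA.norm_A (hA.bP hx) ?_ hg
      show x ∈ normalizer (M.line ![1, 0] : Set G)
      rw [← cj_eq_self_iff]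
      have e1 : ap (dg t ht) ![1, 0] = t • ![1, 0] := by
        apply ext2
        · rw [ap_zero']; simp
        · rw [ap_one']; simp
      have e2 := M.cj_line_of_ind hxI ![1, 0]
      rw [e1, M.line_smul ht] at e2
      exact e2
    have am := Act.mul hA ax (Act.mul hA a ay)
    have hDD : ∀ l, D ((1 + t) * l) = D l * D (t * l) := fun l => by
      rw [add_mul, one_mul, (Act.add hA a _ _).2]
    obtain ⟨⟨β, hβ⟩, -⟩ := am.lin al hA (mul_mem (hN hx hxI) (mul_mem hg (hN hy hyI))) fun l => by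
      show D (t * l) * (D l * D ((1 + t) * l)) = 1
      rw [hDD]
      have c1 := F0_comm' hA (a.D_mem (t * l)) (mul_mem (a.D_mem l) (a.D_mem l))
      calc D (t * l) * (D l * (D l * D (t * l))) = D (t * l) * (D l * D l) * D (t * l) := by group
        _ = (D l * D l) * (D (t * l) * D (t * l)) := by rw [c1]; group
        _ = 1 := by rw [F0_sq hA (a.D_mem l), F0_sq hA (a.D_mem _), one_mul]
    refine ⟨β + μ * (1 + t + t * t), fun l => ?_⟩
    have h1 := hβ l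
    have h2 : h ((1 + t) * l) = h l + h (t * l) := by rw [add_mul, one_mul, (Act.add hA a _ _).1]
    have h3 : γ (D l * D ((1 + t) * l)) = γ (D l) + γ (D ((1 + t) * l)) :=
      Act.g_add hA a (a.D_mem _) (a.D_mem _)
    simp only [h2, h3, hμ'] at h1
    linear_combination h1 - (t * h l + t * h (t * l) + h l + μ * l * (1 + 2 * t + t * t)) * h20
  -- `h (t² l) = t² h l`
  intro l
  obtain ⟨t, ht⟩ : ∃ t : F, l = t * t := FiniteField.isSquare_of_char_two (ringChar.eq F 2) _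
  obtain ⟨c, hc⟩ := key t
  have h1 := hc (t * 1)
  have h2 := hc 1
  have e : l = t * (t * 1) := by rw [ht, mul_one]
  rw [e, h1, h2]
  linear_combination (c * t) * h20

/-- **`h = 0`** -/
theorem exists_h0 (al : AtLine M ![1, 0]) (hA : FA V N (pt M) (Kx M) (i₀ M) Th w)
    {δ : G} (hδ : δ ∈ AA V (pt M (i₀ M)) (Kx M (i₀ M)) w)
    (hon : ∀ f ∈ F0 V (Kx M) w, ∃ u ∈ V, ∃ v ∈ V, f = v * (δ * u * δ⁻¹)) :
    ∃ (δ' : G) (D : F → G) (γ : G → F), Act M (F0 V (Kx M) w) δ' (fun _ => 0) D γ ∧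
      (∃ μ, ∀ l, γ (D l) = μ * l) ∧ ∀ f ∈ F0 V (Kx M) w, ∃ l, D l = f := by
  have h20 : (2 : F) = 0 := CharTwo.two_eq_zero
  obtain ⟨h, D, γ, a⟩ := exists_act hA hδ
  obtain ⟨⟨μ, hμ⟩, hh⟩ := h_lin al hA a hδ
  obtain ⟨t, ht, htI⟩ := al.full (up (h 1)) (ap_up_e _)
  have hta : Act M (F0 V (Kx M) w) t (fun l => h 1 * l) (fun _ => 1) (fun _ => 0) := by
    refine ⟨fun r l => ?_, fun c hc => ?_, fun l => one_mem _⟩
    · have h1 := ind2 htI r l
      rw [up_00, up_01, up_10, up_11, one_mul, zero_mul, zero_add, one_mul] at h1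
      rw [h1, mul_one]
    · have h1 : t * c = c * t := mem_centralizer_iff.1 (mem_inf.1 hc).2 t (K_le_X (Kx M) (i₀ M) ht)
      rw [h1, mul_inv_cancel_right, e2_zero, mul_one]
  have am := Act.mul hA hta a
  refine ⟨t * δ, D, γ, ?_, ⟨μ, hμ⟩, fun f hf => ?_⟩
  · refine ⟨fun r l => ?_, fun c hc => ?_, a.D_mem⟩
    · have h1 := am.e r l
      rw [one_mul] at h1
      rw [h1]
      congr 3
      rw [hh l]
      linear_combination h 1 * l * h20
    · have h1 := am.c c hc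
      simp only [zero_add] at h1
      exact h1
  · obtain ⟨u, hu, v, hv, e⟩ := hon f hf
    obtain ⟨r, l, rfl⟩ := exists_e2 (M := M) hu
    obtain ⟨r', l', rfl⟩ := exists_e2 (M := M) hv
    refine ⟨l, ?_⟩
    rw [a.e] at e
    have h1 : M.e ![(0 : F), 0] * f = M.e ![r' + (r + h l), l' + l] * D l := by
      rw [e2_zero, one_mul, e, ← mul_assoc, e2_mul]
    exact (eu hA hf (a.D_mem l) h1).2.2.symm

/-- **`γ = 0`** -/
theorem gamma_zero (al : AtLine M ![1, 0]) (hA : FA V N (pt M) (Kx M) (i₀ M) Th w)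
    {δ : G} {D : F → G} {γ : G → F} (a : Act M (F0 V (Kx M) w) δ (fun _ => 0) D γ)
    (hμ : ∃ μ, ∀ l, γ (D l) = μ * l) (hon : ∀ f ∈ F0 V (Kx M) w, ∃ l, D l = f) :
    ∀ c ∈ F0 V (Kx M) w, γ c = 0 := by
  obtain ⟨μ, hμ⟩ := hμ
  have h20 : (2 : F) = 0 := CharTwo.two_eq_zero
  by_cases hμ0 : μ = 0
  · intro c hc
    obtain ⟨l, rfl⟩ := hon c hc
    rw [hμ, hμ0, zero_mul]
  intro c hc
  have al1 := al.all vec10_ne (vec01_ne (F := F))
  obtain ⟨k, hk, hkI⟩ := al1.full (lo 1) (by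
    apply ext2
    · rw [ap_zero']; simp
    · rw [ap_one']; simp)
  let i₁ : Pt M := ⟨M.line ![0, 1], ![0, 1], vec01_ne, rfl⟩
  have hKX : KX (M.line ![0, 1]) ≤ XK (Kx M) := K_le_X (Kx M) i₁
  have hk2 : ∀ r l : F, k * M.e ![r, l] * k⁻¹ = M.e ![r, r + l] := by
    intro r l
    have h1 := ind2 hkI r l
    rw [lo_00, lo_01, lo_10, lo_11, one_mul, zero_mul, add_zero, one_mul] at h1
    rw [h1]
  have hkf : ∀ f ∈ F0 V (Kx M) w, k * f * k⁻¹ = f := by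
    intro f hf
    rw [mem_centralizer_iff.1 (mem_inf.1 hf).2 k (hKX hk), mul_inv_cancel_right]
  -- `k` centralises `L^δ`
  have hkN : k ∈ normalizer (cj δ (KX (M.line ![0, 1])) : Set G) := by
    rw [cj_KX]
    apply normalizer_le_normalizer_KX
    apply centralizer_le_normalizer
    rw [mem_centralizer_iff]
    intro y hy
    obtain ⟨l, hl⟩ := line01_iff.1 (mem_cj.1 hy)
    have h1 : y = M.e ![0, l] * D l := by
      have h2 := a.e 0 l
      rw [add_zero] at h2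
      rw [← h2, hl]; group
    have h3 : k * y * k⁻¹ = y := by
      calc k * y * k⁻¹ = (k * M.e ![0, l] * k⁻¹) * (k * D l * k⁻¹) := by rw [h1]; group
        _ = y := by rw [hk2, hkf _ (a.D_mem l), zero_add, h1]
    rw [mul_inv_eq_iff_eq_mul] at h3
    exact h3.symm
  -- `c' = δ c δ⁻¹`
  have hc' : δ * c * δ⁻¹ ∈ centralizer (cj δ (KX (M.line ![0, 1])) : Set G) := by
    rw [centralizer_cj, mem_cj]
    have e : δ⁻¹ * (δ * c * δ⁻¹) * δ = c := by group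
    rw [e]
    exact centralizer_le hKX (mem_inf.1 hc).2
  have hz : M.e ![0, γ c] ∈ centralizer (cj δ (KX (M.line ![0, 1])) : Set G) := by
    have h1 := mul_mem (conj_mem_of_normalizer (normalizer_le_normalizer_centralizer _ hkN) hc') (inv_mem hc')
    have h2 : k * (δ * c * δ⁻¹) * k⁻¹ * (δ * c * δ⁻¹)⁻¹ = M.e ![0, γ c] := by
      rw [a.c c hc]
      calc k * (c * M.e ![γ c, 0]) * k⁻¹ * (c * M.e ![γ c, 0])⁻¹
          = (k * c * k⁻¹) * (k * M.e ![γ c, 0] * k⁻¹) * (M.e ![γ c, 0])⁻¹ * c⁻¹ := by group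
        _ = c * (M.e ![γ c, γ c] * (M.e ![γ c, 0])⁻¹) * c⁻¹ := by rw [hkf c hc, hk2, add_zero]; group
        _ = c * M.e ![0, γ c] * c⁻¹ := by
          have h3 : M.e ![γ c, γ c] * (M.e ![γ c, 0])⁻¹ = M.e ![0, γ c] := by
            rw [mul_inv_eq_iff_eq_mul, e2_mul, zero_add, add_zero]
          rw [h3]
        _ = M.e ![0, γ c] := by rw [F0_comm hA hc (M.e_mem _), mul_inv_cancel_right]
    rwa [h2] at h1
  rw [centralizer_cj, mem_cj] at hz
  -- `δ⁻¹ (0, l) δ = (μ l, l) D(l)`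
  set l := γ c with hl
  have hD2 := F0_sq hA (a.D_mem l)
  have h1 : δ⁻¹ * M.e ![0, l] * δ = M.e ![μ * l, l] * D l := by
    have h2 : δ * (M.e ![μ * l, l] * D l) * δ⁻¹ = M.e ![0, l] := by
      calc δ * (M.e ![μ * l, l] * D l) * δ⁻¹ = (δ * M.e ![μ * l, l] * δ⁻¹) * (δ * D l * δ⁻¹) := by group
        _ = (M.e ![μ * l, l] * D l) * (D l * M.e ![μ * l, 0]) := by
          rw [a.e, a.c _ (a.D_mem l), hμ, add_zero]
        _ = M.e ![μ * l, l] * (D l * D l) * M.e ![μ * l, 0] := by group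
        _ = M.e ![μ * l + μ * l, l + 0] := by rw [hD2, mul_one, e2_mul]
        _ = M.e ![0, l] := by
          have h3 : μ * l + μ * l = 0 := by linear_combination (μ * l) * h20
          rw [h3, add_zero]
    rw [← h2]; group
  rw [h1] at hz
  have h2 := mem_centralizer_iff.1 hz k hk
  have h3 : k * (M.e ![μ * l, l] * D l) * k⁻¹ = M.e ![μ * l, l] * D l := by rw [h2, mul_inv_cancel_right]
  have h4 : M.e ![μ * l, μ * l + l] * D l = M.e ![μ * l, l] * D l := by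
    calc M.e ![μ * l, μ * l + l] * D l = (k * M.e ![μ * l, l] * k⁻¹) * (k * D l * k⁻¹) := by
          rw [hk2, hkf _ (a.D_mem l)]
      _ = k * (M.e ![μ * l, l] * D l) * k⁻¹ := by group
      _ = _ := h3
  have h5 := (eu hA (a.D_mem l) (a.D_mem l) h4).2.1
  have h6 : μ * l = 0 := by linear_combination h5
  exact (mul_eq_zero.1 h6).resolve_left hμ0

/-- **some element of `NF` moves `R i`** -/
theorem exists_N (al : AtLine M ![1, 0]) (hA : FA V N (pt M) (Kx M) (i₀ M) Th w) (h4 : 4 ≤ Nat.card F) :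
    ∃ n ∈ NF V (Kx M) w, n ∉ normalizer (pt M (i₀ M) : Set G) := by
  obtain ⟨δ₀, hδ₀, hon₀⟩ := hA.exists_delta al.fq (al.h4 h4)
  obtain ⟨δ, D, γ, a, hμ, hon⟩ := exists_h0 al hA hδ₀ hon₀
  have hγ := gamma_zero al hA a hμ hon
  -- `F0 ≠ 1`
  obtain ⟨f, hf, hf1⟩ : ∃ f ∈ F0 V (Kx M) w, f ≠ 1 := by
    by_contra hcon
    push Not at hcon
    apply hA.wV
    refine eq_of_le_of_card_ge ?_ (by rw [card_cj])
    intro v hv
    obtain ⟨v', hv', f, hf, e⟩ := hA.dec (V'_le_P V w hv)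
    rw [hcon f hf, mul_one] at e
    rw [e]; exact hv'
  obtain ⟨l, rfl⟩ := hon f hf
  obtain ⟨A, hAe⟩ := exists_ap (vec01_ne (F := F)) vec10_ne
  obtain ⟨x, hx, hxI⟩ := al.ind_X A
  have hxe : ∀ c : F, x * M.e ![0, c] * x⁻¹ = M.e ![c, 0] := by
    intro c
    have e1 : (![0, c] : Fin 2 → F) = c • ![0, 1] := by
      apply ext2 <;> simp
    have e2 : (![c, 0] : Fin 2 → F) = c • ![1, 0] := by
      apply ext2 <;> simp
    rw [e1, e2, hxI, ap_smul, hAe]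
  have hxf : ∀ f ∈ F0 V (Kx M) w, x * f * x⁻¹ = f := by
    intro f hf
    rw [mem_centralizer_iff.1 (mem_inf.1 hf).2 x hx, mul_inv_cancel_right]
  have hxf' : ∀ f ∈ F0 V (Kx M) w, x⁻¹ * f * x = f := by
    intro f hf1
    calc x⁻¹ * f * x = x⁻¹ * (x * f * x⁻¹) * x := by rw [hxf f hf1]
      _ = f := by group
  have hδc : ∀ f ∈ F0 V (Kx M) w, δ * f * δ⁻¹ = f := by
    intro f hf
    rw [a.c f hf, hγ f hf, e2_zero, mul_one]
  have hnc : ∀ f ∈ F0 V (Kx M) w, (x * δ * x⁻¹) * f * (x * δ * x⁻¹)⁻¹ = f := by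
    intro f hf
    calc (x * δ * x⁻¹) * f * (x * δ * x⁻¹)⁻¹ = x * (δ * (x⁻¹ * f * x) * δ⁻¹) * x⁻¹ := by group
      _ = f := by rw [hxf' f hf, hδc f hf, hxf f hf]
  have hcen : x * δ * x⁻¹ ∈ centralizer (F0 V (Kx M) w : Set G) := by
    rw [mem_centralizer_iff]
    intro f hf
    have h1 := hnc f hf
    rw [mul_inv_eq_iff_eq_mul] at h1
    exact h1.symm
  refine ⟨x * δ * x⁻¹, mem_inf.2 ⟨⟨centralizer_le_normalizer _ hcen, fun y hy => ?_⟩, hcen⟩, fun hn => ?_⟩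
  · obtain ⟨v, hv, f, hf, rfl⟩ := hA.dec hy
    rw [comm_mul (by
      have h1 := hnc f hf
      rw [mul_inv_eq_iff_eq_mul] at h1
      exact h1)]
    obtain ⟨r, c, hrc⟩ := exists_e2 (M := M) (conj_inv_mem_of_normalizer (hA.bt.X_le_NV hx) hv)
    have h1 : x * δ * x⁻¹ * v * (x * δ * x⁻¹)⁻¹ * v⁻¹ = D c := by
      calc x * δ * x⁻¹ * v * (x * δ * x⁻¹)⁻¹ * v⁻¹ = x * (δ * (x⁻¹ * v * x) * δ⁻¹) * x⁻¹ * v⁻¹ := by group
        _ = x * (x⁻¹ * v * x * D c) * x⁻¹ * v⁻¹ := by rw [← hrc, a.e, add_zero]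
        _ = v * (x * D c * x⁻¹) * v⁻¹ := by group
        _ = D c := by
          rw [hxf _ (a.D_mem c), ← F0_comm hA (a.D_mem c) hv, mul_inv_cancel_right]
    rw [h1]
    exact a.D_mem c
  · have h1 : M.e ![l, 0] ∈ pt M (i₀ M) := line10_iff.2 ⟨l, rfl⟩
    have h2 := conj_mem_of_normalizer hn h1
    have h3 : x * δ * x⁻¹ * M.e ![l, 0] * (x * δ * x⁻¹)⁻¹ = M.e ![l, 0] * D l := by
      have h4 : x⁻¹ * M.e ![l, 0] * x = M.e ![0, l] := by rw [← hxe]; group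
      calc x * δ * x⁻¹ * M.e ![l, 0] * (x * δ * x⁻¹)⁻¹ = x * (δ * (x⁻¹ * M.e ![l, 0] * x) * δ⁻¹) * x⁻¹ := by group
        _ = (x * M.e ![0, l] * x⁻¹) * (x * D l * x⁻¹) := by rw [h4, a.e, add_zero]; group
        _ = _ := by rw [hxe, hxf _ (a.D_mem l)]
    rw [h3] at h2
    have h4 : D l ∈ V := by
      have h5 := mul_mem (inv_mem (M.e_mem ![l, 0])) (M.pt_le _ h2)
      rwa [inv_mul_cancel_left] at h5
    exact hf1 (hA.V_F0 h4 (a.D_mem l))

end rmod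

end Cfsg.Agent.Omega.IId.CvBig.Four

end

section


/-!
# CvBig, CASE 2a, all `q`, `k ≥ 3`: (SURV) (helper796)

* `FA.exists_fix` : if `NF` moves `R i`, there is a `T`-invariant `R i ^ n ≠ R i`, `n ∈ NF`;
* `exists_sv` : (SURV).
-/

set_option autoImplicit false
set_option linter.unusedSectionVars false

namespace Cfsg.Agent.Omega.IId.CvBig.Four

open Subgroup Cfsg.Agent.Omega.BTwo Cfsg.Agent.Omega.IId.Cv.TwoFour

variable {G : Type*} [Group G]

theorem cj_congr {g g' : G} {H : Subgroup G} (h : ∀ y ∈ H, g * y * g⁻¹ = g' * y * g'⁻¹) : cj g H = cj g' H := by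
  apply le_antisymm
  · rintro _ ⟨y, hy, rfl⟩
    change g * y * g⁻¹ ∈ _
    rw [h y hy]
    exact conj_mem_cj hy
  · rintro _ ⟨y, hy, rfl⟩
    change g' * y * g'⁻¹ ∈ _
    rw [← h y hy]
    exact conj_mem_cj hy

namespace FA

variable {ι : Type*} {V L : Subgroup G} {R K : ι → Subgroup G} {i : ι} {Th : Subgroup G} {w : G}
  (h : FA V L R K i Th w)
include h

omit h in
theorem NF_P : NF V K w ≤ normalizer (PP V w : Set G) := inf_le_left.trans (cenMod_normalizes (F0_le _ _ _))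

omit h in
theorem NF_c {n f : G} (hn : n ∈ NF V K w) (hf : f ∈ F0 V K w) : n * f = f * n :=
  (mem_centralizer_iff.1 hn.2 f hf).symm

omit h in
theorem NF_m {n y : G} (hn : n ∈ NF V K w) (hy : y ∈ PP V w) : n * y * n⁻¹ * y⁻¹ ∈ F0 V K w := hn.1.2 y hy

theorem NF_mul {n n' y : G} (hn : n ∈ NF V K w) (hn' : n' ∈ NF V K w) (hy : y ∈ PP V w) :
    n * n' * y * (n * n')⁻¹ = (n' * y * n'⁻¹ * y⁻¹) * (n * y * n⁻¹ * y⁻¹) * y := by
  have h1 := NF_c hn (NF_m hn' hy)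
  set f := n' * y * n'⁻¹ * y⁻¹ with hf
  calc n * n' * y * (n * n')⁻¹ = (n * f) * y * n⁻¹ := by rw [hf]; group
    _ = f * (n * y * n⁻¹ * y⁻¹) * y := by rw [h1]; group

theorem NF_comm {n n' y : G} (hn : n ∈ NF V K w) (hn' : n' ∈ NF V K w) (hy : y ∈ PP V w) :
    n * n' * y * (n * n')⁻¹ = n' * n * y * (n' * n)⁻¹ := by
  rw [h.NF_mul hn hn' hy, h.NF_mul hn' hn hy,
    h.P_comm _ (F0_le V K w (NF_m hn' hy)) _ (F0_le V K w (NF_m hn hy))]

theorem NF_sq {n y : G} (hn : n ∈ NF V K w) (hy : y ∈ PP V w) : n * n * y * (n * n)⁻¹ = y := by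
  rw [h.NF_mul hn hn hy, h.P_sq _ (F0_le V K w (NF_m hn hy)), one_mul]

theorem T_F0 {t : G} (ht : t ∈ Th) : t ∈ normalizer (F0 V K w : Set G) := by
  rw [← cj_eq_self_iff, F0, cj_inf, ← centralizer_cj, cj_eq_self_iff.2 (h.T_P ht),
    cj_eq_self_iff.2 (h.bt.L_le_NX (h.ThL ht))]

theorem T_NF {t n : G} (ht : t ∈ Th) (hn : n ∈ NF V K w) : t * n * t⁻¹ ∈ NF V K w :=
  mem_inf.2 ⟨conj_cenMod (h.T_F0 ht) (h.T_P ht) hn.1,
    conj_mem_of_normalizer (normalizer_le_normalizer_centralizer _ (h.T_F0 ht)) hn.2⟩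

theorem exists_fix [Finite G] {T : Subgroup G} (hT : T ≤ Th) {n₀ : G} (hn₀ : n₀ ∈ NF V K w)
    (hR : n₀ ∉ normalizer (R i : Set G)) :
    ∃ n ∈ NF V K w, cj n (R i) ≠ R i ∧ T ≤ normalizer (cj n (R i) : Set G) := by
  classical
  have hfact : Fact (Nat.Prime 2) := ⟨Nat.prime_two⟩
  let Ω := {H : Subgroup G // ∃ n ∈ NF V K w, H = cj n (R i)}
  have hTR : ∀ t ∈ T, cj t (R i) = R i := fun t ht => cj_eq_self_iff.2 (h.ThR (hT ht))
  have hact : ∀ t ∈ T, ∀ H : Subgroup G, (∃ n ∈ NF V K w, H = cj n (R i)) → ∃ n ∈ NF V K w, cj t H = cj n (R i) := by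
    rintro t ht _ ⟨n, hn, rfl⟩
    refine ⟨t * n * t⁻¹, h.T_NF (hT ht) hn, ?_⟩
    conv_rhs => rw [← hTR t ht]
    rw [← cj_mul, ← cj_mul, inv_mul_cancel_right]
  letI : MulAction T Ω :=
    { smul := fun t H => ⟨cj (t : G) H.1, hact t t.2 H.1 H.2⟩
      one_smul := fun H => Subtype.ext (cj_one H.1)
      mul_smul := fun s t H => Subtype.ext (cj_mul (s : G) t H.1) }
  have hsm : ∀ (t : T) (H : Ω), (t • H).1 = cj (t : G) H.1 := fun t H => rfl
  have : Fintype Ω := Fintype.ofFinite Ω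
  -- `|Ω|` is even
  have hΩP : ∀ H : Ω, H.1 ≤ PP V w := by
    rintro ⟨H, n, hn, rfl⟩
    show cj n (R i) ≤ PP V w
    rw [← cj_eq_self_iff.2 (NF_P hn)]
    exact cj_mono h.R_le_P
  have heven : 2 ∣ Nat.card Ω := by
    let f : Function.End Ω := fun H => ⟨cj n₀ H.1, by
      obtain ⟨n, hn, e⟩ := H.2
      exact ⟨n₀ * n, mul_mem hn₀ hn, by rw [e, cj_mul]⟩⟩
    have hff : f ^ 2 ^ 1 = 1 := by
      rw [pow_one, pow_two]
      funext H
      refine Subtype.ext ?_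
      show cj n₀ (cj n₀ H.1) = H.1
      rw [← cj_mul, cj_congr (g' := 1) fun y hy => ?_, cj_one]
      rw [h.NF_sq hn₀ (hΩP H hy)]; group
    have h1 := Equiv.Perm.card_fixedPoints_modEq (p := 2) (n := 1) hff
    have h2 : Fintype.card f.fixedPoints = 0 := by
      rw [Fintype.card_eq_zero_iff]
      refine ⟨?_⟩
      rintro ⟨⟨H, n, hn, rfl⟩, hH⟩
      have h3 : cj n₀ (cj n (R i)) = cj n (R i) := congrArg Subtype.val hH
      rw [← cj_mul, cj_congr fun y hy => h.NF_comm hn₀ hn (h.R_le_P hy), cj_mul] at h3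
      exact hR (cj_eq_self_iff.1 (cj_injective h3))
    rw [h2] at h1
    rw [Nat.card_eq_fintype_card]
    exact (Nat.modEq_zero_iff_dvd).1 h1
  have hfix : (⟨R i, 1, one_mem _, (cj_one _).symm⟩ : Ω) ∈ MulAction.fixedPoints T Ω := by
    intro t
    refine Subtype.ext ?_
    rw [hsm]
    exact hTR t t.2
  obtain ⟨⟨H, n, hn, rfl⟩, hH, hne⟩ :=
    (h.Th2.to_le hT).exists_fixed_point_of_prime_dvd_card_of_fixed_point Ω heven hfix
  refine ⟨n, hn, fun e => hne (Subtype.ext e.symm), fun t ht => ?_⟩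
  rw [← cj_eq_self_iff]
  exact congrArg Subtype.val (hH ⟨t, ht⟩)

end FA

variable {κ : Type*} {ι : κ → Type*}

/-- **(SURV)** -/
theorem exists_sv [Finite G] {Vf Lf : κ → Subgroup G} {R K : ∀ l, ι l → Subgroup G} {Q : Subgroup G} {o : ∀ l, ι l}
    {T Th : Subgroup G} {i : κ} {w : G} (h : Fr Vf Lf R K Q) (hA : FA (Vf i) (Lf i) (R i) (K i) (o i) Th w)
    (hT : T ≤ Th) (hW : cj w (Vf i) ≤ Wh Vf K Q)
    (hK : ∀ n, T ≤ normalizer (cj n (R i (o i)) : Set G) → T ≤ normalizer (cj n (K i (o i)) : Set G))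
    {n₀ : G} (hn₀ : n₀ ∈ NF (Vf i) (K i) w) (hR : n₀ ∉ normalizer (R i (o i) : Set G)) :
    ∃ Rc Kc, Sv R K Q o T i Rc Kc := by
  obtain ⟨n, hn, hne, hTn⟩ := hA.exists_fix hT hn₀ hR
  have k := h.kt i
  have hPW : PP (Vf i) w ≤ Wh Vf K Q := sup_le (Vf_le_Wh Vf K Q i) hW
  have hRP := hA.R_le_P
  have hnP : n ∈ normalizer (PP (Vf i) w : Set G) := FA.NF_P hn
  have hcP : cj n (R i (o i)) ≤ PP (Vf i) w := by
    rw [← cj_eq_self_iff.2 hnP]
    exact cj_mono hRP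
  -- `c = r θ(r)`
  have hdec : ∀ c ∈ cj n (R i (o i)), ∃ r ∈ R i (o i), r⁻¹ * c ∈ F0 (Vf i) (K i) w := by
    intro c hc
    have hr := mem_cj.1 hc
    refine ⟨n⁻¹ * c * n, hr, ?_⟩
    have h1 := FA.NF_m hn (hRP hr)
    have h2 := hA.P_comm _ (hcP hc) _ (inv_mem (hRP hr))
    have e : n * (n⁻¹ * c * n) * n⁻¹ * (n⁻¹ * c * n)⁻¹ = (n⁻¹ * c * n)⁻¹ * c := by
      rw [← h2]; group
    rwa [e] at h1
  -- `K i` centralises `CP`
  have hKC : ∀ u ∈ K i (o i), ∀ r ∈ R i (o i), u * (n⁻¹ * r * n) = n⁻¹ * r * n * u := by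
    intro u hu r hr
    have h1 := FA.NF_m (inv_mem hn) (hRP hr)
    rw [inv_inv] at h1
    have h2 : u * (n⁻¹ * r * n * r⁻¹) = n⁻¹ * r * n * r⁻¹ * u :=
      mem_centralizer_iff.1 (mem_inf.1 h1).2 u (K_le_X (K i) (o i) hu)
    have h3 := k.QR (o i) u (k.K_Q (o i) hu) r hr
    calc u * (n⁻¹ * r * n) = (u * (n⁻¹ * r * n * r⁻¹)) * r := by group
      _ = n⁻¹ * r * n * r⁻¹ * (u * r) := by rw [h2]; group
      _ = n⁻¹ * r * n * u := by rw [h3]; group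
  refine ⟨cj n (R i (o i)), cj n (K i (o i)), ?_⟩
  refine
    { RcU := fun c hc => ?_
      RcQ := hcP.trans (hPW.trans h.Wh_le_cen)
      Rcd := fun c hc => ?_
      RcX := fun c hc hX => ?_
      card := card_cj _ _
      Kc2 := ?_
      TKc := hK n hTn
      Kcn := fun hle => hne ?_
      Kcc := fun a ha b hb => ?_
      KcR := fun a ha r hr => ?_ }
  · obtain ⟨r, hr, hf⟩ := hdec c hc
    have h1 : r⁻¹ * c ∈ Uc (R i (o i)) :=
      h.mem_Uc_of (h.Wh_le_cen (hPW (F0_le _ _ _ hf))) (mem_inf.1 hf).2 (o i)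
    have e : c = r * (r⁻¹ * c) := by group
    rw [e]
    exact mul_mem (h.R_le_Uc i (o i) hr) h1
  · obtain ⟨r, hr, hf⟩ := hdec c hc
    exact ⟨r, hr, (mem_inf.1 hf).2⟩
  · have hr := mem_cj.1 hc
    obtain ⟨r, hr', hf⟩ := hdec c hc
    have h1 : r ∈ centralizer (XK (K i) : Set G) := by
      have e : r = c * (r⁻¹ * c)⁻¹ := by group
      rw [e]
      exact mul_mem hX (inv_mem (mem_inf.1 hf).2)
    have h2 : r = 1 := h.uniq (k.R_le _ hr') h1
    rw [h2, inv_one, one_mul] at hf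
    have h3 := FA.NF_c hn hf
    have h4 : n⁻¹ * c * n = c := by rw [mul_assoc, ← h3]; group
    rw [h4] at hr
    exact h.uniq (k.R_le _ hr) hX
  · have h1 := k.K_isPGroup (o i)
    rintro ⟨x, hx⟩
    obtain ⟨m, hm⟩ := h1 ⟨_, mem_cj.1 hx⟩
    refine ⟨m, Subtype.ext ?_⟩
    have hm' : (n⁻¹ * x * n) ^ 2 ^ m = 1 := congrArg Subtype.val hm
    change x ^ 2 ^ m = 1
    have e : x = n * (n⁻¹ * x * n) * n⁻¹ := by group
    rw [e, conj_pow, hm', mul_one, mul_inv_cancel]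
  · -- `n` centralises `R`
    refine eq_of_le_of_card_ge ?_ (by rw [card_cj])
    rintro _ ⟨r, hr, rfl⟩
    change n * r * n⁻¹ ∈ R i (o i)
    obtain ⟨j, hj, -⟩ := k.third (o i) (o i)
    obtain ⟨v, hv, hv1⟩ := k.exists_ne j
    obtain ⟨u, hu, hur⟩ := kt_full k (k.R_le j hv) (k.not_mem hj hv hv1) hr
    have hvV := k.R_le j hv
    have h1 : n * u * n⁻¹ ∈ normalizer (Vf i : Set G) := hA.ThV (hT (hle (conj_mem_cj hu)))
    have h2 : n * u * n⁻¹ * v * (n * u * n⁻¹)⁻¹ * v⁻¹ ∈ Vf i := mul_mem (conj_mem_of_normalizer h1 hvV) (inv_mem hvV)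
    have hf := FA.NF_m (inv_mem hn) (V_le_P (Vf i) w hvV)
    rw [inv_inv] at hf
    have huf := mem_centralizer_iff.1 (mem_inf.1 hf).2 u (K_le_X (K i) (o i) hu)
    have h3 : n⁻¹ * v * n = v * (n⁻¹ * v * n * v⁻¹) := by
      have h4 := hA.P_comm _ (F0_le _ _ _ hf) _ (V_le_P (Vf i) w hvV)
      rw [← h4]; group
    have h5 : n * u * n⁻¹ * v * (n * u * n⁻¹)⁻¹ * v⁻¹ = n * r * n⁻¹ := by
      have h6 := comm_mul (g := u) (v := v) huf
      rw [← h3, hur] at h6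
      rw [← h6]; group
    rw [h5] at h2
    have h7 := FA.NF_m hn (hRP hr)
    have h8 : n * r * n⁻¹ * r⁻¹ = 1 := hA.V_F0 (mul_mem h2 (inv_mem (k.R_le _ hr))) h7
    rw [mul_inv_eq_one] at h8
    rw [h8]; exact hr
  · have h1 := k.KQ (o i) _ (k.K_Q _ (mem_cj.1 ha)) _ (mem_cj.1 hb)
    rw [mem_cj]
    have e : n⁻¹ * (a * b * a⁻¹ * b⁻¹) * n =
        (n⁻¹ * a * n) * (n⁻¹ * b * n) * (n⁻¹ * a * n)⁻¹ * (n⁻¹ * b * n)⁻¹ := by group
    rw [e]
    exact h1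
  · have h1 := hKC _ (mem_cj.1 ha) r hr
    calc a * r = n * ((n⁻¹ * a * n) * (n⁻¹ * r * n)) * n⁻¹ := by group
      _ = r * a := by rw [h1]; group

end Cfsg.Agent.Omega.IId.CvBig.Four

end

section


/-!
# CvBig, CASE 2a, all `q`, `k ≥ 3`: the conjugate `V^w` (helper796)

`FS` : the frame over `Th`, Sylow in `N(Vf i) ∩ N(R i)`.

* `FS.step` : from `1 ≠ x ∈ Wh ∩ C(X)` centralised by a 2-group `S' > Th`: `w` with `V^w ≤ Wh`, `[V^w, C_Th(V)] = 1`;
* `FS.fa` : `FA`.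
-/

set_option autoImplicit false
set_option linter.unusedSectionVars false

namespace Cfsg.Agent.Omega.IId.CvBig.Four

open Subgroup Cfsg.Agent.Omega.BTwo Cfsg.Agent.Omega.IId.Cv.TwoFour
open Cfsg.Agent.Omega.F4Leaf.Syl.LocP (exists_step le_of_odd)

universe u

variable {G : Type u} [Group G] {κ : Type*} {ι : κ → Type*}

/-- a 2-group `O ≤ N(V)` normalised by `X` centralises `V` -/
theorem kt_cen_of_two [Finite G] {ι : Type*} {V L : Subgroup G} {R K : ι → Subgroup G} (b : KT V L R K)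
    {O : Subgroup G} (hO : IsPGroup 2 O) (hV : O ≤ normalizer (V : Set G))
    (hX : XK K ≤ normalizer (O : Set G)) : O ≤ centralizer (V : Set G) := by
  have hVp : IsPGroup 2 V := by
    intro x
    refine ⟨1, Subtype.ext ?_⟩
    have := b.V_sq x x.2
    rw [pow_one, pow_two]
    exact this
  obtain ⟨i₀, -⟩ := b.R_cov 1 (one_mem _)
  have hV1 : V ≠ ⊥ := fun h => b.R_ne i₀ (le_bot_iff.1 (h ▸ b.R_le i₀))
  obtain ⟨e, he, he1, hc⟩ := Half.exists_fixed hVp hV1 hO hV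
  obtain ⟨j, hj⟩ := b.R_cov e he
  have hW : ∀ x ∈ XK K, ∀ y ∈ V, y ∈ centralizer (O : Set G) → x * y * x⁻¹ ∈ centralizer (O : Set G) :=
    fun x hx y _ hy => conj_mem_of_normalizer (normalizer_le_normalizer_centralizer _ (hX hx)) hy
  have hec : e ∈ centralizer (O : Set G) := mem_centralizer_iff.2 fun t ht => mul_inv_eq_iff_eq_mul.1 (hc t ht)
  have hR : ∀ a, a ≠ j → R a ≤ centralizer (O : Set G) := by
    intro a ha r hr
    obtain ⟨t, ht, rfl⟩ := kt_full b he (b.not_mem (Ne.symm ha) hj he1) hr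
    exact mul_mem (hW t (K_le_X K a ht) e he hec) (inv_mem hec)
  obtain ⟨a, ha, -⟩ := b.third j j
  obtain ⟨c, hc1, hc2⟩ := b.third j a
  have h1 : V ≤ centralizer (O : Set G) := by
    rw [← b.R_sup a c (Ne.symm hc2)]
    exact sup_le (hR a ha) (hR c hc1)
  exact le_centralizer_iff.1 h1

/-- the frame over `Th` -/
structure FS (Vf Lf : κ → Subgroup G) (R K : ∀ l, ι l → Subgroup G) (Q : Subgroup G) (o : ∀ l, ι l)
    (Th : Subgroup G) (i : κ) : Prop extends Fr Vf Lf R K Q where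
  Th2 : IsPGroup 2 Th
  ThV : Th ≤ normalizer (Vf i : Set G)
  ThL : Th ≤ Lf i
  ThR : Th ≤ normalizer (R i (o i) : Set G)
  syl : ¬ 2 ∣ Th.relIndex (normalizer (Vf i : Set G) ⊓ normalizer (R i (o i) : Set G))
  QTh : Q ≤ Th
  QQTh : ∀ l, QQ (R l (o l)) ≤ Th

/-- the properties of `w` -/
structure Wp (Vf : κ → Subgroup G) (R K : ∀ l, ι l → Subgroup G) (Q : Subgroup G) (o : ∀ l, ι l)
    (Th : Subgroup G) (i : κ) (w : G) : Prop where
  wT : w ∈ normalizer (Th : Set G)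
  wR : w ∈ normalizer (R i (o i) : Set G)
  ww : w * w ∈ Th
  wV : cj w (Vf i) ≠ Vf i
  wW : cj w (Vf i) ≤ Wh Vf K Q
  cT : ∀ s ∈ Th, s ∈ centralizer (Vf i : Set G) → s ∈ centralizer (cj w (Vf i) : Set G)

namespace FS

variable {Vf Lf : κ → Subgroup G} {R K : ∀ l, ι l → Subgroup G} {Q : Subgroup G} {o : ∀ l, ι l} {Th : Subgroup G}
  {i : κ} (h : FS Vf Lf R K Q o Th i)
include h

theorem Q_cen : Q ≤ centralizer (Vf i : Set G) := fun q hq => by
  rw [mem_centralizer_iff]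
  exact fun v hv => (h.QC i q hq v hv).symm

theorem KTh : K i (o i) ≤ Th := ((h.kt i).K_Q (o i)).trans (h.QQTh i)

/-- a subgroup centralised by `C_Th(V)` is in `Wh` -/
theorem Wh_of_cT [Finite G] [Finite κ] {l : κ} (hl : l ≠ i) {A : Subgroup G}
    (hA : ∀ s ∈ Th, s ∈ centralizer (Vf i : Set G) → ∀ y ∈ A, y * s = s * y) : A ≤ Wh Vf K Q := by
  intro y hy
  have h1 : y ∈ centralizer (Q : Set G) := by
    rw [mem_centralizer_iff]
    exact fun q hq => (hA q (h.QTh hq) (h.Q_cen hq) y hy).symm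
  have h2 : ∀ s ∈ QQ (R l (o l)), y * s = s * y := fun s hs => hA s (h.QQTh l hs) (by
    rw [mem_centralizer_iff]
    exact fun v hv => (h.QV' l i hl.symm (o l) s hs v hv).symm) y hy
  have h3 : y ∈ QQ (R l (o l)) := by
    refine h.ch l (o l) (mem_inf.2 ⟨?_, mem_centralizer_iff.2 fun s hs => (h2 s hs).symm⟩)
    apply centralizer_le_normalizer
    rw [mem_centralizer_iff]
    intro r hr
    exact mem_centralizer_iff.1 h1 r (h.V_le_Q l ((h.kt l).R_le _ hr))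
  exact h.toFr.Vm hl.symm (mem_Uc h3 h2) h1

/-- **(B)** -/
theorem step_B [Finite G] [Finite κ] {l : κ} (hl : l ≠ i) {O : Subgroup G} (hO : IsPGroup 2 O)
    (hTO : Th ≤ normalizer (O : Set G)) (hXO : XK (K i) ≤ normalizer (O : Set G))
    (hn : ¬ O ≤ normalizer (Vf i : Set G)) : ∃ w, Wp Vf R K Q o Th i w := by
  have k := h.kt i
  obtain ⟨O₀, hO₀⟩ : ∃ O₀, O₀ = O ⊓ normalizer (Vf i : Set G) := ⟨_, rfl⟩
  have hO₀O : O₀ ≤ O := by rw [hO₀]; exact inf_le_left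
  have hO₀V : O₀ ≤ normalizer (Vf i : Set G) := by rw [hO₀]; exact inf_le_right
  have hinf : ∀ {A B C : Subgroup G}, A ≤ normalizer (B : Set G) → A ≤ normalizer (C : Set G) →
      A ≤ normalizer ((B ⊓ C : Subgroup G) : Set G) := by
    intro A B C h1 h2 a ha
    refine mem_normalizer_of_conj fun x hx => ?_
    exact ⟨conj_mem_of_normalizer (h1 ha) hx.1, conj_mem_of_normalizer (h2 ha) hx.2⟩
  have hX₀ : XK (K i) ≤ normalizer (O₀ : Set G) := by
    rw [hO₀]; exact hinf hXO (k.X_le_NV.trans le_normalizer)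
  have hT₀ : Th ≤ normalizer (O₀ : Set G) := by
    rw [hO₀]; exact hinf hTO (h.ThV.trans le_normalizer)
  have hc₀ : O₀ ≤ centralizer (Vf i : Set G) := kt_cen_of_two k (hO.to_le hO₀O) hO₀V hX₀
  have hO₀T : O₀ ≤ Th := le_of_odd h.Th2 (le_inf h.ThV h.ThR) h.syl (hO.to_le hO₀O)
    (le_inf hO₀V ((hc₀.trans (centralizer_le (k.R_le _))).trans (centralizer_le_normalizer _))) hT₀
  -- `N_O(O₀) > O₀`
  have hlt : ¬ O ≤ O₀ := fun hle => hn (hle.trans hO₀V)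
  obtain ⟨w₁, hw₁, hw₁N, hw₁O⟩ := exists_step (hO.to_le hO₀O) hO (hO₀O.trans le_normalizer) hlt
  obtain ⟨b, hb, hbn, hbt⟩ := Cfsg.Agent.Omega.IId.SideOf.exists_fixed_mod (A := O₀) (B := O ⊓ normalizer (O₀ : Set G)) (T := Th)
    (fun hle => hw₁O (hle ⟨hw₁, hw₁N⟩)) inf_le_right (hO.to_le inf_le_left) h.Th2 hT₀
    (hinf hTO (hT₀.trans le_normalizer))
  obtain ⟨n, hn1, hn2⟩ := exists_pow_sq (hO.to_le (by rw [zpowers_le]; exact (mem_inf.1 hb).1)) hbn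
  have hbN : b ∈ normalizer (O₀ : Set G) := (mem_inf.1 hb).2
  have hpow : ∀ m : ℕ, ∀ t ∈ Th, t * b ^ m * t⁻¹ * (b ^ m)⁻¹ ∈ O₀ := by
    intro m
    induction m with
    | zero =>
      intro t _
      rw [pow_zero, mul_one, mul_inv_cancel, inv_one, one_mul]
      exact one_mem _
    | succ m ih =>
      intro t ht
      have e : t * b ^ (m + 1) * t⁻¹ * (b ^ (m + 1))⁻¹ =
          (t * b ^ m * t⁻¹ * (b ^ m)⁻¹) * (b ^ m * (t * b * t⁻¹ * b⁻¹) * (b ^ m)⁻¹) := by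
        rw [pow_succ]; group
      rw [e]
      exact mul_mem (ih t ht) (conj_mem_of_normalizer (pow_mem hbN m) (hbt t ht))
  obtain ⟨w, hw⟩ : ∃ w, w = b ^ n := ⟨_, rfl⟩
  rw [← hw] at hn1 hn2
  have hwO : w ∈ O := by rw [hw]; exact pow_mem (mem_inf.1 hb).1 n
  have hwN : w ∈ normalizer (O₀ : Set G) := by rw [hw]; exact pow_mem hbN n
  have hwt : ∀ t ∈ Th, t * w * t⁻¹ * w⁻¹ ∈ O₀ := fun t ht => by rw [hw]; exact hpow n t ht
  have hwt' : ∀ s ∈ Th, w * s * w⁻¹ * s⁻¹ ∈ O₀ := by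
    intro s hs
    have e : w * s * w⁻¹ * s⁻¹ = (s * w * s⁻¹ * w⁻¹)⁻¹ := by group
    rw [e]
    exact inv_mem (hwt s hs)
  have hwT : w ∈ normalizer (Th : Set G) := by
    refine mem_normalizer_of_conj fun s hs => ?_
    have e : w * s * w⁻¹ = w * s * w⁻¹ * s⁻¹ * s := by group
    rw [e]
    exact mul_mem (hO₀T (hwt' s hs)) hs
  have hO₀V' : ∀ y ∈ O₀, y ∈ centralizer (cj w (Vf i) : Set G) := by
    intro y hy
    rw [centralizer_cj, mem_cj]
    exact hc₀ (conj_inv_mem_of_normalizer hwN hy)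
  have hcT : ∀ s ∈ Th, s ∈ centralizer (Vf i : Set G) → s ∈ centralizer (cj w (Vf i) : Set G) := by
    intro s hs hsc
    rw [centralizer_cj, mem_cj]
    have h1 := conj_inv_mem_of_normalizer hwN (hwt' s hs)
    have e : w⁻¹ * s * w = (w⁻¹ * (w * s * w⁻¹ * s⁻¹) * w)⁻¹ * s := by group
    rw [e]
    exact mul_mem (inv_mem (hc₀ h1)) hsc
  have hW : cj w (Vf i) ≤ Wh Vf K Q :=
    h.Wh_of_cT hl fun s hs hsc y hy => mem_centralizer_iff.1 (hcT s hs hsc) y hy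
  refine ⟨w, hwT, ?_, hO₀T hn2, fun e => hn1 ?_, hW, hcT⟩
  · refine mem_normalizer_of_conj fun r hr => ?_
    obtain ⟨a, ha, -⟩ := k.third (o i) (o i)
    obtain ⟨v, hv, hv1⟩ := k.exists_ne a
    obtain ⟨t, ht, rfl⟩ := kt_full k (k.R_le a hv) (k.not_mem ha hv hv1) hr
    have hv' : w * v * w⁻¹ ∈ cj w (Vf i) := conj_mem_cj (k.R_le a hv)
    have hvQ : w * v * w⁻¹ ∈ QQ (R i (o i)) := h.toFr.Wh_le_QQ i (o i) (hW hv')
    have h1 := k.KQ (o i) _ hvQ t ht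
    set v' := w * v * w⁻¹ with hv'def
    set y := w * t * w⁻¹ * t⁻¹ with hy
    have hyO : y ∈ O₀ := hwt' t (h.KTh ht)
    have h2 : (v' * t * v'⁻¹ * t⁻¹)⁻¹ = t * v' * t⁻¹ * v'⁻¹ := by
      simp only [mul_inv_rev, inv_inv, mul_assoc]
    set ρ := (v' * t * v'⁻¹ * t⁻¹)⁻¹ with hρ
    have hρR : ρ ∈ R i (o i) := inv_mem h1
    have c1 : ρ * y = y * ρ := mem_centralizer_iff.1 (hc₀ hyO) ρ (k.R_le _ hρR)
    have c2 : v' * y = y * v' := mem_centralizer_iff.1 (hO₀V' y hyO) v' hv'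
    have e : w * (t * v * t⁻¹ * v⁻¹) * w⁻¹ = ρ := by
      calc w * (t * v * t⁻¹ * v⁻¹) * w⁻¹ = (y * t) * v' * (y * t)⁻¹ * v'⁻¹ := by rw [hy, hv'def]; group
        _ = y * (t * v' * t⁻¹ * v'⁻¹) * (v' * y⁻¹ * v'⁻¹) := by group
        _ = y * ρ * y⁻¹ := by
          rw [← h2]
          have e3 : v' * y⁻¹ * v'⁻¹ = y⁻¹ := by
            calc v' * y⁻¹ * v'⁻¹ = y⁻¹ * (y * v') * y⁻¹ * v'⁻¹ := by group
              _ = y⁻¹ * (v' * y) * y⁻¹ * v'⁻¹ := by rw [c2]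
              _ = y⁻¹ := by group
          rw [e3]
        _ = ρ := by rw [← c1]; group
    rw [e]
    exact hρR
  · rw [hO₀]
    exact mem_inf.2 ⟨hwO, cj_eq_self_iff.1 e⟩

/-- **(A)** -/
theorem step_A [Finite G] [Finite κ] {l : κ} (hl : l ≠ i) {x u : G} {S' : Subgroup G}
    (hx : x ∈ Wh Vf K Q) (hxX : x ∈ centralizer (XK (K i) : Set G))
    (hch : centralizer ({x} : Set G) ⊓ centralizer (O2 (centralizer ({x} : Set G)) : Set G) ≤
      O2 (centralizer ({x} : Set G)))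
    (hS2 : IsPGroup 2 S') (hTS : Th ≤ S') (huS : u ∈ S') (hux : u ∈ centralizer ({x} : Set G))
    (huT : u ∈ normalizer (Th : Set G)) (huR : u ∈ normalizer (R i (o i) : Set G)) (hun : u ∉ Th)
    (huu : u * u ∈ Th) (hOV : O2 (centralizer ({x} : Set G)) ≤ normalizer (Vf i : Set G)) :
    Wp Vf R K Q o Th i u := by
  have k := h.kt i
  have hfr := h.toFr
  have hxc : ∀ g, g ∈ centralizer ({x} : Set G) ↔ g * x = x * g := fun g => mem_centralizer_singleton_iff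
  have hXx : XK (K i) ≤ centralizer ({x} : Set G) := fun g hg => (hxc g).2 (mem_centralizer_iff.1 hxX g hg)
  have hVx : Vf i ≤ centralizer ({x} : Set G) := fun v hv => (hxc v).2 (h.toFr.Wh_comm (Vf_le_Wh Vf K Q i hv) hx)
  set M := centralizer ({x} : Set G) with hM
  set O := O2 M with hO
  have hMO : M ≤ normalizer (O : Set G) := le_normalizer_O2 M
  have hOc : O ≤ centralizer (Vf i : Set G) := kt_cen_of_two k (O2_isPGroup M) hOV (hXx.trans hMO)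
  have hVO : Vf i ≤ O := fun v hv => hch (mem_inf.2 ⟨hVx hv, le_centralizer_iff.1 hOc hv⟩)
  have hVcO : Vf i ≤ centralizer (O : Set G) := le_centralizer_iff.1 hOc
  have huO : cj u O = O := cj_eq_self_iff.2 (hMO hux)
  have hV'O : cj u (Vf i) ≤ O := by rw [← huO]; exact cj_mono hVO
  have hV'cO : cj u (Vf i) ≤ centralizer (O : Set G) := by
    rw [← huO, centralizer_cj]; exact cj_mono hVcO
  have huV : cj u (Vf i) ≠ Vf i := by
    intro e
    apply hun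
    have huV := cj_eq_self_iff.1 e
    have hp : IsPGroup 2 (zpowers u) := hS2.to_le (by rw [zpowers_le]; exact huS)
    have h1 : IsPGroup 2 (Th ⊔ zpowers u : Subgroup G) :=
      hS2.to_le (sup_le hTS (by rw [zpowers_le]; exact huS))
    have h2 : Th ⊔ zpowers u ≤ Th := le_of_odd h.Th2 (le_inf h.ThV h.ThR) h.syl h1
      (sup_le (le_inf h.ThV h.ThR) (by rw [zpowers_le]; exact mem_inf.2 ⟨huV, huR⟩))
      (le_sup_left.trans le_normalizer)
    exact h2 (mem_sup_right (mem_zpowers u))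
  have hV'QR : cj u (Vf i) ≤ QQ (R i (o i)) := by
    have h1 : cj u (QQ (R i (o i))) = QQ (R i (o i)) := cj_eq_self_iff.2 (le_normalizer_O2 _ huR)
    rw [← h1]
    exact cj_mono (h.VQ' i i (o i))
  have hV'V : ∀ y ∈ cj u (Vf i), ∀ v ∈ Vf i, y * v = v * y := fun y hy v hv =>
    (mem_centralizer_iff.1 (hV'cO hy) v (hVO hv)).symm
  have hV'Q : cj u (Vf i) ≤ Q := by
    intro y hy
    refine h.CQ i (o i) y (hV'QR hy) fun m v hv => ?_
    by_cases hm : m = i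
    · subst hm
      exact hV'V y hy v hv
    · exact h.QV' i m hm (o i) y (hV'QR hy) v hv
  -- `[C_Th(V), V'] ≤ R`
  have hsR : ∀ s ∈ Th, s ∈ centralizer (Vf i : Set G) → ∀ y ∈ cj u (Vf i), s * y * s⁻¹ * y⁻¹ ∈ R i (o i) := by
    intro s hs hsc y hy
    have h1 : u⁻¹ * s * u ∈ Th := conj_inv_mem_of_normalizer huT hs
    have h2 : ∀ r ∈ R i (o i), u⁻¹ * s * u * r = r * (u⁻¹ * s * u) := by
      intro r hr
      have h3 : u * r * u⁻¹ ∈ R i (o i) := conj_mem_of_normalizer huR hr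
      have h4 := mem_centralizer_iff.1 hsc _ (k.R_le _ h3)
      calc u⁻¹ * s * u * r = u⁻¹ * (s * (u * r * u⁻¹)) * u := by group
        _ = r * (u⁻¹ * s * u) := by rw [← h4]; group
    obtain ⟨t, ht, htc⟩ := lemA k (h.ThL h1) (h.Th2.to_le (by rw [zpowers_le]; exact h1)) h2
    have hv := mem_cj.1 hy
    set v := u⁻¹ * y * u with hvdef
    have h5 := mem_centralizer_iff.1 htc v hv
    have h6 : (u⁻¹ * s * u) * v * (u⁻¹ * s * u)⁻¹ * v⁻¹ = t⁻¹ * v * t⁻¹⁻¹ * v⁻¹ := by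
      calc (u⁻¹ * s * u) * v * (u⁻¹ * s * u)⁻¹ * v⁻¹
          = t⁻¹ * (t * (u⁻¹ * s * u) * v) * (u⁻¹ * s * u)⁻¹ * v⁻¹ := by group
        _ = t⁻¹ * (v * (t * (u⁻¹ * s * u))) * (u⁻¹ * s * u)⁻¹ * v⁻¹ := by rw [← h5]
        _ = _ := by group
    have h7 := k.QV (o i) t⁻¹ (inv_mem (k.K_Q _ ht)) v hv
    rw [← h6] at h7
    have h8 := conj_mem_of_normalizer huR h7
    have e : u * ((u⁻¹ * s * u) * v * (u⁻¹ * s * u)⁻¹ * v⁻¹) * u⁻¹ = s * y * s⁻¹ * y⁻¹ := by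
      rw [hvdef]; group
    rwa [e] at h8
  -- lines `b ≠ o i`
  have hQN : ∀ b, Q ≤ normalizer (R i b : Set G) := fun b q hq => k.cen_le_N b (h.Q_cen hq)
  have hUc : ∀ b, b ≠ o i → cj u (Vf i) ≤ centralizer (Uc (R i b) : Set G) := by
    intro b hb y hy
    rw [mem_centralizer_iff]
    intro z hz
    have hzQ := hfr.Uc_le_Q i b hz
    have h1 := hsR z (h.QTh hzQ) (h.Q_cen hzQ) y hy
    have h2 : z * y * z⁻¹ * y⁻¹ ∈ Uc (R i b) := by
      have e : z * y * z⁻¹ * y⁻¹ = z * (y * z⁻¹ * y⁻¹) := by group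
      rw [e]
      exact mul_mem hz (conj_mem_of_normalizer (N_Uc _ (hQN b (hV'Q hy))) (inv_mem hz))
    have h3 : z * y * z⁻¹ * y⁻¹ ∈ R i b := by
      refine kt_R_of_cen k (k.R_le _ h1) ?_
      rw [mem_centralizer_iff]
      exact fun t ht => (Uc_comm h2 (k.K_Q b ht)).symm
    have h4 := k.eq_one hb h3 h1
    rw [mul_inv_eq_one, mul_inv_eq_iff_eq_mul] at h4
    exact h4
  have hQb : ∀ b, b ≠ o i → cj u (Vf i) ≤ QQ (R i b) := by
    intro b hb
    have hxU : x ∈ Uc (R i b) := hfr.mem_Uc_of (hfr.Wh_le_cen hx) hxX b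
    have hUM : centralizer (Uc (R i b) : Set G) ≤ M := fun c hc => (hxc c).2 (mem_centralizer_iff.1 hc x hxU).symm
    have h1 : O ⊓ centralizer (O : Set G) ⊓ centralizer (Uc (R i b) : Set G) ≤ QQ (R i b) := by
      refine hfr.le_QQ_of inf_le_right ((O2_isPGroup M).to_le (inf_le_left.trans inf_le_left)) ?_
      intro c hc y hy
      have hcO := hMO (hUM hc)
      exact mem_inf.2 ⟨mem_inf.2 ⟨conj_mem_of_normalizer hcO (mem_inf.1 (mem_inf.1 hy).1).1,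
        conj_mem_of_normalizer (normalizer_le_normalizer_centralizer _ hcO) (mem_inf.1 (mem_inf.1 hy).1).2⟩,
        mul_mem (mul_mem hc (mem_inf.1 hy).2) (inv_mem hc)⟩
    exact (le_inf (le_inf hV'O hV'cO) (hUc b hb)).trans h1
  have hK0 : ∀ b, b ≠ o i → ∀ y ∈ cj u (Vf i), ∀ t ∈ K i b, t ∈ centralizer (Vf i : Set G) → y * t = t * y := by
    intro b hb y hy t ht htc
    have h1 := hsR t (h.QTh (hfr.K0_le_Q ht htc)) htc y hy
    have h2 := inv_mem (k.KQ b y (hQb b hb hy) t ht)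
    have e : (y * t * y⁻¹ * t⁻¹)⁻¹ = t * y * t⁻¹ * y⁻¹ := by group
    rw [e] at h2
    have h3 := k.eq_one hb h2 h1
    rw [mul_inv_eq_one, mul_inv_eq_iff_eq_mul] at h3
    exact h3.symm
  obtain ⟨a, ha, -⟩ := k.third (o i) (o i)
  obtain ⟨b, hb, hba⟩ := k.third (o i) a
  have hsplit : ∀ y ∈ cj u (Vf i), ∃ v ∈ Vf i, v⁻¹ * y ∈ centralizer (XK (K i) : Set G) := fun y hy =>
    hfr.CU (Ne.symm hba) (hQb a ha hy) (hQb b hb hy) (hK0 a ha y hy) (hK0 b hb y hy)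
  have hcT : ∀ s ∈ Th, s ∈ centralizer (Vf i : Set G) → s ∈ centralizer (cj u (Vf i) : Set G) := by
    intro s hs hsc
    rw [mem_centralizer_iff]
    intro y hy
    obtain ⟨v, hv, hc⟩ := hsplit y hy
    set c := v⁻¹ * y with hcdef
    have h1 := hsR s hs hsc y hy
    have h2 : s * c * s⁻¹ * c⁻¹ ∈ centralizer (XK (K i) : Set G) :=
      mul_mem (conj_mem_of_normalizer (normalizer_le_normalizer_centralizer _ (k.L_le_NX (h.ThL hs))) hc)
        (inv_mem hc)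
    have h3 := mem_centralizer_iff.1 hsc v hv
    have e : s * c * s⁻¹ * c⁻¹ = v⁻¹ * (s * y * s⁻¹ * y⁻¹) * v := by
      have e1 : s * v⁻¹ = v⁻¹ * s := by
        calc s * v⁻¹ = v⁻¹ * (v * s) * v⁻¹ := by group
          _ = v⁻¹ * s := by rw [h3]; group
      calc s * c * s⁻¹ * c⁻¹ = (s * v⁻¹) * y * s⁻¹ * y⁻¹ * v := by rw [hcdef]; group
        _ = _ := by rw [e1]; group
    have e2 : v⁻¹ * (s * y * s⁻¹ * y⁻¹) * v = s * y * s⁻¹ * y⁻¹ := by
      have h4 := k.V_comm _ (k.R_le _ h1) v hv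
      calc v⁻¹ * (s * y * s⁻¹ * y⁻¹) * v = v⁻¹ * ((s * y * s⁻¹ * y⁻¹) * v) := by group
        _ = s * y * s⁻¹ * y⁻¹ := by rw [h4]; group
    rw [e, e2] at h2
    have h5 := h.toFr.uniq (k.R_le _ h1) h2
    rw [mul_inv_eq_one, mul_inv_eq_iff_eq_mul] at h5
    exact h5.symm
  exact ⟨huT, huR, huu, huV, h.Wh_of_cT hl fun s hs hsc y hy => mem_centralizer_iff.1 (hcT s hs hsc) y hy, hcT⟩

/-- **(3)** -/
theorem step [Finite G] [Finite κ] {l : κ} (hl : l ≠ i) {x u : G} {S' : Subgroup G}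
    (hx : x ∈ Wh Vf K Q) (hxX : x ∈ centralizer (XK (K i) : Set G))
    (hch : centralizer ({x} : Set G) ⊓ centralizer (O2 (centralizer ({x} : Set G)) : Set G) ≤
      O2 (centralizer ({x} : Set G)))
    (hS2 : IsPGroup 2 S') (hTS : Th ≤ S') (hSx : S' ≤ centralizer ({x} : Set G)) (huS : u ∈ S')
    (huT : u ∈ normalizer (Th : Set G)) (huR : u ∈ normalizer (R i (o i) : Set G)) (hun : u ∉ Th)
    (huu : u * u ∈ Th) : ∃ w, Wp Vf R K Q o Th i w := by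
  have hMO := le_normalizer_O2 (centralizer ({x} : Set G))
  have hXx : XK (K i) ≤ centralizer ({x} : Set G) := fun g hg =>
    mem_centralizer_singleton_iff.2 (mem_centralizer_iff.1 hxX g hg)
  by_cases hOV : O2 (centralizer ({x} : Set G)) ≤ normalizer (Vf i : Set G)
  · exact ⟨u, h.step_A hl hx hxX hch hS2 hTS huS (hSx huS) huT huR hun huu hOV⟩
  · exact h.step_B hl (O2_isPGroup _) ((hTS.trans hSx).trans hMO) (hXx.trans hMO) hOV

/-- `FA` from `w` -/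
theorem fa {w : G} (hw : Wp Vf R K Q o Th i w) : FA (Vf i) (Lf i) (R i) (K i) (o i) Th w where
  bt := h.kt i
  Th2 := h.Th2
  ThV := h.ThV
  ThL := h.ThL
  ThR := h.ThR
  syl := h.syl
  KTh := h.KTh
  wT := hw.wT
  wR := hw.wR
  ww := hw.ww
  wV := hw.wV
  VV' := fun _ hv _ hv' => h.toFr.Wh_comm (Vf_le_Wh Vf K Q i hv) (hw.wW hv')
  split := fun _ hv => h.toFr.dec (hw.wW hv) i
  cT := hw.cT

end FS

end Cfsg.Agent.Omega.IId.CvBig.Four

end
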