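import Cfsg.Agent.Mrg.Omega.HT.Main
import Cfsg.Agent.Mrg.Omega.IId.Triangle
import Cfsg.Agent.ZN.Facts
import Cfsg.Agent.Mrg.Omega.IId.BigD.Surv.End
import Cfsg.Agent.Mrg.Omega.BTwo.Split
import Cfsg.Agent.Mrg.Omega.HTwo.TComp
import Cfsg.Agent.Mrg.Omega.IId.SideOf
import Cfsg.Agent.Lib.SylowNormalInf
import Cfsg.Agent.Lib.GoldschmidtFusion
import Cfsg.Agent.Mrg.Omega.ThmC.TwoOf
import Cfsg.Agent.Mrg.Omega.IId.Big.Supply

section


/-!
# `BigU2`: two conjugate lines `V`, `V^w`, `w ∈ N_G(T)`, over a 2-group `T` (bb OMEGA 21949 (II) / 21813 (1), (2))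

`Par T V X v` : `OtD T V X v` (a line `V ∋ v` over `T`), `W_u ≤ X` moves `V` (`u ∈ V#`), `Ω₁Z(Q_u) ≤ T`,
`Ω₁Z(T) = ⟨v⟩ × C(X)` (`dec`), and `Ω₁Z(T) ∩ C(X)` has two elements `≠ 1` (`two`).

* `OtD.cjN` : `OtD T V^w X^w v^w` for `w ∈ N(T)`; `OtD.le_zc` : `V ≤ Ω₁Z(O₂(C(y)))` for an involution `y` centralised by
  `T`, `X`; `tool` : TOOL (0) of 20837;
* `Par.cen` : `X` centralises `v^w`; `Par.cen'` : `X^w` centralises `v`, for `w ∈ N(T)`, `v^w ≠ v`;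
* `Par.mem_zc` : `V^w ≤ Ω₁Z(O₂(C(v)))`; `Par.mem_zc'` : `V ≤ Ω₁Z(O₂(C(v^w)))`.
-/

set_option autoImplicit false
set_option linter.unusedSectionVars false

namespace Cfsg.Agent.Omega.HT.OtCore

open Subgroup Cfsg Cfsg.Agent.MinSimple.VModule
open Cfsg.Agent.ZN (zc o2)
open Cfsg.Agent.ZN.ChoiceBase (cj mem_cj cj_mono cj_eq_of_mem_normalizer)
open Cfsg.Agent.Omega.IId.Triangle (KK mem_KK KK_conj KK_le_o2 mem_cent mem_zpowers_iff_of_sq cent_conj o2_cent_conj)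
open Cfsg.Agent.MinSimple.Basic (char2_centralizer)

universe u

local notation "cz" v:max => centralizer ({v} : Set _)
local notation "qz" v:max => ZN.o2 (centralizer ({v} : Set _))

variable {G : Type u} [Group G]

theorem cz_cj (g v : G) : cj g (cz v) = cz (g * v * g⁻¹) := (cent_conj g v).symm

theorem mem_cj_mk {g x : G} {H : Subgroup G} (hx : x ∈ H) : g * x * g⁻¹ ∈ cj g H := ⟨x, hx, rfl⟩

/-- **the data of a line, moved by `w ∈ N(T)`** -/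
theorem OtD.cjN {T V X : Subgroup G} {r : G} (h : OtD T V X r) {w : G} (hw : w ∈ normalizer (T : Set G)) :
    OtD T (cj w V) (cj w X) (w * r * w⁻¹) := by
  have hT : cj w T = T := cj_eq_of_mem_normalizer hw
  have hTi : ∀ t ∈ T, w⁻¹ * t * w ∈ T := fun t ht => by
    rw [← hT, mem_cj] at ht
    exact ht
  have hnor : ∀ {A B : Subgroup G}, A ≤ normalizer (B : Set G) → cj w A ≤ normalizer (cj w B : Set G) := by
    intro A B hAB
    rw [← ZN.ChoiceBase.cj_normalizer]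
    exact cj_mono w hAB
  refine
    { T_p := h.T_p
      T_r := fun t ht => ?_
      odd := ?_
      V_T := ?_
      V_sq := ?_
      V_four := ?_
      r_mem := mem_cj_mk h.r_mem
      r_ne := fun e => h.r_ne (conj_eq_one_iff.1 e)
      T_V := ?_
      X_V := hnor h.X_V
      trans := ?_
      zt := ?_ }
  · calc t * (w * r * w⁻¹) = w * ((w⁻¹ * t * w) * r) * w⁻¹ := by group
      _ = w * r * w⁻¹ * t := by rw [h.T_r _ (hTi t ht)]; group
  · have e : T.relIndex (cz (w * r * w⁻¹)) = T.relIndex (cz r) := by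
      conv_lhs => rw [← hT, ← cz_cj]
      exact Subgroup.relIndex_map_map_of_injective _ _ (MulAut.conj w).injective
    rw [e]
    exact h.odd
  · rw [← hT]
    exact cj_mono w h.V_T
  · rintro _ ⟨x, hx, rfl⟩
    show (w * x * w⁻¹) * (w * x * w⁻¹) = 1
    calc (w * x * w⁻¹) * (w * x * w⁻¹) = w * (x * x) * w⁻¹ := by group
      _ = 1 := by rw [h.V_sq x hx]; group
  · rintro _ ⟨x, hx, rfl⟩ h1 h2 _ ⟨y, hy, rfl⟩
    have h3 : x ≠ 1 := fun e => h1 (by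
      show w * x * w⁻¹ = 1
      rw [e]; group)
    have h4 : x ≠ r := fun e => h2 (by
      show w * x * w⁻¹ = w * r * w⁻¹
      rw [e])
    show w * y * w⁻¹ = 1 ∨ w * y * w⁻¹ = w * r * w⁻¹ ∨ w * y * w⁻¹ = w * x * w⁻¹ ∨
      w * y * w⁻¹ = w * x * w⁻¹ * (w * r * w⁻¹)
    rcases h.V_four x hx h3 h4 y hy with e | e | e | e
    · left; rw [e]; group
    · right; left; rw [e]
    · right; right; left; rw [e]
    · right; right; right; rw [e]; group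
  · have := hnor h.T_V
    rwa [hT] at this
  · rintro _ ⟨x, hx, rfl⟩ h1
    obtain ⟨g, hg, e⟩ := h.trans x hx (fun e => h1 (by
      show w * x * w⁻¹ = 1
      rw [e]; group))
    refine ⟨w * g * w⁻¹, mem_cj_mk hg, ?_⟩
    show w * g * w⁻¹ * (w * r * w⁻¹) * (w * g * w⁻¹)⁻¹ = w * x * w⁻¹
    rw [← e]; group
  · obtain ⟨a, ha, b, hb, e, hz⟩ := h.zt
    refine ⟨w * a * w⁻¹, by rw [← hT]; exact mem_cj_mk ha, w * b * w⁻¹, mem_cj_mk hb, ?_, ?_⟩
    · calc w * a * w⁻¹ * (w * b * w⁻¹) * (w * a * w⁻¹)⁻¹ = w * (a * b * a⁻¹) * w⁻¹ := by group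
        _ = w * b * w⁻¹ * (w * r * w⁻¹) := by rw [e]; group
    · intro c hc hcc hcV
      have h1 := hz (w⁻¹ * c * w) (hTi c hc) (by
        calc w⁻¹ * c * w * (w⁻¹ * c * w) = w⁻¹ * (c * c) * w := by group
          _ = 1 := by rw [hcc]; group) (by
        intro t ht htV
        have h2 : w * t * w⁻¹ ∈ T := by rw [← hT]; exact mem_cj_mk ht
        have h3 := hcV _ h2 (mem_centralizer_iff.2 (by
          rintro _ ⟨y, hy, rfl⟩
          have h4 := mem_centralizer_iff.1 htV y hy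
          show w * y * w⁻¹ * (w * t * w⁻¹) = w * t * w⁻¹ * (w * y * w⁻¹)
          calc w * y * w⁻¹ * (w * t * w⁻¹) = w * (y * t) * w⁻¹ := by group
            _ = w * t * w⁻¹ * (w * y * w⁻¹) := by rw [h4]; group))
        calc t * (w⁻¹ * c * w) = w⁻¹ * (w * t * w⁻¹ * c) * w := by group
          _ = w⁻¹ * c * w * t := by rw [h3]; group)
      rcases h1 with h1 | h1
      · left
        calc w * a * w⁻¹ * c * (w * a * w⁻¹)⁻¹ = w * (a * (w⁻¹ * c * w) * a⁻¹) * w⁻¹ := by group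
          _ = c := by rw [h1]; group
      · right
        calc w * a * w⁻¹ * c * (w * a * w⁻¹)⁻¹ = w * (a * (w⁻¹ * c * w) * a⁻¹) * w⁻¹ := by group
          _ = c * (w * r * w⁻¹) := by rw [h1]; group

variable [Finite G]

/-- `V ≤ Ω₁Z(O₂(C(y)))` for an involution `y` centralised by `T`, `X` -/
theorem OtD.le_zc {T V X : Subgroup G} {r : G} (h : OtD T V X r) (hG : IsCharacteristicTwoType G) {y : G}
    (hyy : y * y = 1) (hy1 : y ≠ 1) (hT : ∀ t ∈ T, t * y = y * t) (hX : ∀ x ∈ X, x * y = y * x) :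
    V ≤ zc (qz y) := by
  have h1 := h.ot (H := cz y) (fun t ht => mem_cent.2 (hT t ht)) (fun t ht => mem_cent.2 (hX t ht))
  intro v hv
  have h2 : v ∈ centralizer (qz y : Set G) := mem_centralizer_iff.2 fun q hq =>
    (mem_centralizer_iff.1 (h1 hq) v hv).symm
  have h3 : v ∈ qz y := char2_centralizer hG (by rw [pow_two]; exact hyy) hy1
    ⟨mem_cent.2 (hT v (h.V_T hv)), h2⟩
  exact mem_zc.2 ⟨h3, fun q hq => mem_centralizer_iff.1 h2 q hq, by rw [pow_two]; exact h.V_sq v hv⟩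

/-- `O₂(C(r)) ≤ T` -/
theorem OtD.q_le {T V X : Subgroup G} {r : G} (h : OtD T V X r) : qz r ≤ T := o2_le_of_sylow h.T_p h.odd

/-- `[V, T] ≤ ⟨r⟩` -/
theorem OtD.act {T V X : Subgroup G} {r : G} (h : OtD T V X r) {t v : G} (ht : t ∈ T) (hv : v ∈ V) :
    t * v * t⁻¹ = v ∨ t * v * t⁻¹ = v * r := by
  have hr := h.T_r t ht
  by_cases h1 : v = 1
  · left; rw [h1]; group
  by_cases h2 : v = r
  · left; rw [h2, hr]; group
  rcases h.V_four v hv h1 h2 _ (h.cj_mem ht hv) with e | e | e | e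
  · exact absurd (conj_eq_one_iff.1 e) h1
  · exfalso
    apply h2
    calc v = t⁻¹ * (t * v * t⁻¹) * t := by group
      _ = t⁻¹ * (r * t) := by rw [e]; group
      _ = r := by rw [← hr]; group
  · exact Or.inl e
  · exact Or.inr e

/-- TOOL (0): `A ≤ C(y)`, `A ≤ O₂(C(ξ))`, `A` centralises `ξ^{C(y)}` ⟹ `A ≤ O₂(C(y))`. -/
theorem tool {y ξ : G} {A : Subgroup G} (hA : A ≤ cz y) (hξ : A ≤ qz ξ)
    (hc : ∀ a ∈ A, ∀ d ∈ cz y, a * (d * ξ * d⁻¹) = d * ξ * d⁻¹ * a) : A ≤ qz y := by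
  obtain ⟨C, hC⟩ : ∃ C, C = cz y ⊓ centralizer ({z | ∃ d ∈ cz y, z = d * ξ * d⁻¹} : Set G) := ⟨_, rfl⟩
  have hmem : ∀ a, a ∈ C ↔ a ∈ cz y ∧ ∀ d ∈ cz y, a * (d * ξ * d⁻¹) = d * ξ * d⁻¹ * a := by
    intro a
    rw [hC, mem_inf, mem_centralizer_iff]
    refine and_congr_right fun _ => ⟨fun h d hd => (h _ ⟨d, hd, rfl⟩).symm, ?_⟩
    rintro h _ ⟨d, hd, rfl⟩
    exact (h d hd).symm
  have hCξ : C ≤ cz ξ := fun a ha => by
    have h1 := ((hmem a).1 ha).2 1 (one_mem _)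
    rw [one_mul, inv_one, mul_one] at h1
    exact mem_cent.2 h1
  have hyC : cz y ≤ normalizer (C : Set G) := by
    refine HOne.TvHSide.le_normalizer_of fun g hg a ha => ?_
    obtain ⟨h1, h2⟩ := (hmem a).1 ha
    refine (hmem _).2 ⟨mul_mem (mul_mem hg h1) (inv_mem hg), fun d hd => ?_⟩
    have h3 := h2 (g⁻¹ * d) (mul_mem (inv_mem hg) hd)
    calc g * a * g⁻¹ * (d * ξ * d⁻¹) = g * (a * (g⁻¹ * d * ξ * (g⁻¹ * d)⁻¹)) * g⁻¹ := by group
      _ = d * ξ * d⁻¹ * (g * a * g⁻¹) := by rw [h3]; group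
  have h1 : qz ξ ⊓ C ≤ o2 C := by
    refine le_o2 inf_le_right ((o2_isPGroup _).to_le inf_le_left) ?_
    refine HOne.TvHSide.le_normalizer_of fun g hg a ha => mem_inf.2 ⟨?_, mul_mem (mul_mem hg ha.2) (C.inv_mem hg)⟩
    exact (mem_normalizer_iff.1 (le_normalizer_o2 (cz ξ) (hCξ hg)) a).1 ha.1
  have h2 : o2 C ≤ qz y := by
    refine le_o2 ((o2_le C).trans fun a ha => ((hmem a).1 ha).1) (o2_isPGroup _) ?_
    exact hyC.trans (ZN.normalizer_le_normalizer_o2 C)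
  exact fun a ha => h2 (h1 ⟨hξ ha, (hmem a).2 ⟨hA ha, hc a ha⟩⟩)

/-- **the frame**: a line `V ∋ v` over the 2-group `T` -/
structure Par (T V X : Subgroup G) (v : G) : Prop where
  hG : IsCharacteristicTwoType G
  ot : OtD T V X v
  WV : ∀ u ∈ V, u ≠ 1 → ∃ g ∈ KK u, ∃ y ∈ V, g * y ≠ y * g
  zT : ∀ u ∈ V, u ≠ 1 → zc (qz u) ≤ T
  /-- `Ω₁Z(T) = ⟨v⟩ C(X)` -/
  dec : ∀ c ∈ T, c * c = 1 → (∀ t ∈ T, t * c = c * t) →
    (∀ x ∈ X, x * c = c * x) ∨ ∀ x ∈ X, x * (c * v) = c * v * x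
  /-- `|Ω₁Z(T) ∩ C(X)| ≥ 4` -/
  two : ∃ x₁ ∈ T, ∃ x₂ ∈ T, (x₁ * x₁ = 1 ∧ x₁ ≠ 1 ∧ (∀ t ∈ T, t * x₁ = x₁ * t) ∧ ∀ g ∈ X, g * x₁ = x₁ * g) ∧
    (x₂ * x₂ = 1 ∧ x₂ ≠ 1 ∧ (∀ t ∈ T, t * x₂ = x₂ * t) ∧ ∀ g ∈ X, g * x₂ = x₂ * g) ∧ x₁ ≠ x₂

namespace Par

variable {T V X : Subgroup G} {v : G} (h : Par T V X v)
include h

theorem sq {u : G} (hu : u ∈ V) : u * u = 1 := h.ot.V_sq u hu

theorem KK_le_q {u : G} (hu : u ∈ V) (hu1 : u ≠ 1) : KK u ≤ qz u :=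
  KK_le_o2 (h.sq hu) (char2_centralizer h.hG (by rw [pow_two]; exact h.sq hu) hu1)

/-- `KK u`, `u ∈ V#`, centralises everything centralised by `T` and `X` -/
theorem KK_comm {c : G} (hT : ∀ t ∈ T, t * c = c * t) (hX : ∀ x ∈ X, x * c = c * x) {u : G} (hu : u ∈ V)
    (hu1 : u ≠ 1) {k : G} (hk : k ∈ KK u) : k * c = c * k := by
  obtain ⟨g, hg, e⟩ := h.ot.trans u hu hu1
  have h1 : g⁻¹ * k * g ∈ KK v := by
    have h2 := KK_conj (h := g⁻¹) hk
    have e2 : g⁻¹ * u * g⁻¹⁻¹ = v := by rw [← e]; group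
    rwa [e2, inv_inv] at h2
  have h3 := hT _ (h.ot.q_le (h.KK_le_q h.ot.r_mem h.ot.r_ne h1))
  have h4 := hX g hg
  have h5 := hX _ (inv_mem hg)
  calc k * c = g * (g⁻¹ * k * g) * (g⁻¹ * c) := by group
    _ = g * ((g⁻¹ * k * g) * c) * g⁻¹ := by rw [h5]; group
    _ = (g * c) * (g⁻¹ * k * g) * g⁻¹ := by rw [h3]; group
    _ = c * k := by rw [h4]; group

/-- an involution of `Z(T)` centralised by `X` lies in `Z(O₂(C(u)))`, `u ∈ V#` -/
theorem mem_zcq {x u : G} (hxT : x ∈ T) (hxx : x * x = 1) (hTx : ∀ t ∈ T, t * x = x * t)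
    (hXx : ∀ g ∈ X, g * x = x * g) (hu : u ∈ V) (hu1 : u ≠ 1) : x ∈ zc (qz u) := by
  have h1 : x ∈ zc (qz v) := by
    have h2 : x ∈ centralizer (qz v : Set G) := mem_centralizer_iff.2 fun q hq => hTx q (h.ot.q_le hq)
    have h3 : x ∈ qz v := char2_centralizer h.hG (by rw [pow_two]; exact h.sq h.ot.r_mem) h.ot.r_ne
      ⟨mem_cent.2 (h.ot.T_r x hxT), h2⟩
    exact mem_zc.2 ⟨h3, fun q hq => mem_centralizer_iff.1 h2 q hq, by rw [pow_two]; exact hxx⟩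
  obtain ⟨g, hg, e⟩ := h.ot.trans u hu hu1
  have e2 : x = g * x * g⁻¹ := by rw [hXx g hg]; group
  have h4 : ∀ q ∈ qz u, g⁻¹ * q * g ∈ qz v := by
    intro q hq
    rw [← e, o2_cent_conj] at hq
    exact mem_cj.1 hq
  obtain ⟨h5, h6, h7⟩ := mem_zc.1 h1
  refine mem_zc.2 ⟨?_, fun q hq => ?_, h7⟩
  · rw [e2, ← e, o2_cent_conj]
    exact mem_cj_mk h5
  · have h8 := h6 _ (h4 q hq)
    calc q * x = g * (g⁻¹ * q * g * (g⁻¹ * x * g)) * g⁻¹ := by group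
      _ = g * (g⁻¹ * q * g * x) * g⁻¹ := by
          have e3 : g⁻¹ * x * g = x := by
            calc g⁻¹ * x * g = g⁻¹ * (g * x) := by rw [hXx g hg]; group
              _ = x := by group
          rw [e3]
      _ = (g * x * g⁻¹) * q := by rw [h8]; group
      _ = x * q := by rw [← e2]

/-- `v ∉ Z(O₂(C(u)))` for `u ∈ V#`, `u ≠ v` -/
theorem v_notMem {u : G} (hu : u ∈ V) (hu1 : u ≠ 1) (huv : u ≠ v) : v ∉ zc (qz u) := by
  intro hv
  obtain ⟨g, hg, y, hy, hne⟩ := h.WV u hu hu1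
  apply hne
  have h1 := (mem_zc.1 hv).2.1 g (h.KK_le_q hu hu1 hg)
  have h2 := (mem_KK.1 hg).1
  rcases h.ot.V_four u hu hu1 huv y hy with e | e | e | e
  · rw [e, mul_one, one_mul]
  · rw [e]; exact h1
  · rw [e]; exact h2
  · rw [e]
    calc g * (u * v) = (g * u) * v := by group
      _ = u * (g * v) := by rw [h2]; group
      _ = u * v * g := by rw [h1]; group

/-- an element `u ≠ 1, v` of `V` -/
theorem exists_u : ∃ u ∈ V, u ≠ 1 ∧ u ≠ v := by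
  obtain ⟨a, -, b, hb, e, -⟩ := h.ot.zt
  refine ⟨b, hb, fun h1 => h.ot.r_ne ?_, fun h1 => h.ot.r_ne ?_⟩
  · rw [h1] at e
    calc v = 1 * v := (one_mul v).symm
      _ = a * 1 * a⁻¹ := e.symm
      _ = 1 := by group
  · -- `a v a⁻¹ = v v = 1`
    rw [h1, h.sq h.ot.r_mem] at e
    exact conj_eq_one_iff.1 e

/-- `V ≤ O₂(C(u))` for `u ∈ V#` -/
theorem V_le_q {u : G} (hu : u ∈ V) (hu1 : u ≠ 1) : V ≤ qz u := by
  -- first for some `u ≠ v`
  obtain ⟨x, hxT, x₂, -, ⟨hxx, hx1, hTx, hXx⟩, -, -⟩ := h.two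
  obtain ⟨b, hb, hb1, hbv⟩ := h.exists_u
  have key : V ≤ qz b := by
    refine tool (ξ := x) (fun y hy => mem_cent.2 (h.ot.V_comm hy hb))
      ((h.ot.le_zc h.hG hxx hx1 hTx hXx).trans (zc_le _)) ?_
    intro y hy d hd
    have hn : d * x * d⁻¹ ∈ zc (qz b) := by
      have h1 := h.mem_zcq hxT hxx hTx hXx hb hb1
      exact (mem_normalizer_iff.1 (normalizer_le_normalizer_zc _ (le_normalizer_o2 (cz b) hd)) x).1 h1
    rcases h.ot.act (h.zT b hb hb1 hn) hy with e | e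
    · exact (mul_inv_eq_iff_eq_mul.1 e).symm
    · exfalso
      apply h.v_notMem hb hb1 hbv
      have h2 : y⁻¹ * (d * x * d⁻¹) * y ∈ zc (qz b) := by
        have h3 : y ∈ cz b := mem_cent.2 (h.ot.V_comm hy hb)
        have h4 := (mem_normalizer_iff.1 (normalizer_le_normalizer_zc _ (le_normalizer_o2 (cz b) (inv_mem h3))) _).1 hn
        rwa [inv_inv] at h4
      have e2 : v = y⁻¹ * (d * x * d⁻¹) * y * (d * x * d⁻¹)⁻¹ := by
        calc v = y⁻¹ * (y * v) := by group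
          _ = y⁻¹ * (d * x * d⁻¹ * y * (d * x * d⁻¹)⁻¹) := by rw [e]
          _ = _ := by group
      rw [e2]
      exact mul_mem h2 (inv_mem hn)
  obtain ⟨g, hg, e⟩ := h.ot.trans2 hb hu hb1 hu1
  intro y hy
  have h1 : g⁻¹ * y * g ∈ V := by
    have h2 := (mem_normalizer_iff.1 (h.ot.X_V (inv_mem hg)) y).1 hy
    rwa [inv_inv] at h2
  rw [← e, o2_cent_conj]
  exact mem_cj.2 (key h1)

/-- an element of `W_u`, `u ∈ V#`, acts on `O₂(C(u))` as `1` or with commutator `u` -/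
theorem KK_act {u k y : G} (hu : u ∈ V) (hk : k ∈ KK u) (hy : y ∈ qz u) :
    k * y * k⁻¹ = y ∨ k * y * k⁻¹ = u * y := by
  rcases (mem_zpowers_iff_of_sq (h.sq hu)).1 ((mem_KK.1 hk).2 y hy) with e | e
  · exact Or.inl (mul_inv_eq_one.1 e)
  · exact Or.inr (mul_inv_eq_iff_eq_mul.1 e)

/-- an element of `W_u` which moves `V` maps `y ∈ V - ⟨u⟩` to `u y` -/
theorem KK_move {u k y : G} (hu : u ∈ V) (hu1 : u ≠ 1) (hk : k ∈ KK u) {b : G} (hb : b ∈ V) (hkb : k * b ≠ b * k)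
    (hy : y ∈ V) (hy1 : y ≠ 1) (hyu : y ≠ u) : k * y * k⁻¹ = u * y := by
  rcases h.KK_act hu hk (h.V_le_q hu hu1 hy) with e | e
  · exfalso
    apply hkb
    have h1 := (mem_KK.1 hk).1
    have h2 : k * y = y * k := mul_inv_eq_iff_eq_mul.1 e
    -- `V = {1, u, y, y u}`
    have h3 : b = 1 ∨ b = u ∨ b = y ∨ b = y * u := by
      obtain ⟨x, hx, ex⟩ := h.ot.trans u hu hu1
      have hxi : x⁻¹ ∈ X := inv_mem hx
      have hb' : x⁻¹ * b * x ∈ V := by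
        have := (mem_normalizer_iff.1 (h.ot.X_V hxi) b).1 hb
        rwa [inv_inv] at this
      have hy' : x⁻¹ * y * x ∈ V := by
        have := (mem_normalizer_iff.1 (h.ot.X_V hxi) y).1 hy
        rwa [inv_inv] at this
      rcases h.ot.V_four (x⁻¹ * y * x) hy' (fun e0 => hy1 (by
        calc y = x * (x⁻¹ * y * x) * x⁻¹ := by group
          _ = 1 := by rw [e0]; group)) (fun e0 => hyu (by
        calc y = x * (x⁻¹ * y * x) * x⁻¹ := by group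
          _ = u := by rw [e0, ex])) (x⁻¹ * b * x) hb' with e0 | e0 | e0 | e0
      · left
        calc b = x * (x⁻¹ * b * x) * x⁻¹ := by group
          _ = 1 := by rw [e0]; group
      · right; left
        calc b = x * (x⁻¹ * b * x) * x⁻¹ := by group
          _ = u := by rw [e0, ex]
      · right; right; left
        calc b = x * (x⁻¹ * b * x) * x⁻¹ := by group
          _ = y := by rw [e0]; group
      · right; right; right
        calc b = x * (x⁻¹ * b * x) * x⁻¹ := by group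
          _ = y * (x * v * x⁻¹) := by rw [e0]; group
          _ = y * u := by rw [ex]
    rcases h3 with rfl | rfl | rfl | rfl
    · rw [mul_one, one_mul]
    · exact h1
    · exact h2
    · calc k * (y * u) = (k * y) * u := by group
        _ = y * (k * u) := by rw [h2]; group
        _ = y * u * k := by rw [h1]; group
  · exact e

section two

variable {w x : G} (hw : w ∈ normalizer (T : Set G)) (hp : w * v * w⁻¹ ≠ v) (hxT : x ∈ T) (hxx : x * x = 1)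
  (hx1 : x ≠ 1) (hTx : ∀ t ∈ T, t * x = x * t) (hXx : ∀ g ∈ X, g * x = x * g)
  (hXx' : ∀ g ∈ X, w * g * w⁻¹ * x = x * (w * g * w⁻¹))
include hw hxT hxx hx1 hTx hXx hXx'

theorem cj_X_cen {g : G} (hg : g ∈ cj w X) : g * x = x * g := by
  obtain ⟨y, hy, rfl⟩ := hg
  exact hXx' y hy

/-- `V`, `V^w` commute -/
theorem comm {y z : G} (hy : y ∈ V) (hz : z ∈ cj w V) : y * z = z * y := by
  have h1 := h.ot.le_zc h.hG hxx hx1 hTx hXx hy
  have h2 := (h.ot.cjN hw).le_zc h.hG hxx hx1 hTx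
    (fun g hg => h.cj_X_cen hw hxT hxx hx1 hTx hXx hXx' hg) hz
  exact zc_comm _ _ h1 _ h2

include hp

/-- `V^w ≤ O₂(C(u))` for `u ∈ V - ⟨v⟩`, if `X` does not centralise `p = v^w` -/
theorem V₂_le_q (hm : ∀ g ∈ X, g * (w * v * w⁻¹ * v) = w * v * w⁻¹ * v * g) {u : G} (hu : u ∈ V) (hu1 : u ≠ 1)
    (huv : u ≠ v) : cj w V ≤ qz u := by
  have hot' := h.ot.cjN hw
  have hcomm : ∀ y ∈ V, ∀ z ∈ cj w V, y * z = z * y := fun y hy z hz =>
    h.comm hw hxT hxx hx1 hTx hXx hXx' hy hz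
  have hpT : w * v * w⁻¹ ∈ T := hot'.V_T hot'.r_mem
  have hpp : w * v * w⁻¹ * (w * v * w⁻¹) = 1 := hot'.V_sq _ hot'.r_mem
  have hvT : v ∈ T := h.ot.V_T h.ot.r_mem
  have hvp : v * (w * v * w⁻¹) = w * v * w⁻¹ * v := hcomm v h.ot.r_mem _ hot'.r_mem
  -- `m = p v ∈ Z(O₂(C(u)))`
  have hmz : w * v * w⁻¹ * v ∈ zc (qz u) := by
    refine h.mem_zcq (mul_mem hpT hvT) ?_ ?_ hm hu hu1
    · calc w * v * w⁻¹ * v * (w * v * w⁻¹ * v) = w * v * w⁻¹ * (v * (w * v * w⁻¹)) * v := by group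
        _ = w * v * w⁻¹ * (w * v * w⁻¹) * (v * v) := by rw [hvp]; group
        _ = 1 := by rw [hpp, h.sq h.ot.r_mem, one_mul]
    · intro t ht
      calc t * (w * v * w⁻¹ * v) = (t * (w * v * w⁻¹)) * v := by group
        _ = w * v * w⁻¹ * (t * v) := by rw [hot'.T_r t ht]; group
        _ = w * v * w⁻¹ * v * t := by rw [h.ot.T_r t ht]; group
  refine tool (ξ := x) (fun z hz => mem_cent.2 (hcomm u hu z hz).symm)
    ((hot'.le_zc h.hG hxx hx1 hTx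
      (fun g hg => h.cj_X_cen hw hxT hxx hx1 hTx hXx hXx' hg)).trans (zc_le _)) ?_
  intro y hy d hd
  have hn : d * x * d⁻¹ ∈ zc (qz u) := by
    have h1 := h.mem_zcq hxT hxx hTx hXx hu hu1
    exact (mem_normalizer_iff.1 (normalizer_le_normalizer_zc _ (le_normalizer_o2 (cz u) hd)) x).1 h1
  rcases hot'.act (h.zT u hu hu1 hn) hy with e | e
  · exact (mul_inv_eq_iff_eq_mul.1 e).symm
  · exfalso
    apply h.v_notMem hu hu1 huv
    have h2 : y⁻¹ * (d * x * d⁻¹) * y ∈ zc (qz u) := by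
      have h3 : y ∈ cz u := mem_cent.2 (hcomm u hu y hy).symm
      have h4 := (mem_normalizer_iff.1 (normalizer_le_normalizer_zc _ (le_normalizer_o2 (cz u) (inv_mem h3))) _).1 hn
      rwa [inv_inv] at h4
    have e2 : w * v * w⁻¹ = y⁻¹ * (d * x * d⁻¹) * y * (d * x * d⁻¹)⁻¹ := by
      calc w * v * w⁻¹ = y⁻¹ * (y * (w * v * w⁻¹)) := by group
        _ = y⁻¹ * (d * x * d⁻¹ * y * (d * x * d⁻¹)⁻¹) := by rw [e]
        _ = _ := by group
    have h5 : w * v * w⁻¹ ∈ zc (qz u) := by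
      rw [e2]
      exact mul_mem h2 (inv_mem hn)
    have e3 : v = (w * v * w⁻¹)⁻¹ * (w * v * w⁻¹ * v) := by group
    rw [e3]
    exact mul_mem (inv_mem h5) hmz

/-- **`X` centralises `p = v^w`** -/
theorem cen_aux : ∀ g ∈ X, g * (w * v * w⁻¹) = w * v * w⁻¹ * g := by
  have hot' := h.ot.cjN hw
  have hT : cj w T = T := cj_eq_of_mem_normalizer hw
  have hcomm : ∀ y ∈ V, ∀ z ∈ cj w V, y * z = z * y := fun y hy z hz =>
    h.comm hw hxT hxx hx1 hTx hXx hXx' hy hz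
  have hpT : w * v * w⁻¹ ∈ T := hot'.V_T hot'.r_mem
  have hpp : w * v * w⁻¹ * (w * v * w⁻¹) = 1 := hot'.V_sq _ hot'.r_mem
  have hvT : v ∈ T := h.ot.V_T h.ot.r_mem
  have hvp : v * (w * v * w⁻¹) = w * v * w⁻¹ * v := hcomm v h.ot.r_mem _ hot'.r_mem
  obtain ⟨p, hpdef⟩ : ∃ p, p = w * v * w⁻¹ := ⟨_, rfl⟩
  by_contra hcon
  have hm := (h.dec (w * v * w⁻¹) hpT hpp hot'.T_r).resolve_left hcon
  have hV₂q := fun {u : G} (hu : u ∈ V) (hu1 : u ≠ 1) (huv : u ≠ v) =>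
    h.V₂_le_q hw hp hxT hxx hx1 hTx hXx hXx' hm hu hu1 huv
  rw [← hpdef] at hp hpT hpp hvp hm
  have hpV : p ∈ cj w V := by rw [hpdef]; exact hot'.r_mem
  have hvv := h.sq h.ot.r_mem
  have hv1 := h.ot.r_ne
  have hvV := h.ot.r_mem
  have hp1 : p ≠ 1 := by rw [hpdef]; exact hot'.r_ne
  obtain ⟨u, hu, hu1, huv⟩ := h.exists_u
  have huu := h.sq hu
  have huvc : u * v = v * u := h.ot.V_comm hu hvV
  obtain ⟨u', hu'⟩ : ∃ u', u' = u * v := ⟨_, rfl⟩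
  have hu'V : u' ∈ V := by rw [hu']; exact mul_mem hu hvV
  have hu'1 : u' ≠ 1 := by
    intro e
    rw [hu'] at e
    exact huv (by
      calc u = u * v * v := by rw [mul_assoc, hvv, mul_one]
        _ = v := by rw [e, one_mul])
  have hu'v : u' ≠ v := by
    intro e
    rw [hu'] at e
    exact hu1 (by
      calc u = u * v * v := by rw [mul_assoc, hvv, mul_one]
        _ = 1 := by rw [e, hvv])
  have hu'u : u' ≠ u := by
    intro e
    rw [hu'] at e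
    exact hv1 (mul_eq_left.1 e)
  -- `g ∈ W_{u'}` with `u^g = v`
  obtain ⟨g, hg, b, hb, hgb⟩ := h.WV u' hu'V hu'1
  have hgu : g * u * g⁻¹ = v := by
    rw [h.KK_move hu'V hu'1 hg hb hgb hu hu1 hu'u.symm, hu', huvc, mul_assoc, huu, mul_one]
  have hguv : ∀ y ∈ V, g * y * g⁻¹ ∈ V := fun y hy => by
    rcases h.KK_act hu'V hg (h.V_le_q hu'V hu'1 hy) with e | e
    · rw [e]; exact hy
    · rw [e]; exact mul_mem hu'V hy
  -- `V^w ≤ O₂(C(v))`
  have hV₂v : cj w V ≤ qz v := by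
    intro z hz
    have h1 : g⁻¹ * z * g ∈ qz u := by
      rcases h.KK_act hu'V (inv_mem hg) (hV₂q hu'V hu'1 hu'v hz) with e | e
      · rw [inv_inv] at e
        rw [e]; exact hV₂q hu hu1 huv hz
      · rw [inv_inv] at e
        rw [e]; exact mul_mem (h.V_le_q hu hu1 hu'V) (hV₂q hu hu1 huv hz)
    rw [← hgu, o2_cent_conj]
    exact mem_cj.2 h1
  -- `W_v` centralises `V^w`
  have hKv : ∀ k ∈ KK v, ∀ z ∈ cj w V, k * z = z * k := by
    intro k hk z hz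
    have hkT : k ∈ T := h.ot.q_le (h.KK_le_q hvV hv1 hk)
    rcases hot'.act hkT hz with e | e
    · exact mul_inv_eq_iff_eq_mul.1 e
    · exfalso
      rw [← hpdef] at e
      rcases h.KK_act hvV hk (hV₂v hz) with e2 | e2
      · rw [e2] at e
        exact hp1 (mul_eq_left.1 e.symm)
      · rw [e2] at e
        apply hp
        have e3 : z * p = z * v := by rw [← e, hcomm v hvV z hz]
        exact mul_left_cancel e3
  -- an element of `W_u` which centralises `V` centralises `V^w`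
  have hKu : ∀ c ∈ KK u, (∀ y ∈ V, c * y = y * c) → ∀ z ∈ cj w V, c * z = z * c := by
    intro c hc hcV z hz
    have h1 : g * c * g⁻¹ ∈ KK v := by rw [← hgu]; exact KK_conj hc
    have hguvi : ∀ y ∈ V, g⁻¹ * y * g ∈ V := fun y hy => by
      rcases h.KK_act hu'V (inv_mem hg) (h.V_le_q hu'V hu'1 hy) with e | e
      · rw [inv_inv] at e; rw [e]; exact hy
      · rw [inv_inv] at e; rw [e]; exact mul_mem hu'V hy
    have h2 : ∀ y ∈ V, g * c * g⁻¹ * y = y * (g * c * g⁻¹) := by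
      intro y hy
      have h3 := hcV _ (hguvi y hy)
      calc g * c * g⁻¹ * y = g * (c * (g⁻¹ * y * g)) * g⁻¹ := by group
        _ = y * (g * c * g⁻¹) := by rw [h3]; group
    have h3 : g * c * g⁻¹ * (g * z * g⁻¹) = g * z * g⁻¹ * (g * c * g⁻¹) := by
      rcases h.KK_act hu'V hg (hV₂q hu'V hu'1 hu'v hz) with e | e
      · rw [e]; exact hKv _ h1 z hz
      · rw [e]
        calc g * c * g⁻¹ * (u' * z) = (g * c * g⁻¹ * u') * z := by group
          _ = u' * (g * c * g⁻¹ * z) := by rw [h2 u' hu'V]; group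
          _ = u' * z * (g * c * g⁻¹) := by rw [hKv _ h1 z hz]; group
    calc c * z = g⁻¹ * (g * c * g⁻¹ * (g * z * g⁻¹)) * g := by group
      _ = z * c := by rw [h3]; group
  -- (T1)
  have hT1 : ∀ ρ ∈ T, (∃ z ∈ cj w V, ρ * z ≠ z * ρ) → ∃ y ∈ V, ρ * y ≠ y * ρ := by
    rintro ρ hρ ⟨z, hz, hρz⟩
    by_contra hcV
    push Not at hcV
    have hez : ρ * z * ρ⁻¹ = z * p := by
      rcases hot'.act hρ hz with e | e
      · exact absurd (mul_inv_eq_iff_eq_mul.1 e) hρz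
      · rw [hpdef]; exact e
    have hρp : ρ * p = p * ρ := by rw [hpdef]; exact hot'.T_r ρ hρ
    obtain ⟨k, hk, b, hb, hkb⟩ := h.WV u hu hu1
    have hρu := hcV u hu
    have hk' : ρ * k * ρ⁻¹ ∈ KK u := by
      have h1 : ρ * k * ρ⁻¹ ∈ KK (ρ * u * ρ⁻¹) := KK_conj hk
      have e : ρ * u * ρ⁻¹ = u := by rw [hρu]; group
      rwa [e] at h1
    have hkv : k * v * k⁻¹ = u * v := h.KK_move hu hu1 hk hb hkb hvV hv1 huv.symm
    -- `k p k⁻¹ = u p`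
    have hkp : k * p * k⁻¹ = u * p := by
      have hkm := h.KK_comm (c := p * v) (fun t ht => by
        have h1 := h.ot.T_r t ht
        have h2 : t * p = p * t := by rw [hpdef]; exact hot'.T_r t ht
        calc t * (p * v) = t * p * v := by group
          _ = p * (t * v) := by rw [h2]; group
          _ = p * v * t := by rw [h1]; group) hm hu hu1 hk
      calc k * p * k⁻¹ = (k * (p * v)) * v⁻¹ * k⁻¹ := by group
        _ = p * v * (k * v⁻¹ * k⁻¹) := by rw [hkm]; group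
        _ = p * v * (k * v * k⁻¹)⁻¹ := by group
        _ = p * v * (u * v)⁻¹ := by rw [hkv]
        _ = p * u⁻¹ := by group
        _ = p * u := by rw [inv_eq_of_mul_eq_one_left huu]
        _ = u * p := (hcomm u hu p hpV).symm
    -- `c = k' k⁻¹` centralises `V`, so `V^w`
    have hc : ρ * k * ρ⁻¹ * k⁻¹ ∈ KK u := mul_mem hk' (inv_mem hk)
    have hcV2 : ∀ y ∈ V, ρ * k * ρ⁻¹ * k⁻¹ * y = y * (ρ * k * ρ⁻¹ * k⁻¹) := by
      intro y hy
      have h1 : k⁻¹ * y * k ∈ V := by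
        rcases h.KK_act hu (inv_mem hk) (h.V_le_q hu hu1 hy) with e | e
        · rw [inv_inv] at e; rw [e]; exact hy
        · rw [inv_inv] at e; rw [e]; exact mul_mem hu hy
      have h2 := hcV _ h1
      have h3 := hcV _ hy
      have h4 : ρ⁻¹ * (k⁻¹ * y * k) * ρ = k⁻¹ * y * k := by
        calc ρ⁻¹ * (k⁻¹ * y * k) * ρ = ρ⁻¹ * (k⁻¹ * y * k * ρ) := by group
          _ = k⁻¹ * y * k := by rw [← h2]; group
      calc ρ * k * ρ⁻¹ * k⁻¹ * y = ρ * k * (ρ⁻¹ * (k⁻¹ * y * k) * ρ) * ρ⁻¹ * k⁻¹ := by group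
        _ = (ρ * y) * k * ρ⁻¹ * k⁻¹ := by rw [h4]; group
        _ = y * (ρ * k * ρ⁻¹ * k⁻¹) := by rw [h3]; group
    have hcz := hKu _ hc hcV2
    -- both `k`, `k'` map `z` to the same element
    have hkz : ∃ e : G, e ∈ V ∧ k * z * k⁻¹ = z * e := by
      rcases h.KK_act hu hk (hV₂q hu hu1 huv hz) with e | e
      · exact ⟨1, one_mem _, by rw [e, mul_one]⟩
      · exact ⟨u, hu, by rw [e]; exact hcomm u hu z hz⟩
    obtain ⟨e, heV, hke⟩ := hkz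
    have h5 : ρ * k * ρ⁻¹ * z * (ρ * k * ρ⁻¹)⁻¹ = k * z * k⁻¹ := by
      have h6 := hcz z hz
      have h6' := hcV2 e heV
      calc ρ * k * ρ⁻¹ * z * (ρ * k * ρ⁻¹)⁻¹
          = (ρ * k * ρ⁻¹ * k⁻¹) * (k * z * k⁻¹) * (ρ * k * ρ⁻¹ * k⁻¹)⁻¹ := by group
        _ = ((ρ * k * ρ⁻¹ * k⁻¹ * z) * e) * (ρ * k * ρ⁻¹ * k⁻¹)⁻¹ := by rw [hke]; group
        _ = (z * (ρ * k * ρ⁻¹ * k⁻¹ * e)) * (ρ * k * ρ⁻¹ * k⁻¹)⁻¹ := by rw [h6]; group
        _ = z * e := by rw [h6']; group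
        _ = k * z * k⁻¹ := hke.symm
    have h7 : ρ⁻¹ * z * ρ = z * p := by
      have h8 : ρ * (z * p) * ρ⁻¹ = z := by
        calc ρ * (z * p) * ρ⁻¹ = ρ * z * ρ⁻¹ * (ρ * p * ρ⁻¹) := by group
          _ = z * p * p := by rw [hez, hρp]; group
          _ = z := by rw [mul_assoc, hpp, mul_one]
      calc ρ⁻¹ * z * ρ = ρ⁻¹ * (ρ * (z * p) * ρ⁻¹) * ρ := by rw [h8]
        _ = z * p := by group
    have hρe := hcV e heV
    have h9 : ρ * k * ρ⁻¹ * z * (ρ * k * ρ⁻¹)⁻¹ = z * e * u := by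
      calc ρ * k * ρ⁻¹ * z * (ρ * k * ρ⁻¹)⁻¹ = ρ * (k * (ρ⁻¹ * z * ρ) * k⁻¹) * ρ⁻¹ := by group
        _ = ρ * ((k * z * k⁻¹) * (k * p * k⁻¹)) * ρ⁻¹ := by rw [h7]; group
        _ = ρ * (z * e * (u * p)) * ρ⁻¹ := by rw [hke, hkp]
        _ = (ρ * z * ρ⁻¹) * (ρ * e) * ρ⁻¹ * (ρ * u) * ρ⁻¹ * (ρ * p) * ρ⁻¹ := by group
        _ = z * p * e * u * p := by rw [hez, hρe, hρu, hρp]; group
        _ = z * e * u * (p * p) := by
            have h10 := hcomm e heV p hpV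
            have h11 := hcomm u hu p hpV
            calc z * p * e * u * p = z * (p * e) * u * p := by group
              _ = z * e * (p * u) * p := by rw [← h10]; group
              _ = z * e * u * (p * p) := by rw [← h11]; group
        _ = z * e * u := by rw [hpp, mul_one]
    rw [h5, hke] at h9
    exact hu1 (mul_eq_left.1 h9.symm)
  -- `ρ ∈ W_p` moves `V^w`
  obtain ⟨ρ₀, hρ₀, y₀, hy₀, hne₀⟩ := h.WV v hvV hv1
  obtain ⟨ρ, hρdef⟩ : ∃ ρ, ρ = w * ρ₀ * w⁻¹ := ⟨_, rfl⟩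
  have hρK : ρ ∈ KK p := by rw [hρdef, hpdef]; exact KK_conj hρ₀
  have hρT : ρ ∈ T := by
    rw [← hT, hρdef]
    exact mem_cj_mk (h.ot.q_le (h.KK_le_q hvV hv1 hρ₀))
  have hρz : ρ * (w * y₀ * w⁻¹) ≠ w * y₀ * w⁻¹ * ρ := by
    rw [hρdef]
    intro e
    apply hne₀
    calc ρ₀ * y₀ = w⁻¹ * (w * ρ₀ * w⁻¹ * (w * y₀ * w⁻¹)) * w := by group
      _ = y₀ * ρ₀ := by rw [e]; group
  have hz₀ : w * y₀ * w⁻¹ ∈ cj w V := mem_cj_mk hy₀
  have hV₂p : cj w V ≤ qz p := by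
    rw [hpdef, o2_cent_conj]
    exact cj_mono w (h.V_le_q hvV hv1)
  have hqpT : qz p ≤ T := by rw [hpdef]; exact hot'.q_le
  have hxp : x ∈ zc (qz p) := by
    have h2 : x ∈ centralizer (qz p : Set G) := mem_centralizer_iff.2 fun q hq => hTx q (hqpT hq)
    have h3 : x ∈ qz p := char2_centralizer h.hG (by rw [pow_two]; exact hpp) hp1
      ⟨mem_cent.2 (by rw [hpdef]; exact hot'.T_r x hxT), h2⟩
    exact mem_zc.2 ⟨h3, fun q hq => mem_centralizer_iff.1 h2 q hq, by rw [pow_two]; exact hxx⟩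
  -- `V ≤ O₂(C(p))`
  have hVp : V ≤ qz p := by
    refine tool (ξ := x) (fun y hy => mem_cent.2 (hcomm y hy p hpV))
      ((h.ot.le_zc h.hG hxx hx1 hTx hXx).trans (zc_le _)) ?_
    intro y hy d hd
    have hn : d * x * d⁻¹ ∈ zc (qz p) :=
      (mem_normalizer_iff.1 (normalizer_le_normalizer_zc _ (le_normalizer_o2 (cz p) hd)) x).1 hxp
    obtain ⟨n, hndef⟩ : ∃ n, n = d * x * d⁻¹ := ⟨_, rfl⟩
    rw [← hndef] at hn ⊢
    obtain ⟨hn1, hn2, -⟩ := mem_zc.1 hn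
    have hnT := hqpT hn1
    by_contra hny
    have hny' : n * y ≠ y * n := fun e => hny e.symm
    -- `ρ` moves `V`
    obtain ⟨y', hy', hρy'⟩ := hT1 ρ hρT ⟨_, hz₀, hρz⟩
    -- every element of `T` moving something in `V` maps `y` to `y v` for `y ∉ ⟨v⟩`
    have hact : ∀ t ∈ T, (∃ a ∈ V, t * a ≠ a * t) → ∀ a ∈ V, a ≠ 1 → a ≠ v → t * a * t⁻¹ = a * v := by
      rintro t ht ⟨a', ha', hta'⟩ a ha ha1 hav
      rcases h.ot.act ht ha with e | e
      · exfalso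
        apply hta'
        have h1 : t * a = a * t := mul_inv_eq_iff_eq_mul.1 e
        rcases h.ot.V_four a ha ha1 hav a' ha' with e' | e' | e' | e'
        · rw [e', mul_one, one_mul]
        · rw [e']; exact h.ot.T_r t ht
        · rw [e']; exact h1
        · rw [e']
          calc t * (a * v) = (t * a) * v := by group
            _ = a * (t * v) := by rw [h1]; group
            _ = a * v * t := by rw [h.ot.T_r t ht]; group
      · exact e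
    have hρn : ∀ a ∈ V, ρ * n * a = a * (ρ * n) := by
      intro a ha
      by_cases ha1 : a = 1
      · rw [ha1, mul_one, one_mul]
      by_cases hav : a = v
      · rw [hav]
        calc ρ * n * v = ρ * (n * v) := by group
          _ = (ρ * v) * n := by rw [h.ot.T_r n hnT]; group
          _ = v * (ρ * n) := by rw [h.ot.T_r ρ hρT]; group
      · have h1 := hact n hnT ⟨y, hy, hny'⟩ a ha ha1 hav
        have h2 := hact ρ hρT ⟨y', hy', hρy'⟩ a ha ha1 hav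
        have h3 := h.ot.T_r ρ hρT
        have h4 : ρ * n * a * (ρ * n)⁻¹ = a := by
          calc ρ * n * a * (ρ * n)⁻¹ = ρ * (n * a * n⁻¹) * ρ⁻¹ := by group
            _ = (ρ * a * ρ⁻¹) * (ρ * v) * ρ⁻¹ := by rw [h1]; group
            _ = a * v * (v * ρ) * ρ⁻¹ := by rw [h2, h3]
            _ = a * (v * v) := by group
            _ = a := by rw [hvv, mul_one]
        exact mul_inv_eq_iff_eq_mul.1 h4
    have hρnz : ρ * n * (w * y₀ * w⁻¹) ≠ w * y₀ * w⁻¹ * (ρ * n) := by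
      intro e
      apply hρz
      have h1 := hn2 _ (hV₂p hz₀)
      have h2 : ρ * (w * y₀ * w⁻¹) * n = w * y₀ * w⁻¹ * ρ * n := by
        calc ρ * (w * y₀ * w⁻¹) * n = ρ * ((w * y₀ * w⁻¹) * n) := by group
          _ = ρ * n * (w * y₀ * w⁻¹) := by rw [h1]; group
          _ = w * y₀ * w⁻¹ * ρ * n := by rw [e]; group
      exact mul_right_cancel h2
    obtain ⟨a, ha, hne⟩ := hT1 (ρ * n) (mul_mem hρT hnT) ⟨_, hz₀, hρnz⟩
    exact hne (hρn a ha)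
  -- the end
  obtain ⟨a, ha, hρa⟩ := hT1 ρ hρT ⟨_, hz₀, hρz⟩
  rcases h.ot.act hρT ha with e | e
  · exact hρa (mul_inv_eq_iff_eq_mul.1 e)
  · rcases (mem_zpowers_iff_of_sq hpp).1 ((mem_KK.1 hρK).2 a (hVp ha)) with e2 | e2
    · exact hρa (mul_inv_eq_iff_eq_mul.1 (mul_inv_eq_one.1 e2))
    · apply hp
      have e3 : ρ * a * ρ⁻¹ = p * a := mul_inv_eq_iff_eq_mul.1 e2
      rw [e3, hcomm a ha p hpV |>.symm] at e
      exact mul_left_cancel e

end two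

section main

variable {w : G} (hw : w ∈ normalizer (T : Set G))
include hw

/-- a common element of `Ω₁Z(T) ∩ C(X)` and `Ω₁Z(T) ∩ C(X^w)` -/
theorem exists_x : ∃ x ∈ T, x * x = 1 ∧ x ≠ 1 ∧ (∀ t ∈ T, t * x = x * t) ∧ (∀ g ∈ X, g * x = x * g) ∧
    ∀ g ∈ X, w * g * w⁻¹ * x = x * (w * g * w⁻¹) := by
  have hT : cj w T = T := cj_eq_of_mem_normalizer hw
  have hTi : ∀ t ∈ T, w⁻¹ * t * w ∈ T := fun t ht => by
    rw [← hT, mem_cj] at ht
    exact ht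
  have hTw : ∀ t ∈ T, w * t * w⁻¹ ∈ T := fun t ht => by rw [← hT]; exact mem_cj_mk ht
  have key : ∀ x ∈ T, x * x = 1 → (∀ t ∈ T, t * x = x * t) →
      (∀ g ∈ X, w * g * w⁻¹ * x = x * (w * g * w⁻¹)) ∨ ∀ g ∈ X, g * (w⁻¹ * x * w * v) = w⁻¹ * x * w * v * g := by
    intro x hx hxx hTx
    rcases h.dec (w⁻¹ * x * w) (hTi x hx) (by
      calc w⁻¹ * x * w * (w⁻¹ * x * w) = w⁻¹ * (x * x) * w := by group
        _ = 1 := by rw [hxx]; group) (fun t ht => by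
      calc t * (w⁻¹ * x * w) = w⁻¹ * (w * t * w⁻¹ * x) * w := by group
        _ = w⁻¹ * x * w * t := by rw [hTx _ (hTw t ht)]; group) with e | e
    · left
      intro g hg
      calc w * g * w⁻¹ * x = w * (g * (w⁻¹ * x * w)) * w⁻¹ := by group
        _ = x * (w * g * w⁻¹) := by rw [e g hg]; group
    · exact Or.inr e
  obtain ⟨x₁, hx₁T, x₂, hx₂T, ⟨h₁₁, h₁₂, h₁₃, h₁₄⟩, ⟨h₂₁, h₂₂, h₂₃, h₂₄⟩, hne⟩ := h.two
  rcases key x₁ hx₁T h₁₁ h₁₃ with e₁ | e₁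
  · exact ⟨x₁, hx₁T, h₁₁, h₁₂, h₁₃, h₁₄, e₁⟩
  rcases key x₂ hx₂T h₂₁ h₂₃ with e₂ | e₂
  · exact ⟨x₂, hx₂T, h₂₁, h₂₂, h₂₃, h₂₄, e₂⟩
  have h12 : x₁ * x₂ = x₂ * x₁ := h₂₃ x₁ hx₁T
  have hvv := h.sq h.ot.r_mem
  refine ⟨x₁ * x₂, mul_mem hx₁T hx₂T, ?_, ?_, ?_, ?_, ?_⟩
  · calc x₁ * x₂ * (x₁ * x₂) = x₁ * x₂ * (x₂ * x₁) := by rw [h12]
      _ = x₁ * (x₂ * x₂) * x₁ := by group
      _ = 1 := by rw [h₂₁, mul_one, h₁₁]
  · intro e
    apply hne
    calc x₁ = x₁ * (x₂ * x₂) := by rw [h₂₁, mul_one]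
      _ = x₁ * x₂ * x₂ := by group
      _ = x₂ := by rw [e, one_mul]
  · intro t ht
    calc t * (x₁ * x₂) = (t * x₁) * x₂ := by group
      _ = x₁ * (t * x₂) := by rw [h₁₃ t ht]; group
      _ = x₁ * x₂ * t := by rw [h₂₃ t ht]; group
  · intro t ht
    calc t * (x₁ * x₂) = (t * x₁) * x₂ := by group
      _ = x₁ * (t * x₂) := by rw [h₁₄ t ht]; group
      _ = x₁ * x₂ * t := by rw [h₂₄ t ht]; group
  · intro g hg
    -- `(x₁^{w⁻¹} v)(x₂^{w⁻¹} v) = (x₁ x₂)^{w⁻¹}`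
    have hv1 : v * (w⁻¹ * x₂ * w) = w⁻¹ * x₂ * w * v := by
      exact (h.ot.T_r _ (hTi x₂ hx₂T)).symm
    have e3 : w⁻¹ * x₁ * w * v * (w⁻¹ * x₂ * w * v) = w⁻¹ * (x₁ * x₂) * w := by
      calc w⁻¹ * x₁ * w * v * (w⁻¹ * x₂ * w * v) = w⁻¹ * x₁ * w * (v * (w⁻¹ * x₂ * w)) * v := by group
        _ = w⁻¹ * x₁ * w * (w⁻¹ * x₂ * w) * (v * v) := by rw [hv1]; group
        _ = w⁻¹ * (x₁ * x₂) * w := by rw [hvv]; group
    have e4 : g * (w⁻¹ * (x₁ * x₂) * w) = w⁻¹ * (x₁ * x₂) * w * g := by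
      rw [← e3]
      calc g * (w⁻¹ * x₁ * w * v * (w⁻¹ * x₂ * w * v)) = (g * (w⁻¹ * x₁ * w * v)) * (w⁻¹ * x₂ * w * v) := by group
        _ = w⁻¹ * x₁ * w * v * (g * (w⁻¹ * x₂ * w * v)) := by rw [e₁ g hg]; group
        _ = w⁻¹ * x₁ * w * v * (w⁻¹ * x₂ * w * v) * g := by rw [e₂ g hg]; group
    calc w * g * w⁻¹ * (x₁ * x₂) = w * (g * (w⁻¹ * (x₁ * x₂) * w)) * w⁻¹ := by group
      _ = x₁ * x₂ * (w * g * w⁻¹) := by rw [e4]; group

variable (hp : w * v * w⁻¹ ≠ v)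
include hp

/-- **NOT PARALLEL: `X` centralises `v^w`** -/
theorem cen {g : G} (hg : g ∈ X) : g * (w * v * w⁻¹) = w * v * w⁻¹ * g := by
  obtain ⟨x, h1, h2, h3, h4, h5, h6⟩ := h.exists_x hw
  exact h.cen_aux hw hp h1 h2 h3 h4 h5 h6 g hg

/-- **`X^w` centralises `v`** -/
theorem cen' {g : G} (hg : g ∈ X) : w * g * w⁻¹ * v = v * (w * g * w⁻¹) := by
  have h1 := h.cen (inv_mem hw) (fun e => hp (by
    rw [inv_inv] at e
    calc w * v * w⁻¹ = w * (w⁻¹ * v * w) * w⁻¹ := by rw [e]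
      _ = v := by group)) hg
  rw [inv_inv] at h1
  calc w * g * w⁻¹ * v = w * (g * (w⁻¹ * v * w)) * w⁻¹ := by group
    _ = v * (w * g * w⁻¹) := by rw [h1]; group

/-- **`V^w ≤ Ω₁Z(O₂(C(v)))`** -/
theorem mem_zc {y : G} (hy : y ∈ V) : w * y * w⁻¹ ∈ zc (qz v) := by
  refine (h.ot.cjN hw).le_zc h.hG (h.sq h.ot.r_mem) h.ot.r_ne h.ot.T_r ?_ (mem_cj_mk hy)
  rintro _ ⟨g, hg, rfl⟩
  exact h.cen' hw hp hg

/-- **`V ≤ Ω₁Z(O₂(C(v^w)))`** -/
theorem mem_zc' {y : G} (hy : y ∈ V) : y ∈ zc (qz (w * v * w⁻¹)) :=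
  h.ot.le_zc h.hG ((h.ot.cjN hw).V_sq _ (h.ot.cjN hw).r_mem) (h.ot.cjN hw).r_ne (h.ot.cjN hw).T_r
    (fun _ hg => h.cen hw hp hg) hy

/-- the second line over `T`, with `X^w ≤ C(v)` -/
theorem otD : OtD T (cj w V) (cj w X) (w * v * w⁻¹) ∧ ∀ g ∈ cj w X, g * v = v * g := by
  refine ⟨h.ot.cjN hw, ?_⟩
  rintro _ ⟨g, hg, rfl⟩
  exact h.cen' hw hp hg

end main

end Par

end Cfsg.Agent.Omega.HT.OtCore

end

section


/-!
# `BigU2`: the end of II.0h1 over `T` with the second line `V^w`, `w ∈ N_G(T)` (bb OMEGA 22450)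

`Par.false_of` : `BTS V R`, `OtD` and `Par T V X r`, `X ≥ ⟨W_i⟩`, LEMMA E, an element `w ∈ N(T)` with `r^w ≠ r`, and the
module `Y` of `C(c r)` for every `c ∈ Ω₁Z(T) ∩ C(⟨W_i⟩)`, `c ≠ 1`, with `Sig V R o c`: contradiction.
-/

set_option autoImplicit false
set_option linter.unusedSectionVars false

namespace Cfsg.Agent.Omega.HT.OtCore

open Subgroup Cfsg Cfsg.Agent.MinSimple.VModule Cfsg.Agent.Omega.HOneTwo Cfsg.Agent.Omega.HT.TComp Cfsg.Agent.Omega.BTwo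
open Cfsg.Agent.ZN (zc o2)
open Cfsg.Agent.Omega.HTwo.ThmA (LE)
open Cfsg.Agent.Omega.HTwo.AlphaP (MP)

universe u

variable {G : Type u} [Group G] [Finite G] {ι : Type*} {T V : Subgroup G} {R : ι → Subgroup G} {o : ι} {r : G}

namespace Par

variable {X : Subgroup G} (h : Par T V X r)
include h

/-- `Ω₁Z(T) ≤ O₂(C(u))` for `u ∈ V#` -/
theorem zc_le_q {u : G} (hu : u ∈ V) (hu1 : u ≠ 1) : zc T ≤ o2 (centralizer ({u} : Set G)) := by
  intro z hz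
  obtain ⟨hzT, hTz, hzz⟩ := ZN.mem_zc.1 hz
  rw [pow_two] at hzz
  rcases h.dec z hzT hzz hTz with h1 | h1
  · exact ZN.zc_le _ (h.mem_zcq hzT hzz hTz h1 hu hu1)
  · have hrT : r ∈ T := h.ot.V_T h.ot.r_mem
    have hrr := h.sq h.ot.r_mem
    have hzr : z * r = r * z := h.ot.T_r z hzT
    have h2 : z * r ∈ zc (o2 (centralizer ({u} : Set G))) := by
      refine h.mem_zcq (mul_mem hzT hrT) ?_ (fun t ht => ?_) h1 hu hu1
      · calc z * r * (z * r) = z * (r * z) * r := by group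
          _ = z * z * (r * r) := by rw [← hzr]; group
          _ = 1 := by rw [hzz, hrr, one_mul]
      · calc t * (z * r) = (t * z) * r := by group
          _ = z * (t * r) := by rw [hTz t ht]; group
          _ = z * r * t := by rw [h.ot.T_r t ht]; group
    have e : z = z * r * r := by rw [mul_assoc, hrr, mul_one]
    rw [e]
    exact mul_mem (ZN.zc_le _ h2) (h.V_le_q hu hu1 h.ot.r_mem)

end Par

/-- **`BigU2`, the end.** -/
theorem Par.false_of (b : BTS V R) (hr : ∀ x, x ∈ R o ↔ x = 1 ∨ x = r) (h0 : OtD T V (XX V R) r)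
    {X : Subgroup G} (h : Par T V X r) (hX : XX V R ≤ X)
    (hLE : ∀ i, LE V R i) {w : G} (hw : w ∈ normalizer (T : Set G)) (hwr : w * r * w⁻¹ ≠ r)
    (hY : ∀ c ∈ zc T, c ∈ CenX V R → c ≠ 1 → Sig V R o c →
      ∃ Y ≤ centralizer ({c * r} : Set G), GSysW (centralizer ({c * r} : Set G)) Y r) : False := by
  have hb := OtD.htt b hr h0 h.hG fun v hv hv1 => h.zc_le_q hv hv1
  have hmem : ∀ {x : G}, x ∈ T → x * x = 1 → (∀ t ∈ T, t * x = x * t) → (∀ g ∈ X, g * x = x * g) →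
      x ∈ zc T ⊓ centralizer ((T ⊔ XX V R : Subgroup G) : Set G) := fun {x} h1 h2 h3 h4 =>
    OtD.mem_Z0 (ZN.mem_zc.2 ⟨h1, h3, by rw [pow_two]; exact h2⟩) (mem_centralizer_iff.2 fun g hg => h4 g (hX hg))
  obtain ⟨x, hx, y, hy, ⟨hxx, hx1, hxT, hxX⟩, ⟨hyy, hy1, hyT, hyX⟩, hne⟩ := h.two
  apply hne
  refine EndCore.main hb hLE hr h0 (fun _ c hcz hs => ?_) x (hmem hx hxx hxT hxX) y (hmem hy hyy hyT hyX) hx1 hy1
  by_cases hc1 : c = 1
  · obtain ⟨z, hzT, hzz, hz1, hTz, hXz, hXwz⟩ := h.exists_x hw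
    obtain ⟨h2, hXr⟩ := h.otD hw hwr
    refine ⟨z, hmem hzT hzz hTz hXz, hz1, Or.inl hc1, EndCore.not_alpha hb hr h0 hLE (hmem hzT hzz hTz hXz) hz1 h2
      hXr ?_ fun _ hT hX _ _ => h2.ot hT hX⟩
    rintro _ ⟨g, hg, rfl⟩
    exact hXwz g hg
  · have hcX : c ∈ CenX V R := centralizer_le (fun x hx => mem_sup_right hx) hcz.2
    exact ⟨c, hcz, hc1, Or.inr rfl, Main.not_alpha hb hLE hr hcz hc1 (EndCore.core hb hr h0 hcz)
      (hY c hcz.1 hcX hc1 hs)⟩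

end Cfsg.Agent.Omega.HT.OtCore

end

section


/-!
# CvBig, BigU2 (bb OMEGA 22450, helper932): LEMMA W and the module `Y` for `C_G(c v_i)`

`Wd S Q V v i T c` : 165's frame `Sd S Q V v`, `T ∈ Syl₂(C_G(v_i))`, `C_S(v_i) ≤ T ≤ N(V_i)`, `c ∈ Ω₁Z(Q)` is
centralised by `N_G(V_i)`, and `V_i^w ≤ Ω₁Z(Q_{v_i})` for `w ∈ N(T)`, `w² ∈ T`, `w ∉ C(v_i)`.

* `Kd.le_cz`, `Kd.comm_Ym` : **LEMMA W**: `C ≤ K` normal in `C_G(c v_i)`, `K/C` a 2-group, `C` centralises `Ym` ⇒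
  `K` centralises `v_i` and `Ym = C_{Ω₁Z(Q)}(W_{v_i})`;
* `Wd.exists_Y` : the module `Y` of `C_G(c v_i)` (`GSysW`).
-/

set_option autoImplicit false
set_option linter.unusedSectionVars false

namespace Cfsg.Agent.Omega.IId.CvBig.U2W

open Subgroup Cfsg
open Cfsg.Agent.ZN (o2 zc)
open Cfsg.Agent.MinSimple.VModule (le_o2 le_normalizer_o2 mem_zc o2_isPGroup o2_le normalizer_le_normalizer_zc)
open Triangle (KK KK_conj KK_le_o2 mem_cent mem_KK mem_zpowers_iff_of_sq cent_conj o2_cent_conj)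
open Big (Fr Vo cz qz conj_mem norm_of comm_of_conj conj_of_comm isPGroup_of_sq le_Vo Vo_le cent_of_closure
  norm_o2 le_o2_of sq_of_closure)
open Surv (Sd CX mem_CX LL mem_LL S0 mem_S0 exists_sq)

universe u

variable {G : Type u} [Group G]

/-! ### Tools -/

section tools

theorem mem_norm [Finite G] {B : Subgroup G} {g : G} (h : ∀ x ∈ B, g * x * g⁻¹ ∈ B) :
    g ∈ normalizer (B : Set G) := mem_normalizer_fintype (S := (B : Set G)) fun n hn => h n hn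

theorem conj_inv_mem {B : Subgroup G} {g x : G} (h : g ∈ normalizer (B : Set G)) (hx : x ∈ B) : g⁻¹ * x * g ∈ B := by
  have := (mem_normalizer_iff.1 (inv_mem h) x).1 hx
  rwa [inv_inv] at this

/-- `K ≤ C (T ∩ K)` for `T ∈ Syl₂(H)`, `K / C` a 2-group -/
theorem le_sup_of_odd [Finite G] {T H K C : Subgroup G} (hT : IsPGroup 2 T)
    (hodd : ¬ 2 ∣ T.relIndex H) (hKH : K ≤ H) (hHK : H ≤ normalizer (K : Set G))
    (hHC : H ≤ normalizer (C : Set G)) (hp : ∀ x ∈ K, ∃ n : ℕ, x ^ 2 ^ n ∈ C) : K ≤ C ⊔ (T ⊓ K) := by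
  have hf : Fact (Nat.Prime 2) := ⟨Nat.prime_two⟩
  have h1 : IsPGroup 2 (T.subgroupOf H) := hT.comap_of_injective _ H.subtype_injective
  have hn : (K.subgroupOf H).Normal := normal_subgroupOf_of_le_normalizer hHK
  have hn2 : (C.subgroupOf H).Normal := normal_subgroupOf_of_le_normalizer hHC
  have h2 := Lib.SylowNormalInf.le_sup_inf (h1.toSylow hodd : Sylow 2 H)
    (K.subgroupOf H) (C.subgroupOf H) (fun x hx => by
      obtain ⟨k, hk⟩ := hp x hx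
      exact ⟨k, hk⟩)
  have h3 := Subgroup.map_mono (f := H.subtype) h2
  rw [subgroupOf_map_subtype, inf_eq_left.mpr hKH, Subgroup.map_sup, subgroupOf_map_subtype] at h3
  refine h3.trans (sup_le_sup inf_le_left ?_)
  rintro _ ⟨x, hx, rfl⟩
  exact hx

/-- an element of 2-power order does not act as a 3-cycle -/
theorem no_three {y a b c : G} {n : ℕ} (h1 : y * a * y⁻¹ = b) (h2 : y * b * y⁻¹ = c) (h3 : y * c * y⁻¹ = a)
    (hab : a ≠ b) (hn : y ^ 2 ^ n * a = a * y ^ 2 ^ n) : False := by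
  have h4 : y ^ 3 ∈ centralizer ({a} : Set G) := by
    refine mem_cent.2 (comm_of_conj ?_)
    calc y ^ 3 * a * (y ^ 3)⁻¹ = y * (y * (y * a * y⁻¹) * y⁻¹) * y⁻¹ := by
          rw [pow_succ, pow_succ, pow_one]; group
      _ = a := by rw [h1, h2, h3]
  have h5 : y ^ 2 ^ n ∈ centralizer ({a} : Set G) := mem_cent.2 hn
  have hcop : IsCoprime (3 : ℤ) ((2 : ℤ) ^ n) := (show IsCoprime (3 : ℤ) 2 from ⟨1, -1, by norm_num⟩).pow_right
  obtain ⟨s, t, hst⟩ := hcop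
  have h6 : y = (y ^ 3) ^ s * (y ^ 2 ^ n) ^ t := by
    have e1 : (y ^ 3) ^ s = y ^ (3 * s) := by rw [zpow_mul]; norm_cast
    have e2 : (y ^ 2 ^ n) ^ t = y ^ ((2 : ℤ) ^ n * t) := by rw [zpow_mul]; norm_cast
    rw [e1, e2, ← zpow_add]
    have : 3 * s + (2 : ℤ) ^ n * t = 1 := by rw [← hst]; ring
    rw [this, zpow_one]
  have h7 : y ∈ centralizer ({a} : Set G) := by
    rw [h6]
    exact mul_mem (zpow_mem h4 s) (zpow_mem h5 t)
  apply hab
  rw [← h1, conj_of_comm (mem_cent.1 h7)]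

/-- a group `A` of elements normalising `V j`, acting on it as elements of 2-power order, invariant under all `W_p`,
centralises `V j` -/
theorem four_trans [Finite G] {ι : Type} {S : Subgroup G} {V : ι → Subgroup G} (fr : Fr S V) {j : ι} {A : Subgroup G}
    (hA : ∀ x ∈ A, ∀ z ∈ V j, x * z * x⁻¹ ∈ V j)
    (hp : ∀ x ∈ A, ∃ n : ℕ, ∀ z ∈ V j, x ^ 2 ^ n * z = z * x ^ 2 ^ n)
    (hX : ∀ p ∈ V j, p ≠ 1 → ∀ g ∈ KK p, ∀ x ∈ A, g * x * g⁻¹ ∈ A) : ∀ x ∈ A, ∀ z ∈ V j, x * z = z * x := by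
  intro x hx z hz
  by_contra hcon
  have hz1 : z ≠ 1 := by
    rintro rfl
    exact hcon (by rw [mul_one, one_mul])
  obtain ⟨a, ha⟩ : ∃ a, a = x * z * x⁻¹ := ⟨_, rfl⟩
  have haV : a ∈ V j := ha ▸ hA x hx z hz
  have ha1 : a ≠ 1 := by
    rintro h0
    rw [h0] at ha
    apply hz1
    calc z = x⁻¹ * (x * z * x⁻¹) * x := by group
      _ = 1 := by rw [← ha]; group
  have hza : z ≠ a := by
    intro h0
    rw [← h0] at ha
    exact hcon (comm_of_conj ha.symm)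
  have hzz := fr.sq j z hz
  have haa := fr.sq j a haV
  have hcomm : z * a = a * z := fr.comm j j z hz a haV
  -- the image of `a`
  have hb : x * a * x⁻¹ = z ∨ x * a * x⁻¹ = z * a := by
    have h1 := hA x hx a haV
    rcases fr.cases4 hz haV hz1 ha1 hza h1 with h2 | h2 | h2 | h2
    · exfalso
      apply ha1
      calc a = x⁻¹ * (x * a * x⁻¹) * x := by group
        _ = 1 := by rw [h2]; group
    · exact Or.inl h2
    · exfalso
      apply hza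
      have h3 : x * a * x⁻¹ = x * z * x⁻¹ := by rw [h2, ha]
      exact (mul_left_cancel (mul_right_cancel h3)).symm
    · exact Or.inr h2
  rcases hb with hb | hb
  · -- `x` swaps `z` and `a`
    obtain ⟨g, hg, hga⟩ := fr.move hz haV hz1 ha1 hza
    have hgz : g * z * g⁻¹ = z := conj_of_comm (Fr.KK_comm hg)
    have hxp : x * (z * a) * x⁻¹ = z * a := by
      calc x * (z * a) * x⁻¹ = (x * z * x⁻¹) * (x * a * x⁻¹) := by group
        _ = z * a := by rw [← ha, hb, hcomm]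
    have hgp : g * (z * a) * g⁻¹ = a := by
      calc g * (z * a) * g⁻¹ = (g * z * g⁻¹) * (g * a * g⁻¹) := by group
        _ = (z * z) * a := by rw [hgz, hga]; group
        _ = a := by rw [hzz, one_mul]
    have hgi : g⁻¹ * a * g = z * a := by
      calc g⁻¹ * a * g = g⁻¹ * (g * (z * a) * g⁻¹) * g := by rw [hgp]
        _ = z * a := by group
    have hgi' : g⁻¹ * (z * a) * g = a := by
      calc g⁻¹ * (z * a) * g = g⁻¹ * (g * a * g⁻¹) * g := by rw [hga]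
        _ = a := by group
    have hgiz : g⁻¹ * z * g = z := by
      calc g⁻¹ * z * g = g⁻¹ * (g * z * g⁻¹) * g := by rw [hgz]
        _ = z := by group
    have hx' := hX z hz hz1 g hg x hx
    have hy := mul_mem hx hx'
    obtain ⟨n, hn⟩ := hp _ hy
    refine no_three (y := x * (g * x * g⁻¹)) (a := z) (b := z * a) (c := a) (n := n) ?_ ?_ ?_ ?_ (hn z hz)
    · calc x * (g * x * g⁻¹) * z * (x * (g * x * g⁻¹))⁻¹ = x * (g * (x * (g⁻¹ * z * g) * x⁻¹) * g⁻¹) * x⁻¹ := by group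
        _ = z * a := by rw [hgiz, ← ha, hga, hxp]
    · calc x * (g * x * g⁻¹) * (z * a) * (x * (g * x * g⁻¹))⁻¹
          = x * (g * (x * (g⁻¹ * (z * a) * g) * x⁻¹) * g⁻¹) * x⁻¹ := by group
        _ = a := by rw [hgi', hb, hgz, ← ha]
    · calc x * (g * x * g⁻¹) * a * (x * (g * x * g⁻¹))⁻¹
          = x * (g * (x * (g⁻¹ * a * g) * x⁻¹) * g⁻¹) * x⁻¹ := by group
        _ = z := by rw [hgi, hxp, hgp, hb]
    · intro h0
      exact ha1 (mul_eq_left.1 h0.symm)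
  · -- a 3-cycle
    obtain ⟨n, hn⟩ := hp x hx
    refine no_three (y := x) (a := z) (b := a) (c := z * a) (n := n) ha.symm hb ?_ hza (hn z hz)
    calc x * (z * a) * x⁻¹ = (x * z * x⁻¹) * (x * a * x⁻¹) := by group
      _ = (a * z) * a := by rw [← ha, hb]; group
      _ = z * (a * a) := by rw [← hcomm]; group
      _ = z := by rw [haa, mul_one]

end tools

/-! ### The set-up -/

/-- `T ∈ Syl₂(C_G(v_i))`, `C_S(v_i) ≤ T ≤ N(V_i)`, `c` centralised by `N_G(V_i)`. -/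
structure Wd [Finite G] {ι : Type} (S : Sylow 2 G) (Q : Subgroup G) (V : ι → Subgroup G) (v : ι → G) (i : ι)
    (T : Subgroup G) (c : G) : Prop where
  sd : Sd (S : Subgroup G) Q V v
  Tp : IsPGroup 2 T
  T1T : (S : Subgroup G) ⊓ cz (v i) ≤ T
  TV : ∀ t ∈ T, ∀ x ∈ V i, t * x * t⁻¹ ∈ V i
  Tc : T ≤ cz (v i)
  odd : ¬ 2 ∣ T.relIndex (cz (v i))
  cQ : c ∈ zc Q
  cN : ∀ g : G, (∀ x ∈ V i, g * x * g⁻¹ ∈ V i) → g * c = c * g
  hU : ∀ w ∈ normalizer (T : Set G), w * w ∈ T → w ∉ cz (v i) → ∀ x ∈ V i, w * x * w⁻¹ ∈ zc (qz (v i))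

/-- `C_{Ω₁Z(Q)}(W_{v_i})` -/
def Ym {ι : Type} (Q : Subgroup G) (v : ι → G) (i : ι) : Subgroup G := zc Q ⊓ centralizer (KK (v i) : Set G)

theorem mem_Ym {ι : Type} {Q : Subgroup G} {v : ι → G} {i : ι} {z : G} :
    z ∈ Ym Q v i ↔ z ∈ zc Q ∧ ∀ g ∈ KK (v i), g * z = z * g := by
  rw [Ym, mem_inf, mem_centralizer_iff]
  rfl

namespace Wd

variable [Finite G] {ι : Type} {S : Sylow 2 G} {Q : Subgroup G} {V : ι → Subgroup G} {v : ι → G} {i : ι}
  {T : Subgroup G} {c : G} (h : Wd S Q V v i T c)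
include h

theorem vi1 : v i ≠ 1 := h.sd.v1 i

theorem QT1 : Q ≤ (S : Subgroup G) ⊓ cz (v i) := fun q hq =>
  ⟨h.sd.QS hq, mem_cent.2 (h.sd.QV i _ (h.sd.vV i) q hq)⟩

theorem v_Ym : v i ∈ Ym Q v i := mem_Ym.2 ⟨h.sd.v_zq i, fun _ hg => Fr.KK_comm hg⟩

theorem V_Ym {j : ι} (hj : j ≠ i) : V j ≤ Ym Q v i := fun x hx => mem_Ym.2 ⟨h.sd.V_zq j hx, fun g hg =>
  h.sd.fr.Qc i j hj _ (h.sd.vV i) (h.sd.v1 i) g (h.sd.fr.KK_le_q (h.sd.vV i) (h.sd.v1 i) hg) x hx⟩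

theorem KK_S0 (l : ι) : KK (v l) ≤ S0 (S : Subgroup G) v := fun a ha => mem_S0.2 ⟨h.sd.KS l ha, fun j => by
  by_cases hj : j = l
  · subst hj
    exact Fr.KK_comm ha
  · exact h.sd.fr.Qc l j hj _ (h.sd.vV l) (h.sd.v1 l) a (h.sd.fr.KK_le_q (h.sd.vV l) (h.sd.v1 l) ha) _ (h.sd.vV j)⟩

theorem Q_S0 : Q ≤ S0 (S : Subgroup G) v := fun q hq =>
  mem_S0.2 ⟨h.sd.QS hq, fun j => h.sd.QV j _ (h.sd.vV j) q hq⟩

theorem S0_T1 : S0 (S : Subgroup G) v ≤ (S : Subgroup G) ⊓ cz (v i) := fun _ hx =>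
  ⟨(mem_S0.1 hx).1, mem_cent.2 ((mem_S0.1 hx).2 i)⟩

theorem S_S0 : (S : Subgroup G) ≤ normalizer (S0 (S : Subgroup G) v : Set G) := by
  refine norm_of fun s hs x hx => mem_S0.2 ⟨mul_mem (mul_mem hs (mem_S0.1 hx).1) (inv_mem hs), fun j => ?_⟩
  obtain ⟨m, -, hm⟩ := h.sd.perm s⁻¹ (inv_mem hs) j
  have h1 := (mem_S0.1 hx).2 m
  calc s * x * s⁻¹ * v j = s * (x * (s⁻¹ * v j * s⁻¹⁻¹)) * s⁻¹ := by group
    _ = s * (x * v m) * s⁻¹ := by rw [hm]
    _ = s * (v m * x) * s⁻¹ := by rw [h1]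
    _ = s * ((s⁻¹ * v j * s⁻¹⁻¹) * x) * s⁻¹ := by rw [hm]
    _ = v j * (s * x * s⁻¹) := by group

theorem Z0_Ym {z : G} (hz : z ∈ zc (S0 (S : Subgroup G) v)) : z ∈ Ym Q v i := by
  have h1 := mem_zc.1 hz
  exact mem_Ym.2 ⟨h.sd.mem_zq (fun q hq => h1.2.1 q (h.Q_S0 hq)) (by rw [← pow_two]; exact h1.2.2),
    fun g hg => h1.2.1 g (h.KK_S0 i hg)⟩

theorem v_Z0 (j : ι) : v j ∈ zc (S0 (S : Subgroup G) v) :=
  mem_zc.2 ⟨h.Q_S0 (mem_zc.1 (h.sd.v_zq j)).1, fun x hx => (mem_S0.1 hx).2 j, by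
    rw [pow_two]; exact h.sd.fr.sq j _ (h.sd.vV j)⟩

theorem cc : c * c = 1 := h.sd.zq_sq h.cQ

theorem cv : c * v i = v i * c := h.sd.zq_mul_comm h.cQ (h.sd.v_zq i)

theorem yQ : c * v i ∈ zc Q := mul_mem h.cQ (h.sd.v_zq i)

omit [Finite G] h in
theorem mem_M_of {g : G} (h1 : g * v i = v i * g) (h2 : g * c = c * g) : g ∈ cz (c * v i) := mem_cent.2 (by
  calc g * (c * v i) = (g * c) * v i := by group
    _ = c * (g * v i) := by rw [h2]; group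
    _ = c * v i * g := by rw [h1]; group)

/-- `N(V_i) ∩ C(v_i) ≤ M` -/
theorem mem_M {g : G} (h1 : g * v i = v i * g) (h2 : ∀ x ∈ V i, g * x * g⁻¹ ∈ V i) : g ∈ cz (c * v i) :=
  mem_M_of h1 (h.cN g h2)

theorem T_M : T ≤ cz (c * v i) := fun t ht => h.mem_M (mem_cent.1 (h.Tc ht)) (h.TV t ht)

theorem KK_M {j : ι} (hj : j ≠ i) {p : G} (hp : p ∈ V j) (hp1 : p ≠ 1) : KK p ≤ cz (c * v i) := by
  intro g hg
  have h1 : ∀ x ∈ V i, g * x = x * g := fun x hx =>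
    h.sd.fr.Qc j i hj.symm p hp hp1 g (h.sd.fr.KK_le_q hp hp1 hg) x hx
  exact h.mem_M (h1 _ (h.sd.vV i)) fun x hx => by rw [conj_of_comm (h1 x hx)]; exact hx

theorem zq_M : zc Q ≤ cz (c * v i) := fun z hz => mem_cent.2 (h.sd.zq_mul_comm hz h.yQ)

/-- a 2-group over `T` in `C(v_i)` is `T` -/
theorem le_T {E : Subgroup G} (hE : IsPGroup 2 E) (hEv : E ≤ cz (v i)) (hTE : T ≤ E) : E ≤ T :=
  HT.LemE.le_of_odd h.Tp h.Tc h.odd hE hEv (hTE.trans le_normalizer)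

end Wd

/-- `C ≤ K` normal in `M = C_G(c v_i)`, `K/C` a 2-group, `C` centralises `Ym` -/
structure Kd [Finite G] {ι : Type} (S : Sylow 2 G) (Q : Subgroup G) (V : ι → Subgroup G) (v : ι → G) (i : ι)
    (T : Subgroup G) (c : G) (K C : Subgroup G) : Prop extends Wd S Q V v i T c where
  CK : C ≤ K
  KM : K ≤ cz (c * v i)
  nK : cz (c * v i) ≤ normalizer (K : Set G)
  nC : cz (c * v i) ≤ normalizer (C : Set G)
  pC : ∀ x ∈ K, ∃ n : ℕ, x ^ 2 ^ n ∈ C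
  CY : ∀ x ∈ C, ∀ z ∈ Ym Q v i, x * z = z * x

namespace Kd

variable [Finite G] {ι : Type} {S : Sylow 2 G} {Q : Subgroup G} {V : ι → Subgroup G} {v : ι → G} {i : ι}
  {T : Subgroup G} {c : G} {K C : Subgroup G} (h : Kd S Q V v i T c K C)
include h

/-- (1) -/
theorem fixV {j : ι} (hj : j ≠ i) {x : G} (hx : x ∈ K) (hxV : ∀ z ∈ V j, x * z * x⁻¹ ∈ V j) :
    ∀ z ∈ V j, x * z = z * x := by
  refine four_trans h.sd.fr (A := K ⊓ normalizer (V j : Set G)) (fun y hy z hz => ?_) (fun y hy => ?_)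
    (fun p hp hp1 g hg y hy => ⟨conj_mem h.nK (h.KK_M hj hp hp1 hg) hy.1, ?_⟩) x ⟨hx, mem_norm hxV⟩
  · exact (mem_normalizer_iff.1 hy.2 z).1 hz
  · obtain ⟨n, hn⟩ := h.pC y hy.1
    exact ⟨n, fun z hz => h.CY _ hn z (h.V_Ym hj hz)⟩
  · have hgN : g ∈ normalizer (V j : Set G) := by
      refine mem_norm fun z hz => ?_
      rcases h.sd.fr.KK_act hp hg (h.sd.fr.VQ j j p hp hp1 hz) with h1 | h1
      · rw [h1]; exact hz
      · rw [h1]; exact mul_mem hp hz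
    exact mul_mem (mul_mem hgN (mem_inf.1 hy).2) ((normalizer (V j : Set G)).inv_mem hgN)

/-- (1) -/
theorem K1_V {x : G} (hx : x ∈ K) (hxS : x ∈ (S : Subgroup G)) (hxv : x * v i = v i * x) {j : ι} (hj : j ≠ i) :
    ∀ z ∈ V j, x * z = z * x := by
  obtain ⟨m, hm, -⟩ := h.sd.perm x hxS j
  by_cases hmj : m = j
  · subst hmj
    exact h.fixV hj hx hm
  exfalso
  obtain ⟨b, hb, hb1, hvb⟩ := h.sd.fr.exists_other (i := j) (v j)
  obtain ⟨a, ha, hab⟩ := h.sd.fr.move (h.sd.vV j) hb (h.sd.v1 j) hb1 hvb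
  have haM := h.KK_M hj (h.sd.vV j) (h.sd.v1 j) ha
  -- `u = [a⁻¹, x]`
  have hu : a⁻¹ * x * a * x⁻¹ ∈ K := by
    refine mul_mem ?_ (inv_mem hx)
    have := conj_mem h.nK (inv_mem haM) hx
    rwa [inv_inv] at this
  -- `x a x⁻¹` centralises `V j`
  have hxa : ∀ z ∈ V j, x * a * x⁻¹ * z = z * (x * a * x⁻¹) := by
    have h1 : x * a * x⁻¹ ∈ KK (x * v j * x⁻¹) := KK_conj (h := x) ha
    have h2 : x * v j * x⁻¹ ∈ V m := hm _ (h.sd.vV j)
    have h3 : x * v j * x⁻¹ ≠ 1 := fun h0 => h.sd.v1 j (by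
      calc v j = x⁻¹ * (x * v j * x⁻¹) * x := by group
        _ = 1 := by rw [h0]; group)
    intro z hz
    exact h.sd.fr.Qc m j (Ne.symm hmj) _ h2 h3 _ (h.sd.fr.KK_le_q h2 h3 h1) z hz
  have huz : ∀ z ∈ V j, a⁻¹ * x * a * x⁻¹ * z * (a⁻¹ * x * a * x⁻¹)⁻¹ = a⁻¹ * z * a := by
    intro z hz
    calc a⁻¹ * x * a * x⁻¹ * z * (a⁻¹ * x * a * x⁻¹)⁻¹ = a⁻¹ * ((x * a * x⁻¹) * z * (x * a * x⁻¹)⁻¹) * a := by group
      _ = a⁻¹ * z * a := by rw [conj_of_comm (hxa z hz)]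
  have hai : ∀ z ∈ V j, a⁻¹ * z * a ∈ V j := by
    intro z hz
    rcases h.sd.fr.KK_act (h.sd.vV j) (inv_mem ha) (h.sd.fr.VQ j j _ (h.sd.vV j) (h.sd.v1 j) hz) with h1 | h1
    · rw [inv_inv] at h1; rw [h1]; exact hz
    · rw [inv_inv] at h1; rw [h1]; exact mul_mem (h.sd.vV j) hz
  have h1 := h.fixV hj hu (fun z hz => by rw [huz z hz]; exact hai z hz) b hb
  have h2 := huz b hb
  rw [conj_of_comm h1] at h2
  have h3 : a * b * a⁻¹ = b := by
    calc a * b * a⁻¹ = a * (a⁻¹ * b * a) * a⁻¹ := by rw [← h2]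
      _ = b := by group
  rw [hab] at h3
  exact h.sd.v1 j (mul_eq_right.1 h3)

/-- `K ∩ T_i ≤ S⁰` -/
theorem K1_S0 {x : G} (hx : x ∈ K) (hx1 : x ∈ (S : Subgroup G) ⊓ cz (v i)) : x ∈ S0 (S : Subgroup G) v := by
  refine mem_S0.2 ⟨hx1.1, fun j => ?_⟩
  by_cases hj : j = i
  · subst hj; exact mem_cent.1 hx1.2
  · exact h.K1_V hx hx1.1 (mem_cent.1 hx1.2) hj _ (h.sd.vV j)

/-- the action of `K ∩ T_i` on `Ω₁Z(Q)` -/
theorem K1_act {x : G} (hx : x ∈ K) (hx1 : x ∈ (S : Subgroup G) ⊓ cz (v i)) :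
    (∀ z ∈ zc Q, x * z = z * x) ∨ ∃ a ∈ KK (v i), ∀ z ∈ zc Q, a⁻¹ * x * z = z * (a⁻¹ * x) := by
  have hxv := mem_cent.1 hx1.2
  obtain ⟨b, hb, hb1, hvb⟩ := h.sd.fr.exists_other (i := i) (v i)
  obtain ⟨a, ha, hab⟩ := h.sd.fr.move (h.sd.vV i) hb (h.sd.v1 i) hb1 hvb
  rcases h.sd.fix_act hx1.1 hxv hb with h1 | h1
  · left
    refine h.sd.SY x hx1.1 fun j z hz => ?_
    by_cases hj : j = i
    · subst hj
      exact h.sd.fixV (h.sd.vV j) (h.sd.v1 j) hb hb1 hvb hxv (comm_of_conj h1) hz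
    · exact h.K1_V hx hx1.1 hxv hj z hz
  · right
    refine ⟨a, ha, h.sd.SY _ (mul_mem (inv_mem (h.sd.KS i ha)) hx1.1) fun j z hz => ?_⟩
    have hav : a * v i = v i * a := Fr.KK_comm ha
    have hav' : a⁻¹ * v i = v i * a⁻¹ := ((show Commute a (v i) from hav).inv_left).eq
    by_cases hj : j = i
    · subst hj
      refine h.sd.fixV (h.sd.vV j) (h.sd.v1 j) hb hb1 hvb ?_ (comm_of_conj ?_) hz
      · calc a⁻¹ * x * v j = a⁻¹ * (x * v j) := by group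
          _ = (a⁻¹ * v j) * x := by rw [hxv]; group
          _ = v j * (a⁻¹ * x) := by rw [hav']; group
      · calc a⁻¹ * x * b * (a⁻¹ * x)⁻¹ = a⁻¹ * (x * b * x⁻¹) * a := by group
          _ = a⁻¹ * (a * b * a⁻¹) * a := by rw [h1, hab]
          _ = b := by group
    · have h2 : a * z = z * a := h.sd.fr.Qc i j hj _ (h.sd.vV i) (h.sd.v1 i) a
        (h.sd.fr.KK_le_q (h.sd.vV i) (h.sd.v1 i) ha) z hz
      have h3 : a⁻¹ * z = z * a⁻¹ := ((show Commute a z from h2).inv_left).eq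
      calc a⁻¹ * x * z = a⁻¹ * (x * z) := by group
        _ = (a⁻¹ * z) * x := by rw [h.K1_V hx hx1.1 hxv hj z hz]; group
        _ = z * (a⁻¹ * x) := by rw [h3]; group

theorem K1_act' {x : G} (hx : x ∈ K) (hx1 : x ∈ (S : Subgroup G) ⊓ cz (v i)) {z : G} (hz : z ∈ zc Q) :
    x * z * x⁻¹ = z ∨ x * z * x⁻¹ = v i * z := by
  rcases h.K1_act hx hx1 with h1 | ⟨a, ha, h1⟩
  · exact Or.inl (conj_of_comm (h1 z hz))
  · have h2 : x * z * x⁻¹ = a * z * a⁻¹ := by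
      calc x * z * x⁻¹ = a * ((a⁻¹ * x) * z * (a⁻¹ * x)⁻¹) * a⁻¹ := by group
        _ = a * z * a⁻¹ := by rw [conj_of_comm (h1 z hz)]
    rw [h2]
    exact h.sd.zq_act (h.sd.vV i) (h.sd.v1 i) ha hz

theorem K1_Ym {x : G} (hx : x ∈ K) (hx1 : x ∈ (S : Subgroup G) ⊓ cz (v i)) {z : G} (hz : z ∈ Ym Q v i) :
    x * z = z * x := by
  obtain ⟨hzQ, hzK⟩ := mem_Ym.1 hz
  rcases h.K1_act hx hx1 with h1 | ⟨a, ha, h1⟩
  · exact h1 z hzQ
  · calc x * z = a * ((a⁻¹ * x) * z) := by group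
      _ = (a * z) * (a⁻¹ * x) := by rw [h1 z hzQ]; group
      _ = z * x := by rw [hzK a ha]; group

/-! #### (2) elements commuting with `T_i` modulo `K ∩ T_i` -/

omit [Finite G] h in
/-- `g ∈ K` commutes with `T_i` modulo `K ∩ T_i` -/
def _root_.Cfsg.Agent.Omega.IId.CvBig.U2W.Sh (S K : Subgroup G) (w g : G) : Prop :=
  g ∈ K ∧ ∀ t ∈ S ⊓ cz w, g * t * g⁻¹ * t⁻¹ ∈ K ∧ g * t * g⁻¹ * t⁻¹ ∈ S ⊓ cz w

theorem sh_T1 {g : G} (hg : Sh (S : Subgroup G) K (v i) g) :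
    g ∈ normalizer (((S : Subgroup G) ⊓ cz (v i) : Subgroup G) : Set G) := mem_norm fun t ht => by
  have e : g * t * g⁻¹ = (g * t * g⁻¹ * t⁻¹) * t := by group
  rw [e]
  exact mul_mem (hg.2 t ht).2 ht

/-- `g t g⁻¹ = k t`, `k ∈ K ∩ T_i` -/
theorem sh_conj {g : G} (hg : Sh (S : Subgroup G) K (v i) g) {t : G} (ht : t ∈ (S : Subgroup G) ⊓ cz (v i)) :
    ∃ k ∈ K, k ∈ (S : Subgroup G) ⊓ cz (v i) ∧ g * t * g⁻¹ = k * t :=
  ⟨g * t * g⁻¹ * t⁻¹, (hg.2 t ht).1, (hg.2 t ht).2, by group⟩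

/-- `g⁻¹ t g = k t`, `k ∈ K ∩ T_i` -/
theorem sh_inv {g : G} (hg : Sh (S : Subgroup G) K (v i) g) {t : G} (ht : t ∈ (S : Subgroup G) ⊓ cz (v i)) :
    ∃ k ∈ K, k ∈ (S : Subgroup G) ⊓ cz (v i) ∧ g⁻¹ * t * g = k * t := by
  have h1 := conj_inv_mem (h.sh_T1 hg) ht
  have h2 := hg.2 _ h1
  refine ⟨_, inv_mem h2.1, inv_mem h2.2, by group⟩

/-- the elements of `Ω₁Z(Q)` which commute with `K ∩ T_i` -/
theorem sh_zq {g : G} (hg : Sh (S : Subgroup G) K (v i) g) {z : G} (hz : z ∈ zc Q)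
    (hzK : ∀ x ∈ K, x ∈ (S : Subgroup G) ⊓ cz (v i) → x * z = z * x) :
    g * z * g⁻¹ ∈ zc Q ∧ ∀ x ∈ K, x ∈ (S : Subgroup G) ⊓ cz (v i) → x * (g * z * g⁻¹) = g * z * g⁻¹ * x := by
  have key : ∀ x : G, (g⁻¹ * x * g) * z = z * (g⁻¹ * x * g) → x * (g * z * g⁻¹) = g * z * g⁻¹ * x := by
    intro x hx
    calc x * (g * z * g⁻¹) = g * ((g⁻¹ * x * g) * z) * g⁻¹ := by group
      _ = g * z * g⁻¹ * x := by rw [hx]; group
  refine ⟨h.sd.mem_zq (fun q hq => key q ?_) ?_, fun x hx hx1 => key x ?_⟩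
  · obtain ⟨k, hk, hk1, e⟩ := h.sh_inv hg (h.QT1 hq)
    rw [e]
    calc k * q * z = k * (q * z) := by group
      _ = (k * z) * q := by rw [h.sd.zq_comm hz hq]; group
      _ = z * (k * q) := by rw [hzK k hk hk1]; group
  · have h1 := h.sd.zq_sq hz
    calc g * z * g⁻¹ * (g * z * g⁻¹) = g * (z * z) * g⁻¹ := by group
      _ = 1 := by rw [h1]; group
  · refine hzK _ ?_ (conj_inv_mem (h.sh_T1 hg) hx1)
    exact mul_mem (mul_mem (inv_mem hg.1) hx) hg.1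

theorem sh_V {g : G} (hg : Sh (S : Subgroup G) K (v i) g) {j : ι} (hj : j ≠ i) {z : G} (hz : z ∈ V j) :
    g * z * g⁻¹ ∈ zc Q ∧ ∀ x ∈ K, x ∈ (S : Subgroup G) ⊓ cz (v i) → x * (g * z * g⁻¹) = g * z * g⁻¹ * x :=
  h.sh_zq hg (h.sd.V_zq j hz) fun x hx hx1 => h.K1_V hx hx1.1 (mem_cent.1 hx1.2) hj z hz

/-- **(2)** `g` centralises `v_j`, `j ≠ i` -/
theorem sh_v {g : G} (hg : Sh (S : Subgroup G) K (v i) g) {j : ι} (hj : j ≠ i) : g * v j * g⁻¹ = v j := by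
  obtain ⟨b, hb, hb1, hvb⟩ := h.sd.fr.exists_other (i := j) (v j)
  obtain ⟨a, ha, hab⟩ := h.sd.fr.move (h.sd.vV j) hb (h.sd.v1 j) hb1 hvb
  obtain ⟨hbQ, hbK⟩ := h.sh_V hg hj hb
  obtain ⟨k, hk, hk1, e⟩ := h.sh_conj hg (h.S0_T1 (h.KK_S0 j ha))
  have h1 : g * v j * g⁻¹ * (g * b * g⁻¹) = k * (a * (g * b * g⁻¹) * a⁻¹) * k⁻¹ := by
    calc g * v j * g⁻¹ * (g * b * g⁻¹) = g * (v j * b) * g⁻¹ := by group
      _ = g * (a * b * a⁻¹) * g⁻¹ := by rw [hab]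
      _ = (g * a * g⁻¹) * (g * b * g⁻¹) * (g * a * g⁻¹)⁻¹ := by group
      _ = k * (a * (g * b * g⁻¹) * a⁻¹) * k⁻¹ := by rw [e]; group
  have hkb := conj_of_comm (hbK k hk hk1)
  rcases h.sd.zq_act (h.sd.vV j) (h.sd.v1 j) ha hbQ with h2 | h2
  · exfalso
    rw [h2, hkb] at h1
    have h3 := mul_eq_right.1 h1
    exact h.sd.v1 j (by
      calc v j = g⁻¹ * (g * v j * g⁻¹) * g := by group
        _ = 1 := by rw [h3]; group)
  · rw [h2] at h1
    have hkv : k * v j = v j * k := h.K1_V hk hk1.1 (mem_cent.1 hk1.2) hj _ (h.sd.vV j)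
    have h3 : k * (v j * (g * b * g⁻¹)) * k⁻¹ = v j * (g * b * g⁻¹) := by
      calc k * (v j * (g * b * g⁻¹)) * k⁻¹ = (k * v j) * (g * b * g⁻¹) * k⁻¹ := by group
        _ = v j * (k * (g * b * g⁻¹) * k⁻¹) := by rw [hkv]; group
        _ = v j * (g * b * g⁻¹) := by rw [hkb]
    rw [h3] at h1
    exact mul_right_cancel h1

/-! #### (3), (4) -/

theorem T1_2 : IsPGroup 2 ((S : Subgroup G) ⊓ cz (v i) : Subgroup G) := S.isPGroup'.to_le inf_le_left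

theorem T1_M : (S : Subgroup G) ⊓ cz (v i) ≤ cz (c * v i) := h.T1T.trans h.T_M

/-- **(3)** `K ∩ T = K ∩ T_i` -/
theorem KT_T1 {x : G} (hx : x ∈ K) (hxT : x ∈ T) : x ∈ (S : Subgroup G) ⊓ cz (v i) := by
  have hf : Fact (Nat.Prime 2) := ⟨Nat.prime_two⟩
  by_contra hcon
  obtain ⟨T1, hT1⟩ : ∃ T1, T1 = (S : Subgroup G) ⊓ cz (v i) := ⟨_, rfl⟩
  obtain ⟨A, hA⟩ : ∃ A, A = K ⊓ T1 := ⟨_, rfl⟩
  obtain ⟨B, hB⟩ : ∃ B, B = K ⊓ T := ⟨_, rfl⟩
  have hAB : A ≤ B := by rw [hA, hB, hT1]; exact inf_le_inf_left _ h.T1T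
  have hlt : A < B := by
    refine lt_of_le_of_ne hAB fun e => hcon ?_
    have h1 : x ∈ A := by rw [e, hB]; exact ⟨hx, hxT⟩
    rw [hA, hT1] at h1
    exact h1.2
  have hB2 : IsPGroup 2 B := by rw [hB]; exact h.Tp.to_le inf_le_right
  have hT1K : T1 ≤ normalizer (K : Set G) := by rw [hT1]; exact h.T1_M.trans h.nK
  have hT1T : T1 ≤ T := by rw [hT1]; exact h.T1T
  have hT1A : T1 ≤ normalizer (A : Set G) := norm_of fun t ht y hy => by
    rw [hA] at hy ⊢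
    exact ⟨conj_mem hT1K ht hy.1, mul_mem (mul_mem ht hy.2) (T1.inv_mem ht)⟩
  have hT1B : T1 ≤ normalizer (B : Set G) := norm_of fun t ht y hy => by
    rw [hB] at hy ⊢
    exact ⟨conj_mem hT1K ht hy.1, mul_mem (mul_mem (hT1T ht) hy.2) (T.inv_mem (hT1T ht))⟩
  have hlt2 := Lib.GoldschmidtFusion.lt_inf_normalizer hB2 hlt
  obtain ⟨t, ht, htA, htT⟩ := SideOf.exists_fixed_mod (T := T1) (not_le_of_gt hlt2) inf_le_right
    (hB2.to_le inf_le_left) (by rw [hT1]; exact h.T1_2) hT1A (norm_of fun s hs y hy =>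
      ⟨conj_mem hT1B hs hy.1, mul_mem (mul_mem (hT1A hs) hy.2) ((normalizer (A : Set G)).inv_mem (hT1A hs))⟩)
  have htB : t ∈ K ∧ t ∈ T := by
    have := ht.1
    rw [hB] at this
    exact this
  have hSh : Sh (S : Subgroup G) K (v i) t := by
    refine ⟨htB.1, fun s hs => ?_⟩
    rw [← hT1] at hs ⊢
    have h1 := inv_mem (htT s hs)
    have e : (s * t * s⁻¹ * t⁻¹)⁻¹ = t * s * t⁻¹ * s⁻¹ := by group
    rw [e, hA] at h1
    exact h1
  have htv : t * v i = v i * t := mem_cent.1 (h.Tc htB.2)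
  have htv' : t⁻¹ * v i = v i * t⁻¹ := ((show Commute t (v i) from htv).inv_left).eq
  have hfix : ∀ l, t * v l * t⁻¹ = v l := fun l => by
    by_cases hl : l = i
    · rw [hl]; exact conj_of_comm htv
    · exact h.sh_v hSh hl
  have htLL : t ∈ LL v := mem_LL.2 ⟨fun l => ⟨l, hfix l⟩, fun l => ⟨l, by
    calc t⁻¹ * v l * t = t⁻¹ * (t * v l * t⁻¹) * t := by rw [hfix l]
      _ = v l := by group⟩⟩
  have hX : (T1 ⊔ zpowers t : Subgroup G) ≤ T := sup_le hT1T (zpowers_le.2 htB.2)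
  have h1 := h.sd.kp i (X := T1 ⊔ zpowers t) (h.Tp.to_le hX) (hX.trans h.Tc) (by rw [hT1]; exact le_sup_left)
    (sup_le (by rw [hT1]; exact inf_le_left.trans h.sd.S_LL) (zpowers_le.2 htLL))
  apply htA
  rw [hA, hT1]
  exact ⟨htB.1, h1 (mem_sup_right (mem_zpowers t))⟩

/-- **(4)** `K ∩ C(v_i)` centralises `Ym` -/
theorem comm_of_cz {u : G} (hu : u ∈ K) (huv : u ∈ cz (v i)) {z : G} (hz : z ∈ Ym Q v i) : u * z = z * u := by
  have hCv : C ≤ cz (v i) := fun x hx => mem_cent.2 (h.CY x hx _ h.v_Ym)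
  have hle : K ⊓ cz (v i) ≤ C ⊔ (T ⊓ (K ⊓ cz (v i))) := by
    refine le_sup_of_odd (H := cz (v i) ⊓ cz (c * v i)) h.Tp ?_ (le_inf inf_le_right (inf_le_left.trans h.KM)) ?_
      (inf_le_right.trans h.nC) (fun x hx => h.pC x hx.1)
    · intro hd
      apply h.odd
      rw [← relIndex_mul_relIndex T _ (cz (v i)) (le_inf h.Tc h.T_M) inf_le_left]
      exact hd.mul_right _
    · exact norm_of fun g hg x hx => ⟨conj_mem h.nK hg.2 hx.1, mul_mem (mul_mem hg.1 hx.2) ((cz (v i)).inv_mem hg.1)⟩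
  have h2 : K ⊓ cz (v i) ≤ centralizer (Ym Q v i : Set G) := by
    refine hle.trans (sup_le (fun x hx => ?_) fun x hx => ?_)
    · exact mem_centralizer_iff.2 fun y hy => (h.CY x hx y hy).symm
    · exact mem_centralizer_iff.2 fun y hy => (h.K1_Ym hx.2.1 (h.KT_T1 hx.2.1 hx.1) hy).symm
  exact (mem_centralizer_iff.1 (h2 ⟨hu, huv⟩) z hz).symm

/-- (4) the element `w` -/
theorem exists_w (hK : ¬ K ≤ cz (v i)) :
    ∃ w ∈ K, w ∈ normalizer (T : Set G) ∧ w * w ∈ T ∧ w ∉ cz (v i) := by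
  have hf : Fact (Nat.Prime 2) := ⟨Nat.prime_two⟩
  have hTK : T ≤ normalizer (K : Set G) := h.T_M.trans h.nK
  have hCv : C ≤ cz (v i) := fun x hx => mem_cent.2 (h.CY x hx _ h.v_Ym)
  obtain ⟨H, hH⟩ : ∃ H, H = K ⊔ T := ⟨_, rfl⟩
  have hTH : T ≤ H := by rw [hH]; exact le_sup_right
  have hHM : H ≤ cz (c * v i) := by rw [hH]; exact sup_le h.KM h.T_M
  by_cases hodd : ¬ 2 ∣ T.relIndex H
  · exfalso
    apply hK
    have h1 := le_sup_of_odd (H := H) (K := K) (C := C) h.Tp hodd (by rw [hH]; exact le_sup_left)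
      (hHM.trans h.nK) (hHM.trans h.nC) h.pC
    exact h1.trans (sup_le hCv (inf_le_left.trans h.Tc))
  have hodd : 2 ∣ T.relIndex H := not_not.1 hodd
  have h1 : IsPGroup 2 (T.subgroupOf H) := h.Tp.comap_of_injective _ H.subtype_injective
  obtain ⟨R', hR'⟩ := h1.exists_le_sylow
  obtain ⟨R, hR⟩ : ∃ R : Subgroup G, R = (R' : Subgroup H).map H.subtype := ⟨_, rfl⟩
  have hR2 : IsPGroup 2 R := by rw [hR]; exact R'.isPGroup'.map _
  have hRH : R ≤ H := by rw [hR]; exact map_subtype_le _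
  have hTR : T ≤ R := by
    intro t ht
    rw [hR]
    exact ⟨⟨t, hTH ht⟩, hR' (mem_subgroupOf.2 ht), rfl⟩
  have hlt : T < R := by
    refine lt_of_le_of_ne hTR fun e => ?_
    apply R'.not_dvd_index
    have e1 : T.subgroupOf H = (R' : Subgroup H) := by
      rw [e, hR]
      exact comap_map_eq_self_of_injective H.subtype_injective _
    rw [← e1]
    exact hodd
  have hlt2 := Lib.GoldschmidtFusion.lt_inf_normalizer hR2 hlt
  obtain ⟨w₀, hw₀, hw₀T⟩ := SetLike.exists_of_lt hlt2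
  -- `w₀ = κ τ`
  have h3 : w₀ ∈ ((K ⊔ T : Subgroup G) : Set G) := by rw [← hH]; exact hRH hw₀.1
  rw [coe_mul_of_right_le_normalizer_left _ _ hTK] at h3
  obtain ⟨κ, hκ, τ, hτ, e⟩ := h3
  have e' : κ = w₀ * τ⁻¹ := by rw [← e]; group
  have hκR : κ ∈ R := by rw [e']; exact mul_mem hw₀.1 (inv_mem (hTR hτ))
  have hκN : κ ∈ normalizer (T : Set G) := by
    rw [e']
    exact mul_mem hw₀.2 (inv_mem (le_normalizer hτ))
  have hκT : κ ∉ T := fun h0 => hw₀T (by rw [← e]; exact mul_mem h0 hτ)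
  obtain ⟨n, hn⟩ : ∃ n : ℕ, κ ^ 2 ^ n ∈ T := by
    obtain ⟨n, hn⟩ := hR2 ⟨κ, hκR⟩
    refine ⟨n, ?_⟩
    have : κ ^ 2 ^ n = 1 := congrArg Subtype.val hn
    rw [this]; exact one_mem _
  obtain ⟨m, hm1, hm2⟩ := exists_sq hκT ⟨n, hn⟩
  refine ⟨κ ^ 2 ^ m, pow_mem hκ _, pow_mem hκN _, hm2, fun hc => hm1 ?_⟩
  exact h.le_T (E := R ⊓ cz (v i)) (hR2.to_le inf_le_left) inf_le_right (le_inf hTR h.Tc) ⟨pow_mem hκR _, hc⟩

theorem sh_of_N {w : G} (hw : w ∈ K) (hwT : w ∈ normalizer (T : Set G)) : Sh (S : Subgroup G) K (v i) w := by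
  refine ⟨hw, fun t ht => ?_⟩
  have htT := h.T1T ht
  have h1 : w * t * w⁻¹ * t⁻¹ ∈ K := by
    have h2 := mul_mem hw (conj_mem h.nK (h.T_M htT) (inv_mem hw))
    have e : w * (t * w⁻¹ * t⁻¹) = w * t * w⁻¹ * t⁻¹ := by group
    rwa [e] at h2
  exact ⟨h1, h.KT_T1 h1 (mul_mem ((mem_normalizer_iff.1 hwT t).1 htT) (inv_mem htT))⟩

/-! #### (5), (6) -/

/-- **(5)** `p = w v_i w⁻¹` is centralised by `W_r`, `r ∈ V j`, `j ≠ i` -/
theorem p_CX {w : G} (hw : w ∈ K) (hwT : w ∈ normalizer (T : Set G)) (hww : w * w ∈ T) (hwv : w ∉ cz (v i)) {j : ι}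
    (hj : j ≠ i) : w * v i * w⁻¹ ∈ CX V j := by
  have hSh := h.sh_of_N hw hwT
  have hU := h.hU w hwT hww hwv
  obtain ⟨b, hb, hb1, hvb⟩ := h.sd.fr.exists_other (i := i) (v i)
  obtain ⟨a, ha, hab⟩ := h.sd.fr.move (h.sd.vV i) hb (h.sd.v1 i) hb1 hvb
  obtain ⟨p, hp⟩ : ∃ p, p = w * v i * w⁻¹ := ⟨_, rfl⟩
  obtain ⟨f, hf⟩ : ∃ f, f = w * b * w⁻¹ := ⟨_, rfl⟩
  rw [← hp]
  have hp1 : p ≠ 1 := fun h0 => h.sd.v1 i (by
    calc v i = w⁻¹ * (w * v i * w⁻¹) * w := by group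
      _ = 1 := by rw [← hp, h0]; group)
  have hfU : f ∈ zc (qz (v i)) := hf ▸ hU b hb
  -- the action of `T` on `f`
  have hTf : ∀ t ∈ T, t * f * t⁻¹ = f ∨ t * f * t⁻¹ = p * f := by
    intro t ht
    obtain ⟨s, hs⟩ : ∃ s, s = w⁻¹ * t * w := ⟨_, rfl⟩
    have hsT : s ∈ T := hs ▸ conj_inv_mem hwT ht
    have e : t * f * t⁻¹ = w * (s * b * s⁻¹) * w⁻¹ := by rw [hf, hs]; group
    have hsv : s * v i = v i * s := mem_cent.1 (h.Tc hsT)
    have h1 := h.TV s hsT b hb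
    have h2 : s * b * s⁻¹ = b ∨ s * b * s⁻¹ = v i * b := by
      rcases h.sd.fr.cases4 (h.sd.vV i) hb (h.sd.v1 i) hb1 hvb h1 with h2 | h2 | h2 | h2
      · exfalso
        apply hb1
        calc b = s⁻¹ * (s * b * s⁻¹) * s := by group
          _ = 1 := by rw [h2]; group
      · exfalso
        apply hvb
        calc v i = s⁻¹ * (s * v i) := by group
          _ = s⁻¹ * (v i * s) := by rw [hsv]
          _ = s⁻¹ * ((s * b * s⁻¹) * s) := by rw [h2]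
          _ = b := by group
      · exact Or.inl h2
      · exact Or.inr h2
    rcases h2 with h2 | h2
    · left; rw [e, h2, hf]
    · right; rw [e, h2, hf, hp]; group
  have hQT : Q ≤ T := h.QT1.trans h.T1T
  by_cases hex : ∃ q ∈ Q, q * f * q⁻¹ = p * f
  · exact (h.sd.one' hfU hp1 (fun q hq => hTf q (hQT hq)) hex).2 j hj
  exfalso
  push Not at hex
  have hfQ : f ∈ zc Q := by
    refine h.sd.mem_zq (fun q hq => comm_of_conj ((hTf q (hQT hq)).resolve_right (hex q hq))) ?_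
    have := (mem_zc.1 hfU).2.2
    rwa [pow_two] at this
  obtain ⟨k, hk, hk1, e⟩ := h.sh_conj hSh (h.S0_T1 (h.KK_S0 i ha))
  have hkv : k * v i = v i * k := mem_cent.1 hk1.2
  have hvv := h.sd.fr.sq i _ (h.sd.vV i)
  have h1 : p * f = k * (a * f * a⁻¹) * k⁻¹ := by
    calc p * f = w * (v i * b) * w⁻¹ := by rw [hp, hf]; group
      _ = w * (a * b * a⁻¹) * w⁻¹ := by rw [hab]
      _ = (w * a * w⁻¹) * (w * b * w⁻¹) * (w * a * w⁻¹)⁻¹ := by group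
      _ = k * (a * f * a⁻¹) * k⁻¹ := by rw [e, ← hf]; group
  have h2 : p * f = f ∨ p * f = v i * f := by
    rcases h.sd.zq_act (h.sd.vV i) (h.sd.v1 i) ha hfQ with h2 | h2
    · rw [h1, h2]
      exact h.K1_act' hk hk1 hfQ
    · have h3 : k * (v i * f) * k⁻¹ = v i * (k * f * k⁻¹) := by
        calc k * (v i * f) * k⁻¹ = (k * v i) * f * k⁻¹ := by group
          _ = v i * (k * f * k⁻¹) := by rw [hkv]; group
      rw [h1, h2, h3]
      rcases h.K1_act' hk hk1 hfQ with h4 | h4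
      · right; rw [h4]
      · left; rw [h4, ← mul_assoc, hvv, one_mul]
  rcases h2 with h2 | h2
  · exact hp1 (mul_eq_right.1 h2)
  · apply hwv
    refine mem_cent.2 (comm_of_conj ?_)
    rw [← hp]
    exact mul_right_cancel h2

/-- **(6)** `w` centralises `V j`, `j ≠ i` -/
theorem w_V {w : G} (hw : w ∈ K) (hwT : w ∈ normalizer (T : Set G)) (hww : w * w ∈ T) (hwv : w ∉ cz (v i)) {j : ι}
    (hj : j ≠ i) : ∀ z ∈ V j, w * z = z * w := by
  have hSh := h.sh_of_N hw hwT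
  have hp := h.p_CX hw hwT hww hwv hj
  have star : ∀ r ∈ V j, r ≠ 1 → ∀ g ∈ KK r, ∀ z ∈ V j, g * z * g⁻¹ ∈ V j →
      g * (w * z * w⁻¹) * g⁻¹ = w * (g * z * g⁻¹) * w⁻¹ := by
    intro r hr hr1 g hg z hz hgz
    have hgM := h.KK_M hj hr hr1 hg
    have hgv : g * v i = v i * g :=
      h.sd.fr.Qc j i hj.symm r hr hr1 g (h.sd.fr.KK_le_q hr hr1 hg) _ (h.sd.vV i)
    have hgp := hp r hr hr1 g hg
    have hu : w⁻¹ * (g * w * g⁻¹) ∈ K := mul_mem (inv_mem hw) (conj_mem h.nK hgM hw)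
    have hgv' : g⁻¹ * v i * g = v i := by
      calc g⁻¹ * v i * g = g⁻¹ * (v i * g) := by group
        _ = v i := by rw [← hgv]; group
    have huv : w⁻¹ * (g * w * g⁻¹) ∈ cz (v i) := by
      refine mem_cent.2 (comm_of_conj ?_)
      calc w⁻¹ * (g * w * g⁻¹) * v i * (w⁻¹ * (g * w * g⁻¹))⁻¹
          = w⁻¹ * (g * (w * (g⁻¹ * v i * g) * w⁻¹) * g⁻¹) * w := by group
        _ = w⁻¹ * (w * v i * w⁻¹) * w := by rw [hgv', conj_of_comm hgp]
        _ = v i := by group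
    have h1 := conj_of_comm (h.comm_of_cz hu huv (h.V_Ym hj hgz))
    calc g * (w * z * w⁻¹) * g⁻¹
        = w * (w⁻¹ * (g * w * g⁻¹) * (g * z * g⁻¹) * (w⁻¹ * (g * w * g⁻¹))⁻¹) * w⁻¹ := by group
      _ = w * (g * z * g⁻¹) * w⁻¹ := by rw [h1]
  intro r hr
  by_cases hr1 : r = 1
  · rw [hr1, mul_one, one_mul]
  obtain ⟨z, hz, hz1, hrz⟩ := h.sd.fr.exists_other (i := j) r
  obtain ⟨g, hg, hgz⟩ := h.sd.fr.move hr hz hr1 hz1 hrz
  have h1 := star r hr hr1 g hg z hz (by rw [hgz]; exact mul_mem hr hz)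
  rw [hgz] at h1
  have h2 : w * (r * z) * w⁻¹ = w * r * w⁻¹ * (w * z * w⁻¹) := by group
  rw [h2] at h1
  apply comm_of_conj
  rcases h.sd.zq_act hr hr1 hg (h.sh_V hSh hj hz).1 with h3 | h3
  · exfalso
    rw [h3] at h1
    have h4 := mul_eq_right.1 h1.symm
    exact hr1 (by
      calc r = w⁻¹ * (w * r * w⁻¹) * w := by group
        _ = 1 := by rw [h4]; group)
  · rw [h3] at h1
    exact (mul_right_cancel h1).symm

/-! #### (7) -/

/-- **LEMMA W**, first part: `K` centralises `v_i` -/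
theorem le_cz : K ≤ cz (v i) := by
  by_contra hcon
  obtain ⟨w, hw, hwT, hww, hwv⟩ := h.exists_w hcon
  have hwV := fun {j : ι} (hj : j ≠ i) => h.w_V hw hwT hww hwv hj
  -- `N₁`
  obtain ⟨N₁, hN₁⟩ : ∃ N₁ : Subgroup G, N₁ = centralizer {x : G | ∃ s ∈ (S : Subgroup G), x = s * (c * v i) * s⁻¹} :=
    ⟨_, rfl⟩
  have mem_N₁ : ∀ {x : G}, x ∈ N₁ ↔ ∀ s ∈ (S : Subgroup G), s * (c * v i) * s⁻¹ * x = x * (s * (c * v i) * s⁻¹) := by
    intro x
    rw [hN₁, mem_centralizer_iff]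
    exact ⟨fun h1 s hs => h1 _ ⟨s, hs, rfl⟩, fun h1 y ⟨s, hs, e⟩ => e ▸ h1 s hs⟩
  have hN₁M : N₁ ≤ cz (c * v i) := fun x hx => by
    have := mem_N₁.1 hx 1 (one_mem _)
    rw [one_mul, inv_one, mul_one] at this
    exact mem_cent.2 this.symm
  have hSN₁ : (S : Subgroup G) ≤ normalizer (N₁ : Set G) := by
    refine norm_of fun s hs x hx => mem_N₁.2 fun t ht => ?_
    have h1 := mem_N₁.1 hx (s⁻¹ * t) (mul_mem (inv_mem hs) ht)
    calc t * (c * v i) * t⁻¹ * (s * x * s⁻¹)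
        = s * (s⁻¹ * t * (c * v i) * (s⁻¹ * t)⁻¹ * x) * s⁻¹ := by group
      _ = s * x * s⁻¹ * (t * (c * v i) * t⁻¹) := by rw [h1]; group
  -- `w ∈ N₁`
  have hwN : w ∈ N₁ := by
    refine mem_N₁.2 fun s hs => ?_
    obtain ⟨m, hm, hsm⟩ := h.sd.perm s hs i
    by_cases hmi : m = i
    · subst hmi
      have hsv : s * v m = v m * s := comm_of_conj hsm
      have hsc := h.cN s hm
      have e : s * (c * v m) * s⁻¹ = c * v m := conj_of_comm (by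
        calc s * (c * v m) = (s * c) * v m := by group
          _ = c * (s * v m) := by rw [hsc]; group
          _ = c * v m * s := by rw [hsv]; group)
      rw [e]
      exact (mem_cent.1 (h.KM hw)).symm
    · have h1 : ∀ x ∈ V i, (s⁻¹ * w * s) * x = x * (s⁻¹ * w * s) := by
        intro x hx
        have h2 := hwV hmi _ (hm x hx)
        calc (s⁻¹ * w * s) * x = s⁻¹ * (w * (s * x * s⁻¹)) * s := by group
          _ = x * (s⁻¹ * w * s) := by rw [h2]; group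
      have h2 := h.mem_M (h1 _ (h.sd.vV i)) (fun x hx => by rw [conj_of_comm (h1 x hx)]; exact hx)
      have h3 := mem_cent.1 h2
      calc s * (c * v i) * s⁻¹ * w = s * (c * v i * (s⁻¹ * w * s)) * s⁻¹ := by group
        _ = w * (s * (c * v i) * s⁻¹) := by rw [← h3]; group
  have hodd : ¬ 2 ∣ ((S : Subgroup G) ⊓ N₁).relIndex N₁ :=
    Cfsg.Agent.Omega.ThmC.TwoOf.not_dvd_relIndex_inf (P := (S : Subgroup G) ⊔ N₁) le_sup_left le_sup_right
      (sup_le hSN₁ le_normalizer) (MinSimple.Basic.not_dvd_relIndex S le_sup_left)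
  have hle : K ⊓ N₁ ≤ (C ⊓ N₁) ⊔ (((S : Subgroup G) ⊓ N₁) ⊓ (K ⊓ N₁)) := by
    refine le_sup_of_odd (H := N₁) (S.isPGroup'.to_le inf_le_left) hodd inf_le_right ?_ ?_ (fun x hx => ?_)
    · exact norm_of fun g hg x hx => ⟨conj_mem h.nK (hN₁M hg) hx.1, mul_mem (mul_mem hg hx.2) (N₁.inv_mem hg)⟩
    · exact norm_of fun g hg x hx => ⟨conj_mem h.nC (hN₁M hg) hx.1, mul_mem (mul_mem hg hx.2) (N₁.inv_mem hg)⟩
    · obtain ⟨n, hn⟩ := h.pC x hx.1
      exact ⟨n, hn, pow_mem hx.2 _⟩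
  have h3 : w ∈ (((C ⊓ N₁) ⊔ (((S : Subgroup G) ⊓ N₁) ⊓ (K ⊓ N₁)) : Subgroup G) : Set G) := hle ⟨hw, hwN⟩
  have hnor : (((S : Subgroup G) ⊓ N₁) ⊓ (K ⊓ N₁) : Subgroup G) ≤ normalizer ((C ⊓ N₁ : Subgroup G) : Set G) :=
    norm_of fun g hg x hx => mem_inf.2 ⟨conj_mem h.nC (hN₁M hg.1.2) hx.1,
      mul_mem (mul_mem hg.1.2 hx.2) (N₁.inv_mem hg.1.2)⟩
  rw [coe_mul_of_right_le_normalizer_left _ _ hnor] at h3
  obtain ⟨x, hx, s, hs, e⟩ := h3
  have hxC : x ∈ C := hx.1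
  have hsS : s ∈ (S : Subgroup G) := hs.1.1
  have hxv : ∀ l, x * v l = v l * x := fun l => by
    by_cases hl : l = i
    · subst hl; exact h.CY x hxC _ h.v_Ym
    · exact h.CY x hxC _ (h.V_Ym hl (h.sd.vV l))
  have es : s = x⁻¹ * w := by rw [← e]; group
  have hsv : ∀ l, l ≠ i → s * v l * s⁻¹ = v l := by
    intro l hl
    have h4 := hwV hl _ (h.sd.vV l)
    calc s * v l * s⁻¹ = x⁻¹ * (w * v l) * w⁻¹ * x := by rw [es]; group
      _ = x⁻¹ * (v l * x) := by rw [h4]; group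
      _ = v l := by rw [← hxv l]; group
  obtain ⟨m, -, hm⟩ := h.sd.perm s hsS i
  have hmi : m = i := by
    by_contra hmi
    have h4 := hsv m hmi
    have h5 : v i = v m := mul_left_cancel (mul_right_cancel (hm.trans h4.symm))
    exact hmi (h.sd.v_inj h5).symm
  rw [hmi] at hm
  apply hwv
  refine mem_cent.2 (comm_of_conj ?_)
  have ew : w = x * s := e.symm
  calc w * v i * w⁻¹ = x * (s * v i * s⁻¹) * x⁻¹ := by rw [ew]; group
    _ = v i := by rw [hm]; exact conj_of_comm (hxv i)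

/-- **LEMMA W**, second part: `K` centralises `Ym` -/
theorem comm_Ym {u : G} (hu : u ∈ K) {z : G} (hz : z ∈ Ym Q v i) : u * z = z * u :=
  h.comm_of_cz hu (h.le_cz hu) hz

end Kd

/-! ### The module `Y` -/

namespace Wd

variable [Finite G] {ι : Type} {S : Sylow 2 G} {Q : Subgroup G} {V : ι → Subgroup G} {v : ι → G} {i : ι}
  {T : Subgroup G} {c : G} (h : Wd S Q V v i T c)
include h

theorem y_ne : c * v i ≠ 1 := by
  intro h0
  have h1 : c = v i := by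
    have := eq_inv_of_mul_eq_one_left h0
    rwa [inv_eq_of_mul_eq_one_left (h.sd.fr.sq i _ (h.sd.vV i))] at this
  obtain ⟨b, hb, hb1, hvb⟩ := h.sd.fr.exists_other (i := i) (v i)
  obtain ⟨g, hg, hgv⟩ := h.sd.fr.move hb (h.sd.vV i) hb1 (h.sd.v1 i) (Ne.symm hvb)
  have h2 : ∀ x ∈ V i, g * x * g⁻¹ ∈ V i := by
    intro x hx
    rcases h.sd.fr.KK_act hb hg (h.sd.fr.VQ i i b hb hb1 hx) with h3 | h3
    · rw [h3]; exact hx
    · rw [h3]; exact mul_mem hb hx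
  have h3 := conj_of_comm (h.cN g h2)
  rw [h1, hgv] at h3
  exact hb1 (mul_eq_right.1 h3)

theorem y_sq : c * v i * (c * v i) = 1 := h.sd.zq_sq h.yQ

/-- **the module `Y` of `C_G(c v_i)`** -/
theorem exists_Y (hG : IsCharacteristicTwoType G) :
    ∃ Y ≤ cz (c * v i), HT.TComp.GSysW (cz (c * v i)) Y (v i) := by
  obtain ⟨M, hM⟩ : ∃ M, M = cz (c * v i) := ⟨_, rfl⟩
  have hc2 : M ⊓ centralizer (o2 M : Set G) ≤ o2 M := by
    rw [hM]; exact Big.Supply.cz_char2 hG h.y_sq h.y_ne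
  have hYM : Ym Q v i ≤ M := by rw [hM]; exact inf_le_left.trans h.zq_M
  -- `O₂(M)`
  have hO : Kd S Q V v i T c (o2 M) ⊥ :=
    { toWd := h
      CK := bot_le
      KM := by rw [hM]; exact o2_le _
      nK := by rw [hM]; exact le_normalizer_o2 _
      nC := fun g _ => mem_norm fun x hx => by
        rw [mem_bot.1 hx]; simp
      pC := fun x hx => by
        obtain ⟨n, hn⟩ := o2_isPGroup M ⟨x, hx⟩
        exact ⟨n, mem_bot.2 (congrArg Subtype.val hn)⟩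
      CY := fun x hx z _ => by rw [mem_bot.1 hx, one_mul, mul_one] }
  have hYO : Ym Q v i ≤ zc (o2 M) := by
    intro z hz
    have h1 : z ∈ centralizer (o2 M : Set G) := mem_centralizer_iff.2 fun u hu => hO.comm_Ym hu hz
    refine mem_zc.2 ⟨hc2 ⟨hYM hz, h1⟩, fun u hu => mem_centralizer_iff.1 h1 u hu, ?_⟩
    rw [pow_two]; exact h.sd.zq_sq (mem_Ym.1 hz).1
  obtain ⟨N, hN⟩ : ∃ N, N = Big.cl (Ym Q v i) M := ⟨_, rfl⟩
  have hMz : M ≤ normalizer (zc (o2 M) : Set G) := (le_normalizer_o2 M).trans (normalizer_le_normalizer_zc _)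
  have hNz : N ≤ zc (o2 M) := by
    rw [hN]
    exact Big.cl_le fun m hm a ha => conj_mem hMz hm (hYO ha)
  have hMN : M ≤ normalizer (N : Set G) := by rw [hN]; exact Big.cl_norm
  have hYN : Ym Q v i ≤ N := by rw [hN]; exact Big.le_cl
  have sq : ∀ x ∈ N, x * x = 1 := fun x hx => by
    have := (mem_zc.1 (hNz hx)).2.2
    rwa [pow_two] at this
  have nor : ∀ m ∈ M, ∀ n ∈ N, m * n * m⁻¹ ∈ N := fun m hm n hn => conj_mem hMN hm hn
  have core : ∀ B : Subgroup G, B ≤ M → (∀ m ∈ M, ∀ b ∈ B, m * b * m⁻¹ ∈ B) →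
      (∀ b ∈ B, ∀ n ∈ N, b * b * n = n * (b * b)) → ∀ b ∈ B, ∀ n ∈ N, b * n = n * b := by
    intro B hBM hMB hB2
    have hK : Kd S Q V v i T c B (B ⊓ centralizer (N : Set G)) :=
      { toWd := h
        CK := inf_le_left
        KM := by rw [← hM]; exact hBM
        nK := by rw [← hM]; exact norm_of hMB
        nC := by
          rw [← hM]
          refine norm_of fun m hm x hx => ⟨hMB m hm x hx.1, mem_centralizer_iff.2 fun n hn => ?_⟩
          have h1 := mem_centralizer_iff.1 hx.2 _ (conj_inv_mem (hMN hm) hn)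
          calc n * (m * x * m⁻¹) = m * ((m⁻¹ * n * m) * x) * m⁻¹ := by group
            _ = m * x * m⁻¹ * n := by rw [h1]; group
        pC := fun x hx => ⟨1, by
          rw [pow_one, pow_two]
          exact ⟨mul_mem hx hx, mem_centralizer_iff.2 fun n hn => (hB2 x hx n hn).symm⟩⟩
        CY := fun x hx z hz => (mem_centralizer_iff.1 hx.2 z (hYN hz)).symm }
    intro b hb n hn
    rw [hN] at hn
    refine Big.cent_of_cl (fun m hm a ha => ?_) hn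
    have h1 : m⁻¹ * b * m ∈ B := by
      have := hMB m⁻¹ (inv_mem hm) b hb
      rwa [inv_inv] at this
    have h2 := hK.comm_Ym h1 ha
    calc b * (m * a * m⁻¹) = m * ((m⁻¹ * b * m) * a) * m⁻¹ := by group
      _ = m * a * m⁻¹ * b := by rw [h2]; group
  rw [← hM]
  refine ⟨N, hNz.trans ((ZN.zc_le _).trans (o2_le _)), sq, nor, hYN h.v_Ym, h.sd.v1 i, ?_⟩
  intro U hU hCU m hm h1 h2
  exact HT.TComp.chain_of_core sq nor core hU hCU hm h1 h2

end Wd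

end Cfsg.Agent.Omega.IId.CvBig.U2W

end
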